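import Groth.Agent.LoccohB.TopRepBound
import Groth.Agent.LoccohB.TopBridge540
import Groth.Agent.Flat2G.NoethVanish
import Groth.Agent.S1767
import Groth.Agent.PerfA.CompactPerf
import Groth.Prelude.Def_RelCanon
import Groth.Prelude.Def_Cyc
import Mathlib.AlgebraicGeometry.Modules.Tilde

/-!
# The degree `-d` cohomology of the right adjoint of `Rf_*` is a `d`-dualizing sheaf

For `f : Y ⟶ Spec A` proper with `A` Noetherian and fibres of dimension at most `d`, and `a` a right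
adjoint of `Rf_*` on `D_QCoh`, `O` isomorphic to `O_{Spec A}[0]`:
* `isLE_single`: `Rf_*` of a quasi-coherent module in degree `n` is `≤ n + d`;
* `isGE_a`: `a(O)` is `≥ -d`;
* `isDualizingSheaf_HD`: `H^{-d}(a(O))` is `d`-dualizing for `Y` over `A`;
* `iso_of_isDualizingSheaf`: two `d`-dualizing sheaves are isomorphic.
-/

set_option autoImplicit false
universe u
open CategoryTheory CategoryTheory.Limits AlgebraicGeometry TopologicalSpace Opposite
attribute [local instance] HasDerivedCategory.standard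

namespace K968.Compare1

open Groth.Agent.LoccohB Groth.Agent

section Uniq

variable (A : Type u) [CommRing A] (Y : Scheme.{u}) [Y.Over (Spec (CommRingCat.of A))]

theorem HHlin_comp {F G H : Y.Modules} (φ : F ⟶ G) (ψ : G ⟶ H) (r : ℕ) :
    Canon.HHlin A (φ ≫ ψ) r = Canon.HHlin A ψ r ∘ₗ Canon.HHlin A φ r :=
  LinearMap.ext fun x => LinearMap.congr_fun (CurvesC.HV.map_comp A φ ψ r) x

theorem HHlin_id (F : Y.Modules) (r : ℕ) :
    Canon.HHlin A (𝟙 F) r = LinearMap.id :=
  LinearMap.ext fun x => LinearMap.congr_fun (CurvesC.HV.map_id A (F := F) r) x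

variable {A Y} {d : ℕ} {ω ω' : Y.Modules}

/-- Two `d`-dualizing pairs are isomorphic as pairs. -/
theorem exists_iso_of_isRDualOver {tr : Coh.HH Y ω d →ₗ[A] A} {tr' : Coh.HH Y ω' d →ₗ[A] A}
    (h : Canon.IsRDualOver A Y d ω tr) (h' : Canon.IsRDualOver A Y d ω' tr') :
    ∃ e : ω ≅ ω', tr = tr' ∘ₗ Canon.HHlin A e.hom d := by
  obtain ⟨φ, hφ⟩ := (h'.2 ω h.1).2 tr
  obtain ⟨ψ, hψ⟩ := (h.2 ω' h'.1).2 tr'
  dsimp only [Canon.dualityMap] at hφ hψ
  have h1 : φ ≫ ψ = 𝟙 ω := by
    apply (h.2 ω h.1).1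
    dsimp only [Canon.dualityMap]
    rw [HHlin_comp, ← LinearMap.comp_assoc, hψ, hφ, HHlin_id, LinearMap.comp_id]
  have h2 : ψ ≫ φ = 𝟙 ω' := by
    apply (h'.2 ω' h'.1).1
    dsimp only [Canon.dualityMap]
    rw [HHlin_comp, ← LinearMap.comp_assoc, hφ, hψ, HHlin_id, LinearMap.comp_id]
  exact ⟨⟨φ, ψ, h1, h2⟩, hφ.symm⟩

/-- The dualizing sheaf is unique up to isomorphism. -/
theorem iso_of_isDualizingSheaf (h : RelCanon.IsDualizingSheaf A Y d ω)
    (h' : RelCanon.IsDualizingSheaf A Y d ω') : Nonempty (ω ≅ ω') := by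
  obtain ⟨tr, h⟩ := h
  obtain ⟨tr', h'⟩ := h'
  obtain ⟨e, -⟩ := exists_iso_of_isRDualOver h h'
  exact ⟨e⟩

theorem isDualizingSheaf_of_iso (h : RelCanon.IsDualizingSheaf A Y d ω) (e : ω ≅ ω') :
    RelCanon.IsDualizingSheaf A Y d ω' := by
  obtain ⟨tr, h1, h2⟩ := h
  refine ⟨tr ∘ₗ Canon.HHlin A e.inv d, ?_, fun F hF => ?_⟩
  · exact (SheafOfModules.isQuasicoherent Y.ringCatSheaf).prop_of_iso e h1
  · convert (h2 F hF).comp (e.homToEquiv (Z := F)).symm.bijective using 1
    funext φ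
    change (tr ∘ₗ Canon.HHlin A e.inv d) ∘ₗ Canon.HHlin A φ d = tr ∘ₗ Canon.HHlin A (φ ≫ e.inv) d
    rw [HHlin_comp, LinearMap.comp_assoc]

end Uniq

section LE

variable {X S : Scheme.{u}} (f : X ⟶ S) [IsProper f] [IsAffine S] [IsLocallyNoetherian S] (d : ℕ)
  (hd : ∀ s : S, topologicalKrullDim ↥(f.fiber s) ≤ d) (F : X.Modules) (hF : Coh.IsQCoh F)

include hd hF

/-- `Rf_*` of a quasi-coherent module in degree `n` is `≤ n + d`. -/
theorem isLE_single [DCoh.HasRpush f] (n : ℤ) :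
    ((DCoh.Rpush f).obj ((DerivedCategory.singleFunctor X.Modules n).obj F)).IsLE (n + d) := by
  rw [DerivedCategory.isLE_iff]
  intro m hm
  obtain ⟨p, hp⟩ : ∃ p : ℕ, m = n + p := ⟨(m - n).toNat, by omega⟩
  have hK := TopRepBound.isQCohD_single hF n
  have h0 : Subsingleton (Coh.HH X F p) := Flat2G.NoethVanish.subsingleton_HH f d hd F hF p (by omega)
  have h1 : Subsingleton (CurvesC.HV X F p) := h0
  refine PerfA.CompactPerf.isZero_of_gamma _ (PerfA.HypAdj.isQCohD_Rpush f hK m) fun s => ?_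
  obtain ⟨x, rfl⟩ := (TopBridge540.β_bijective f F n m p hp hK).2 s
  have e : x = x + x := Subsingleton.elim _ _
  have e2 := TopBridge540.β_add f F n m p hp x x
  rw [← e] at e2
  exact left_eq_add.1 e2

end LE

section Main

variable (A : Type u) [CommRing A] [IsNoetherianRing A] {Y : Scheme.{u}} [Y.Over (Spec (CommRingCat.of A))]
  [IsProper (Y ↘ Spec (CommRingCat.of A))] (d : ℕ)
  (hd : ∀ s : Spec (CommRingCat.of A), topologicalKrullDim ↥((Y ↘ Spec (CommRingCat.of A)).fiber s) ≤ d)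
  [DCoh.HasRpush (Y ↘ Spec (CommRingCat.of A))] {h : DCoh.RpushPreservesQCoh (Y ↘ Spec (CommRingCat.of A))}
  {a : DCoh.DQCoh (Spec (CommRingCat.of A)) ⥤ DCoh.DQCoh Y}
  (adj : DCoh.RpushQ (Y ↘ Spec (CommRingCat.of A)) h ⊣ a)
  (O : DCoh.DQCoh (Spec (CommRingCat.of A)))
  (hO : Nonempty (O.obj ≅ DCoh.inD (Spec (CommRingCat.of A)) (Coh.structureModule (Spec (CommRingCat.of A)))))

include hd adj hO

/-- `a(O)` is `≥ -d`. -/
theorem isGE_a : (a.obj O).obj.IsGE (-(d : ℤ)) := by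
  let f := Y ↘ Spec (CommRingCat.of A)
  have : IsNoetherianRing (CommRingCat.of A) := inferInstanceAs (IsNoetherianRing A)
  have hS : IsNoetherian (Spec (CommRingCat.of A)) := inferInstance
  have hlN : IsLocallyNoetherian Y := LocallyOfFiniteType.isLocallyNoetherian f
  have hcX : CompactSpace Y := QuasiCompact.compactSpace_of_compactSpace f
  have hN : IsNoetherian Y := {}
  obtain ⟨e⟩ := hO
  have hWGE : O.obj.IsGE 0 := by
    rw [DerivedCategory.isGE_iff]
    intro i hi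
    have h0 : (DCoh.inD (Spec (CommRingCat.of A)) (Coh.structureModule (Spec (CommRingCat.of A)))).IsGE 0 :=
      inferInstance
    exact (DerivedCategory.isZero_of_isGE _ 0 i hi).of_iso
      ((DerivedCategory.homologyFunctor (Spec (CommRingCat.of A)).Modules i).mapIso e)
  obtain ⟨N, hN1⟩ := Groth.Agent.S1767.result Y (Spec (CommRingCat.of A)) f h a adj
  have hK : (a.obj O).obj.IsGE (0 - N) := by
    rw [DerivedCategory.isGE_iff]
    intro i hi
    exact hN1 O (-1) (fun j hj => DerivedCategory.isZero_of_isGE O.obj 0 j (by omega)) i (by omega)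
  exact TopRepBound.isGE_a adj d (fun F hF j => isLE_single f d hd F hF.1 j) O (-(d : ℤ)) 0 (0 - N)
    (by omega) hWGE hK

/-- `H^{-d}(a(O))` is a `d`-dualizing sheaf. -/
theorem isDualizingSheaf_HD :
    RelCanon.IsDualizingSheaf A Y d (DCoh.HD (a.obj O).obj (-(d : ℤ))) := by
  let f := Y ↘ Spec (CommRingCat.of A)
  have hGE := isGE_a A d hd adj O hO
  obtain ⟨e⟩ := hO
  have hWGE : O.obj.IsGE 0 := by
    rw [DerivedCategory.isGE_iff]
    intro i hi
    have h0 : (DCoh.inD (Spec (CommRingCat.of A)) (Coh.structureModule (Spec (CommRingCat.of A)))).IsGE 0 :=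
      inferInstance
    exact (DerivedCategory.isZero_of_isGE _ 0 i hi).of_iso
      ((DerivedCategory.homologyFunctor (Spec (CommRingCat.of A)).Modules i).mapIso e)
  have hw : Coh.IsQCoh (DCoh.HD (a.obj O).obj (-(d : ℤ))) := (a.obj O).property _
  have hM : DCoh.IsQCohD ((DerivedCategory.singleFunctor Y.Modules (-(d : ℤ))).obj
      ((DerivedCategory.homologyFunctor Y.Modules (-(d : ℤ))).obj (a.obj O).obj)) :=
    TopRepBound.isQCohD_single hw _
  let eV : (DerivedCategory.homologyFunctor (Spec (CommRingCat.of A)).Modules 0).obj O.obj ≅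
      tilde (R := CommRingCat.of A) (ModuleCat.of A A) :=
    (DerivedCategory.homologyFunctor (Spec (CommRingCat.of A)).Modules 0).mapIso e ≪≫
      (DerivedCategory.singleFunctorCompHomologyFunctorIso (Spec (CommRingCat.of A)).Modules 0).app _ ≪≫
      tildeSelf.symm
  obtain ⟨t, ht⟩ := TopBridge540.represent' A (-(d : ℤ)) 0 d (by omega) _ _
    ((TopBridge540.ΓA A).mapIso eV ≪≫ (tilde.toTildeΓNatIso (R := CommRingCat.of A)).symm.app _) _
    (AdjD.univElt adj (-(d : ℤ)) 0 O hM) Coh.IsQCoh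
    (fun F hF => TopRepBound.isQCohD_single hF _)
    (fun F hF => AdjD.lowest_cohomology_represents adj (-(d : ℤ)) 0 O hM F
      (TopRepBound.isQCohD_single hF _) (by
        have := isLE_single f d hd F hF (-(d : ℤ))
        rwa [show -(d : ℤ) + d = 0 by omega] at this))
  refine ⟨t, hw, fun F hF => ⟨fun φ φ' hφ => ?_, fun ψ => ?_⟩⟩
  · obtain ⟨χ, -, hχ⟩ := ht F hF (Canon.dualityMap A Y d _ t F φ)
    exact (hχ φ fun x => rfl).trans (hχ φ' fun x => LinearMap.congr_fun hφ x).symm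
  · obtain ⟨χ, hχ, -⟩ := ht F hF ψ
    exact ⟨χ, LinearMap.ext fun x => (hχ x).symm⟩

/-- A `d`-dualizing sheaf is `H^{-d}(a(O))`. -/
theorem iso_HD {ω : Y.Modules} (hω : RelCanon.IsDualizingSheaf A Y d ω) :
    Nonempty (ω ≅ DCoh.HD (a.obj O).obj (-(d : ℤ))) :=
  iso_of_isDualizingSheaf hω (isDualizingSheaf_HD A d hd adj O hO)

end Main

end K968.Compare1
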