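import Groth.Agent.S0390
import Groth.Agent.FlatA.LocalCriterion
import Groth.Prelude.Def_EGA4b

/-!
# A lifting criterion for flatness of a cokernel

`A → B` a local homomorphism of Noetherian local rings, `u : E0 → E1` a map of finite `B`-modules, `E1` flat
over `A`.  If every `e : E0` with `u e ∈ m E1` can be changed modulo `m E0` to `e'` with `u e' ∈ m^n E1`,
for every `n`, then `E1 / u E0` is flat over `A`.
-/

set_option autoImplicit false
universe u

open TensorProduct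

namespace K968.LiftCrit

open Function

section Basic

variable {A : Type*} {B : Type*} [CommRing A] [CommRing B] [Algebra A B]

/-- `𝔞 ⊗ E → E`. -/
noncomputable def mu (𝔞 : Ideal A) (E : Type*) [AddCommGroup E] [Module A E] : 𝔞 ⊗[A] E →ₗ[A] E :=
  (TensorProduct.lid A E).toLinearMap ∘ₗ LinearMap.rTensor E 𝔞.subtype

theorem mu_tmul (𝔞 : Ideal A) {E : Type*} [AddCommGroup E] [Module A E] (a : 𝔞) (e : E) :
    mu 𝔞 E (a ⊗ₜ e) = (a : A) • e := by
  simp [mu]

theorem mu_injective (𝔞 : Ideal A) (E : Type*) [AddCommGroup E] [Module A E] [Module.Flat A E] :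
    Injective (mu 𝔞 E) :=
  (TensorProduct.lid A E).injective.comp
    (Module.Flat.rTensor_preserves_injective_linearMap 𝔞.subtype (Submodule.subtype_injective _))

theorem mu_lTensor (𝔞 : Ideal A) {E F : Type*} [AddCommGroup E] [Module A E] [AddCommGroup F]
    [Module A F] (f : E →ₗ[A] F) (x : 𝔞 ⊗[A] E) :
    mu 𝔞 F (LinearMap.lTensor 𝔞 f x) = f (mu 𝔞 E x) := by
  induction x with
  | zero => simp
  | tmul a e => rw [LinearMap.lTensor_tmul, mu_tmul, mu_tmul, map_smul]
  | add x y hx hy => rw [map_add, map_add, hx, hy, map_add, map_add]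

variable {E : Type*} [AddCommGroup E] [Module A E] [Module B E] [IsScalarTower A B E]

/-- Elements of `𝔞^{n+1} E` come from `𝔞^n (𝔞 ⊗ E)`. -/
theorem exists_mu_eq (𝔞 : Ideal A) (n : ℕ) {x : E}
    (hx : x ∈ ((𝔞.map (algebraMap A B)) ^ (n + 1) • (⊤ : Submodule B E))) :
    ∃ z ∈ (𝔞 ^ n • (⊤ : Submodule A (𝔞 ⊗[A] E))), mu 𝔞 E z = x := by
  rw [← Ideal.map_pow] at hx
  have key : ∀ (a : A) (_ : a ∈ 𝔞 ^ (n + 1)) (e : E),
      ∃ z ∈ (𝔞 ^ n • (⊤ : Submodule A (𝔞 ⊗[A] E))), mu 𝔞 E z = a • e := by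
    intro a ha e
    rw [pow_succ] at ha
    refine Submodule.mul_induction_on (C := fun a =>
      ∃ z ∈ (𝔞 ^ n • (⊤ : Submodule A (𝔞 ⊗[A] E))), mu 𝔞 E z = a • e) ha ?_ ?_
    · intro b hb c hc
      refine ⟨b • ((⟨c, hc⟩ : 𝔞) ⊗ₜ[A] e), Submodule.smul_mem_smul hb Submodule.mem_top, ?_⟩
      rw [map_smul, mu_tmul, mul_smul]
    · rintro b c ⟨z, hz, hz'⟩ ⟨w, hw, hw'⟩
      exact ⟨z + w, Submodule.add_mem _ hz hw, by rw [map_add, hz', hw', add_smul]⟩
  refine Submodule.smul_induction_on (p := fun x =>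
    ∃ z ∈ (𝔞 ^ n • (⊤ : Submodule A (𝔞 ⊗[A] E))), mu 𝔞 E z = x) hx ?_ ?_
  · intro b hb e _
    revert e
    have hb' : b ∈ Submodule.span B ((algebraMap A B) '' (↑(𝔞 ^ (n + 1)) : Set A)) := hb
    refine Submodule.span_induction (p := fun b _ => ∀ e ∈ (⊤ : Submodule B E),
      ∃ z ∈ (𝔞 ^ n • (⊤ : Submodule A (𝔞 ⊗[A] E))), mu 𝔞 E z = b • e) ?_ ?_ ?_ ?_ hb'
    · rintro _ ⟨a, ha, rfl⟩ e -
      obtain ⟨z, hz, hz'⟩ := key a ha e
      exact ⟨z, hz, by rw [hz', algebraMap_smul]⟩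
    · intro e _
      exact ⟨0, Submodule.zero_mem _, by simp⟩
    · intro b c _ _ h1 h2 e he
      obtain ⟨z, hz, hz'⟩ := h1 e he
      obtain ⟨w, hw, hw'⟩ := h2 e he
      exact ⟨z + w, Submodule.add_mem _ hz hw, by rw [map_add, hz', hw', add_smul]⟩
    · intro b c _ h1 e _
      obtain ⟨z, hz, hz'⟩ := h1 (b • e) Submodule.mem_top
      exact ⟨z, hz, by rw [hz', smul_smul, smul_eq_mul, mul_comm]⟩
  · rintro x y ⟨z, hz, hz'⟩ ⟨w, hw, hw'⟩
    exact ⟨z + w, Submodule.add_mem _ hz hw, by rw [map_add, hz', hw']⟩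

theorem mu_mem (𝔞 : Ideal A) (z : 𝔞 ⊗[A] E) :
    mu 𝔞 E z ∈ ((𝔞.map (algebraMap A B)) • (⊤ : Submodule B E)) := by
  induction z with
  | zero => simp
  | tmul a e =>
    rw [mu_tmul, ← algebraMap_smul B (a : A) e]
    exact Submodule.smul_mem_smul (Ideal.mem_map_of_mem _ a.2) Submodule.mem_top
  | add x y hx hy => rw [map_add]; exact Submodule.add_mem _ hx hy

/-- `ker f ∩ 𝔞 E = 𝔞 (ker f)` when `f : E → F` is surjective and `F` is flat. -/
theorem mem_smul_ker {F : Type*} [AddCommGroup F] [Module A F] [Module B F] [IsScalarTower A B F]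
    [Module.Flat A F] (f : E →ₗ[B] F) (hf : Surjective f) (𝔞 : Ideal A) {x : E}
    (hx : x ∈ ((𝔞.map (algebraMap A B)) • (⊤ : Submodule B E))) (h : f x = 0) :
    x ∈ ((𝔞.map (algebraMap A B)) • (LinearMap.ker f : Submodule B E)) := by
  obtain ⟨z, -, rfl⟩ := exists_mu_eq (B := B) 𝔞 0 (x := x) (by simpa using hx)
  let f' : E →ₗ[A] F := f.restrictScalars A
  have h1 : LinearMap.lTensor 𝔞 f' z = 0 := by
    apply mu_injective 𝔞 F
    rw [mu_lTensor, map_zero]
    exact h
  have hex : Exact (LinearMap.ker f').subtype f' := fun y => by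
    constructor
    · intro hy
      exact ⟨⟨y, hy⟩, rfl⟩
    · rintro ⟨y, rfl⟩
      exact y.2
  obtain ⟨w, hw⟩ := (lTensor_exact 𝔞 hex hf _).1 h1
  rw [← hw, mu_lTensor]
  clear hw
  induction w with
  | zero => simp
  | tmul a e =>
    rw [mu_tmul]
    change ((a : A) • (e : E)) ∈ _
    rw [← algebraMap_smul B (a : A) (e : E)]
    exact Submodule.smul_mem_smul (Ideal.mem_map_of_mem _ a.2) e.2
  | add x y hx hy => rw [map_add, map_add]; exact Submodule.add_mem _ hx hy

omit [Module A E] [IsScalarTower A B E] in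
/-- `u E0 ∩ 𝔞 E1 = u (𝔞 E0)` when the cokernel is flat. -/
theorem exists_sub_mem_ker {F G : Type*} [AddCommGroup F] [Module A F] [Module B F] [IsScalarTower A B F]
    [AddCommGroup G] [Module A G] [Module B G] [IsScalarTower A B G] [Module.Flat A G]
    (u : E →ₗ[B] F) (v : F →ₗ[B] G) (hv : Surjective v) (huv : Exact u v) (𝔞 : Ideal A) {e : E}
    (he : u e ∈ ((𝔞.map (algebraMap A B)) • (⊤ : Submodule B F))) :
    ∃ x ∈ LinearMap.ker u, e - x ∈ ((𝔞.map (algebraMap A B)) • (⊤ : Submodule B E)) := by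
  have h1 := mem_smul_ker v hv 𝔞 he (huv.apply_apply_eq_zero e)
  rw [huv.linearMap_ker_eq, LinearMap.range_eq_map, ← Submodule.map_smul''] at h1
  obtain ⟨y, hy, hy'⟩ := h1
  exact ⟨e - y, by rw [LinearMap.mem_ker, map_sub, hy', sub_self], by simpa using hy⟩

end Basic

section Main

theorem eq_zero_of_smul_eq {B : Type*} [CommRing B] [IsLocalRing B] {Y : Type*} [AddCommGroup Y]
    [Module B Y] {r : B} (hr : r ∈ IsLocalRing.maximalIdeal B) {y : Y} (h : r • y = y) : y = 0 := by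
  have hu : IsUnit (1 - r) := by
    by_contra hcon
    have h7 := (IsLocalRing.mem_maximalIdeal _).2 hcon
    exact (IsLocalRing.maximalIdeal.isMaximal B).ne_top
      ((Ideal.eq_top_iff_one _).2 (by simpa using Ideal.add_mem _ h7 hr))
  have h8 : (1 - r) • y = 0 := by
    rw [sub_smul, one_smul, h, sub_self]
  obtain ⟨v, hv⟩ := hu
  rw [← hv] at h8
  have := congrArg (fun y => (↑v⁻¹ : B) • y) h8
  simpa [smul_smul] using this

variable {A B : Type u} [CommRing A] [CommRing B] [IsNoetherianRing A] [IsNoetherianRing B]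
  [IsLocalRing A] [IsLocalRing B] [Algebra A B] [IsLocalHom (algebraMap A B)]

theorem flat_coker_of_lift {E0 E1 G : Type u}
    [AddCommGroup E0] [Module B E0] [Module A E0] [IsScalarTower A B E0]
    [AddCommGroup E1] [Module B E1] [Module A E1] [IsScalarTower A B E1] [Module.Finite B E1]
    [Module.Flat A E1] [AddCommGroup G] [Module B G] [Module A G] [IsScalarTower A B G]
    (u : E0 →ₗ[B] E1) (v : E1 →ₗ[B] G) (hv : Surjective v) (huv : Exact u v)
    (h : ∀ e : E0, u e ∈ (EGA4.mB A B • (⊤ : Submodule B E1)) → ∀ n : ℕ, ∃ e' : E0,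
      u e' ∈ (EGA4.mB A B ^ (n + 1) • (⊤ : Submodule B E1)) ∧
        e - e' ∈ (EGA4.mB A B • (⊤ : Submodule B E0))) :
    Module.Flat A G := by
  have : Module.Finite B G := Module.Finite.of_surjective v hv
  set m := IsLocalRing.maximalIdeal A with hm
  apply Groth.Agent.S0390.result (S := B)
  rw [injective_iff_map_eq_zero]
  intro ξ hξ
  let π : E1 →ₗ[A] G := v.restrictScalars A
  have hπ : Surjective π := hv
  let u' : E0 →ₗ[A] E1 := u.restrictScalars A
  have hμξ : mu m _ ξ = 0 := by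
    change (TensorProduct.lid A _) (LinearMap.rTensor _ m.subtype ξ) = 0
    rw [hξ, map_zero]
  obtain ⟨ξ', hξ'⟩ := LinearMap.lTensor_surjective m hπ ξ
  have h1 : v (mu m E1 ξ') = 0 := by
    change π (mu m E1 ξ') = 0
    rw [← mu_lTensor, hξ', hμξ]
  obtain ⟨e, he⟩ := (huv _).1 h1
  have h2 : u e ∈ (EGA4.mB A B • (⊤ : Submodule B E1)) := by
    rw [he]
    exact mu_mem m ξ'
  have h3 : ∀ n : ℕ, ξ ∈ (m ^ n • (⊤ : Submodule A (m ⊗[A] G))) := by
    intro n
    obtain ⟨e', he', he''⟩ := h e h2 n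
    obtain ⟨η, -, hη⟩ := exists_mu_eq (B := B) m 0 (x := e - e') (by simpa using he'')
    obtain ⟨ζ, hζ, hζ'⟩ := exists_mu_eq (B := B) m n he'
    have h4 : ξ' = LinearMap.lTensor m u' η + ζ := by
      apply mu_injective m E1
      rw [map_add, mu_lTensor, hη, hζ', ← he]
      change u e = u (e - e') + u e'
      rw [map_sub, sub_add_cancel]
    have h5 : LinearMap.lTensor m π (LinearMap.lTensor m u' η) = 0 := by
      rw [← LinearMap.comp_apply, ← LinearMap.lTensor_comp]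
      have : π ∘ₗ u' = 0 := by
        ext x
        exact huv.apply_apply_eq_zero x
      rw [this, LinearMap.lTensor_zero, LinearMap.zero_apply]
    rw [← hξ', h4, map_add, h5, zero_add]
    have h6 : LinearMap.lTensor m π ζ ∈ (m ^ n • (⊤ : Submodule A (m ⊗[A] E1))).map
        (LinearMap.lTensor m π) := Submodule.mem_map_of_mem hζ
    rw [Submodule.map_smul''] at h6
    exact Submodule.smul_mono le_rfl le_top h6
  obtain ⟨r, hr, hr'⟩ := Groth.Agent.FlatA.LocalCriterion.exists_smul_eq_of_forall_mem (B := B) m m ξ h3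
  have hr2 : r ∈ IsLocalRing.maximalIdeal B :=
    IsLocalRing.map_maximalIdeal_le (algebraMap A B) hr
  exact (LinearEquiv.map_eq_zero_iff (TensorProduct.comm A m _)).1 (eq_zero_of_smul_eq hr2 hr')

end Main

end K968.LiftCrit
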