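import Groth.Agent.QGor.K968.LocKey2
import Groth.Agent.QGor.K968.LiftCrit
import Groth.Agent.QGor.K966.DualPres
import Groth.Agent.S18706
import Groth.Agent.S18709

/-!
# The local key lemma, case (b)

`A → B` a flat local homomorphism of Noetherian local rings, `𝔫 = m_A B`, `depth_J (B / 𝔫) ≥ 2`, `M` a finite
reflexive `B`-module, free of rank one off `V(J)`, with a map `M → B / 𝔫` which is surjective off `V(J)`.
If there is a function `q : M → B` with `q (b x) = b^r q x`, `r` invertible in `B`, which does not vanish at the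
primes off `V(J)`, then `M ≃ B`.
-/

set_option autoImplicit false
universe u

open CategoryTheory TensorProduct Groth.Agent.Localalg.Depth Groth.Agent.Localalg.Depth2
  Groth.Agent.Localalg.Depth3

namespace K968.LocKey

open K968.Glue

theorem flat_of_exact {R : Type u} [CommRing R] {M N P : Type u} [AddCommGroup M] [Module R M]
    [AddCommGroup N] [Module R N] [AddCommGroup P] [Module R P] [Module.Flat R N] [Module.Flat R P]
    (g : M →ₗ[R] N) (f : N →ₗ[R] P) (hf : Function.Surjective f) (hg : Function.Injective g)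
    (H : Function.Exact g f) : Module.Flat R M := by
  rw [Module.Flat.iff_rTensor_preserves_injective_linearMap]
  intro A B _ _ _ _ i hi
  have h1 := LinearMap.lTensor_injective_of_exact_of_flat f hf g hg H A
  have h2 := Module.Flat.rTensor_preserves_injective_linearMap (M := N) i hi
  have h3 : (g.lTensor B) ∘ₗ (i.rTensor M) = (i.rTensor N) ∘ₗ (g.lTensor A) := by
    rw [LinearMap.lTensor_comp_rTensor, LinearMap.rTensor_comp_lTensor]
  have h4 : Function.Injective ((g.lTensor B) ∘ₗ (i.rTensor M)) := by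
    rw [h3]
    exact h2.comp h1
  exact Function.Injective.of_comp (f := g.lTensor B) h4

section Quot

variable {B : Type u} [CommRing B] [IsNoetherianRing B] (I J : Ideal B)

noncomputable def quotEquiv : (B ⧸ (I • (⊤ : Submodule B B))) ≃ₗ[B] B ⧸ I :=
  (TensorProduct.quotTensorEquivQuotSMul B I).symm ≪≫ₗ TensorProduct.rid B (B ⧸ I)

noncomputable def quotPiEquiv (n : ℕ) :
    ((Fin n → B) ⧸ (I • (⊤ : Submodule B (Fin n → B)))) ≃ₗ[B] (Fin n → B ⧸ I) :=
  (TensorProduct.quotTensorEquivQuotSMul (Fin n → B) I).symm ≪≫ₗ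
    TensorProduct.piScalarRight B B (B ⧸ I) (Fin n)

theorem le_idealDepth_quot_pi (n : ℕ) {k : ℕ∞} (h : k ≤ LocCoh.idealDepth J (B ⧸ I)) :
    k ≤ LocCoh.idealDepth J ((Fin n → B) ⧸ (I • (⊤ : Submodule B (Fin n → B)))) := by
  rw [idealDepth_congr_equiv J (quotPiEquiv I n)]
  exact h.trans (K966.DualPres.le_idealDepth_pi J _ _)

end Quot

namespace Setup

variable {A B : Type u} [CommRing A] [CommRing B] [IsNoetherianRing A] [IsNoetherianRing B]
  [IsLocalRing A] [IsLocalRing B] [Algebra A B] [IsLocalHom (algebraMap A B)] {J : Ideal B}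
  {E0 E1 : Type u} [AddCommGroup E0] [Module B E0] [Module.Finite B E0] [Module A E0]
  [IsScalarTower A B E0] [Module.Flat A E0]
  [AddCommGroup E1] [Module B E1] [Module.Finite B E1] [Module A E1] [IsScalarTower A B E1]
  [Module.Flat A E1]
  (S : Setup B J (EGA4.mB A B) E0 E1)

omit [IsNoetherianRing A] [IsLocalRing B] [IsLocalHom (algebraMap A B)] [Module A E0]
  [IsScalarTower A B E0] [Module.Flat A E0] [Module A E1] [IsScalarTower A B E1] [Module.Flat A E1] in
/-- Every element of `E0` mapping to `𝔫 E1` is a multiple of `s1` modulo `𝔫 E0`. -/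
theorem exists_sub_smul_s1 (e : E0) (he : S.u e ∈ (EGA4.mB A B ^ 1 • (⊤ : Submodule B E1))) :
    ∃ c : B, e - c • S.s1 ∈ (EGA4.mB A B ^ 1 • (⊤ : Submodule B E0)) := by
  obtain ⟨c, hc⟩ := exists_glue (J := J) (S.dB 1)
    (ι := {i : B × B // i.1 • e - i.2 • S.s1 ∈ (EGA4.mB A B ^ 1 • (⊤ : Submodule B E0))})
    (fun i => i.1.1) (fun i => Ideal.Quotient.mk _ i.1.2) (by
      intro p _ hp
      by_cases hn : EGA4.mB A B ≤ p
      · obtain ⟨y, t, ht, hy⟩ := S.exists_sub_mem p hp 1 e he
        obtain ⟨b, hb⟩ := Ideal.Quotient.mk_surjective (S.θ y)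
        refine ⟨⟨(t, b), ?_⟩, ht⟩
        have := Submodule.sub_mem _ hy (S.smul_s1 hb.symm)
        rwa [sub_sub_sub_cancel_right] at this
      · obtain ⟨a, ha, hap⟩ := SetLike.not_le_iff_exists.1 hn
        refine ⟨⟨(a, 0), ?_⟩, hap⟩
        simp only [zero_smul, sub_zero, pow_one]
        exact Submodule.smul_mem_smul ha Submodule.mem_top)
    (by
      rintro ⟨⟨t, b⟩, h⟩ ⟨⟨t', b'⟩, h'⟩
      simp only at h h' ⊢
      have h1 : (t' * b - t * b') • S.s1 ∈ (EGA4.mB A B ^ 1 • (⊤ : Submodule B E0)) := by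
        have := Submodule.sub_mem _ (Submodule.smul_mem _ t h') (Submodule.smul_mem _ t' h)
        convert this using 1
        module
      have h2 := S.ann_s1 h1
      rw [← pow_one (EGA4.mB A B), ← Ideal.Quotient.eq_zero_iff_mem, map_sub, map_mul, map_mul,
        sub_eq_zero] at h2
      simpa [Algebra.smul_def] using h2)
  obtain ⟨c, rfl⟩ := Ideal.Quotient.mk_surjective c
  refine ⟨c, ?_⟩
  apply S.mem_pow_of_sat
  intro p _ hp hn
  obtain ⟨y, t, ht, hy⟩ := S.exists_sub_mem p hp 1 e he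
  obtain ⟨b, hb⟩ := Ideal.Quotient.mk_surjective (S.θ y)
  have h3 : t • e - b • S.s1 ∈ (EGA4.mB A B ^ 1 • (⊤ : Submodule B E0)) := by
    have := Submodule.sub_mem _ hy (S.smul_s1 hb.symm)
    rwa [sub_sub_sub_cancel_right] at this
  have h4 : t * c - b ∈ EGA4.mB A B ^ 1 := by
    have := hc ⟨(t, b), h3⟩
    rw [← Ideal.Quotient.eq_zero_iff_mem, map_sub, map_mul, sub_eq_zero, ← this]
    simp [Algebra.smul_def]
  refine ⟨t, ht, ?_⟩
  have h5 : t • (e - c • S.s1) = (t • e - b • S.s1) - (t * c - b) • S.s1 := by module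
  rw [h5]
  exact Submodule.sub_mem _ h3 (Submodule.smul_mem_smul h4 Submodule.mem_top)

include S in
/-- If the generator of the closed fibre lifts to all infinitesimal neighbourhoods, `M` is free of rank one. -/
theorem iso_of_lift [Module.Flat A B] (hs : ∀ k : ℕ, ∃ s : E0, S.u s ∈ (EGA4.mB A B ^ (k + 1) • (⊤ : Submodule B E1)) ∧
    s - S.s1 ∈ (EGA4.mB A B ^ 1 • (⊤ : Submodule B E0))) : Nonempty (LinearMap.ker S.u ≃ₗ[B] B) := by
  have hG : Module.Flat A (E1 ⧸ LinearMap.range S.u) := by
    refine LiftCrit.flat_coker_of_lift S.u (LinearMap.range S.u).mkQ (Submodule.mkQ_surjective _)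
      (LinearMap.exact_map_mkQ_range S.u) ?_
    intro e he n
    obtain ⟨c, hc⟩ := S.exists_sub_smul_s1 e (by rwa [pow_one])
    obtain ⟨s, hs1, hs2⟩ := hs n
    refine ⟨c • s, ?_, ?_⟩
    · rw [map_smul]
      exact Submodule.smul_mem _ _ hs1
    · have h1 := Submodule.sub_mem _ hc (Submodule.smul_mem _ c hs2)
      rw [pow_one] at h1
      convert h1 using 1
      module
  have hR : Module.Flat A (LinearMap.range S.u) :=
    flat_of_exact ((LinearMap.range S.u).subtype.restrictScalars A)
      ((LinearMap.range S.u).mkQ.restrictScalars A) (Submodule.mkQ_surjective _)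
      (Submodule.subtype_injective _) (LinearMap.exact_subtype_mkQ _)
  have hK : Module.Flat A (LinearMap.ker S.u) :=
    flat_of_exact ((LinearMap.ker S.u).subtype.restrictScalars A)
      (S.u.rangeRestrict.restrictScalars A) S.u.surjective_rangeRestrict
      (Submodule.subtype_injective _) (by
        intro x
        constructor
        · intro hx
          exact ⟨⟨x, by simpa using congrArg Subtype.val hx⟩, rfl⟩
        · rintro ⟨x, rfl⟩
          ext
          exact x.2)
  -- a lift of `s1`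
  obtain ⟨y, hy, hy'⟩ := LiftCrit.exists_sub_mem_ker S.u (LinearMap.range S.u).mkQ
    (Submodule.mkQ_surjective _) (LinearMap.exact_map_mkQ_range S.u) (IsLocalRing.maximalIdeal A)
    (e := S.s1) (by simpa using S.u_s1)
  -- `M ∩ 𝔫 E0 = 𝔫 M`
  have hM : ∀ x : LinearMap.ker S.u, (x : E0) ∈ (EGA4.mB A B • (⊤ : Submodule B E0)) →
      x ∈ (EGA4.mB A B • (⊤ : Submodule B (LinearMap.ker S.u))) := by
    intro x hx
    have h1 := LiftCrit.mem_smul_ker S.u.rangeRestrict S.u.surjective_rangeRestrict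
      (IsLocalRing.maximalIdeal A) hx (by ext; exact x.2)
    rw [LinearMap.ker_rangeRestrict] at h1
    have h2 : (EGA4.mB A B • (⊤ : Submodule B (LinearMap.ker S.u))).map (LinearMap.ker S.u).subtype =
        EGA4.mB A B • LinearMap.ker S.u := by
      rw [Submodule.map_smul'', Submodule.map_top, Submodule.range_subtype]
    rw [← h2] at h1
    obtain ⟨x', hx', hxx⟩ := h1
    have : x' = x := Subtype.ext hxx
    rwa [← this]
  have hle : EGA4.mB A B ≤ IsLocalRing.maximalIdeal B := IsLocalRing.map_maximalIdeal_le (algebraMap A B)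
  let y' : LinearMap.ker S.u := ⟨y, hy⟩
  let f : B →ₗ[B] LinearMap.ker S.u := LinearMap.toSpanSingleton B _ y'
  have hfs : Function.Surjective f := by
    rw [← LinearMap.range_eq_top]
    apply top_le_iff.1
    have : Module.Finite B (LinearMap.ker S.u) := inferInstance
    refine Submodule.le_of_le_smul_of_le_jacobson_bot (I := EGA4.mB A B) this.1
      (hle.trans (IsLocalRing.maximalIdeal_le_jacobson _)) ?_
    intro x _
    obtain ⟨c, hc⟩ := S.exists_sub_smul_s1 (x : E0) (by
      have : S.u x = 0 := x.2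
      rw [this]
      exact Submodule.zero_mem _)
    rw [pow_one] at hc
    have h3 : x - c • y' ∈ (EGA4.mB A B • (⊤ : Submodule B (LinearMap.ker S.u))) := by
      apply hM
      change (x : E0) - c • y ∈ _
      have := Submodule.add_mem _ hc (Submodule.smul_mem _ c hy')
      convert this using 1
      module
    rw [← sub_add_cancel x (c • y')]
    exact Submodule.add_mem _ (Submodule.mem_sup_right h3)
      (Submodule.mem_sup_left ⟨c, by simp [f]⟩)
  have hfi : Function.Injective f := by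
    rw [← LinearMap.ker_eq_bot]
    apply Submodule.eq_bot_of_le_smul_of_le_jacobson_bot (EGA4.mB A B) _ (IsNoetherian.noetherian _)
      ?_ (hle.trans (IsLocalRing.maximalIdeal_le_jacobson _))
    intro b hb
    have h4 : b • S.s1 ∈ (EGA4.mB A B ^ 1 • (⊤ : Submodule B E0)) := by
      have h5 : b • y = 0 := by
        have := congrArg Subtype.val (LinearMap.mem_ker.1 hb)
        simpa [f, y'] using this
      have := Submodule.smul_mem _ b hy'
      rw [smul_sub, h5, sub_zero] at this
      rwa [pow_one]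
    have h6 := S.ann_s1 h4
    have h7 := LiftCrit.mem_smul_ker (A := A) f hfs (IsLocalRing.maximalIdeal A) (x := b) (by
      change b ∈ EGA4.mB A B • (⊤ : Submodule B B)
      simpa using h6) (LinearMap.mem_ker.1 hb)
    exact h7
  exact ⟨(LinearEquiv.ofBijective f ⟨hfi, hfs⟩).symm⟩

end Setup

section Main

variable {A B : Type u} [CommRing A] [CommRing B] [IsNoetherianRing A] [IsNoetherianRing B]
  [IsLocalRing A] [IsLocalRing B] [Algebra A B] [IsLocalHom (algebraMap A B)] [Module.Flat A B]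

theorem two_le_quot_pow {J : Ideal B} (h2 : 2 ≤ LocCoh.idealDepth J (B ⧸ EGA4.mB A B)) (k : ℕ) :
    2 ≤ LocCoh.idealDepth J (B ⧸ EGA4.mB A B ^ k) := by
  rcases Nat.eq_zero_or_pos k with rfl | hk
  · have : Subsingleton (B ⧸ EGA4.mB A B ^ 0) := by
      rw [pow_zero, Ideal.one_eq_top]
      exact Ideal.Quotient.subsingleton_iff.2 rfl
    rw [idealDepth_eq_top_of_subsingleton]
    exact le_top
  · obtain ⟨k, rfl⟩ := Nat.exists_eq_succ_of_ne_zero hk.ne'
    have h3 := Groth.Agent.S18706.result A B J B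
      (fun q _ => Groth.Agent.Flat2B.FlatCrit.flatAt_of_flat q.asIdeal B) (by
        rw [idealDepth_congr_equiv J (quotEquiv (EGA4.mB A B))]
        exact h2) k
    rwa [idealDepth_congr_equiv J (quotEquiv (EGA4.mB A B ^ (k + 1)))] at h3

/-- **The local key lemma, case (b).** -/
theorem iso_of_pow {J : Ideal B} (h2 : 2 ≤ LocCoh.idealDepth J (B ⧸ EGA4.mB A B))
    (M : Type u) [AddCommGroup M] [Module B M] [Module.Finite B M] [Module.IsReflexive B M]
    (hfree : ∀ q : PrimeSpectrum B, ¬ J ≤ q.asIdeal →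
      Module.Free (Localization.AtPrime q.asIdeal) (LocalizedModule q.asIdeal.primeCompl M))
    (hcyc : ∀ (p : Ideal B) [p.IsPrime], ¬ J ≤ p → EGA4.mB A B ≤ p →
      ∃ y : M, ∀ x : M, ∃ t, t ∉ p ∧ ∃ b : B, t • x = b • y)
    (θ : M →ₗ[B] B ⧸ EGA4.mB A B)
    (hθ : ∀ (p : Ideal B) [p.IsPrime], ¬ J ≤ p → EGA4.mB A B ≤ p →
      ∃ (y : M) (b : B), θ y = Ideal.Quotient.mk _ b ∧ b ∉ p)
    (r : ℕ) (hr : IsUnit (r : B)) (q : M → B) (hq : ∀ (b : B) (x : M), q (b • x) = b ^ r * q x)
    (hq' : ∀ (p : Ideal B) [p.IsPrime], ¬ J ≤ p → EGA4.mB A B ≤ p → ∃ y : M, q y ∉ p) :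
    Nonempty (M ≃ₗ[B] B) := by
  obtain ⟨n, m, g, h, hg, hgh, hh⟩ := Groth.Agent.S18709.result B J M hfree
  let e : M ≃ₗ[B] LinearMap.ker h :=
    (LinearEquiv.ofInjective g hg) ≪≫ₗ LinearEquiv.ofEq _ _ (hgh.linearMap_ker_eq.symm)
  let S : Setup B J (EGA4.mB A B) (Fin n → B) (Fin m → B) :=
    { u := h
      split := fun p _ hp => exists_split h p (hh ⟨p, inferInstance⟩ hp)
      d0 := fun k => le_idealDepth_quot_pi _ _ _ (two_le_quot_pow h2 k)
      d1 := fun k => le_idealDepth_quot_pi _ _ _ (le_trans (by norm_num) (two_le_quot_pow h2 k))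
      dB := two_le_quot_pow h2
      cyc := fun p _ hp hn => by
        obtain ⟨y, hy⟩ := hcyc p hp hn
        refine ⟨e y, fun x => ?_⟩
        obtain ⟨t, ht, b, hb⟩ := hy (e.symm x)
        refine ⟨t, ht, Submodule.mem_span_singleton.2 ⟨b, ?_⟩⟩
        have := congrArg e hb
        rw [map_smul, map_smul, LinearEquiv.apply_symm_apply] at this
        exact this.symm
      θ := θ ∘ₗ e.symm.toLinearMap
      hθ := fun p _ hp hn => by
        obtain ⟨y, b, hy, hb⟩ := hθ p hp hn
        exact ⟨e y, b, by simpa using hy, hb⟩ }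
  obtain ⟨r', hr'⟩ := hr.exists_left_inv
  have hr0 : 0 < r := by
    rcases Nat.eq_zero_or_pos r with rfl | h
    · simp at hr
    · exact h
  have hle : EGA4.mB A B ≤ IsLocalRing.maximalIdeal B := IsLocalRing.map_maximalIdeal_le (algebraMap A B)
  obtain ⟨w, hw, hgood⟩ := S.exists_good_one (fun x hx => by
      have hx' := hle hx
      by_contra hcon
      have h7 := (IsLocalRing.mem_maximalIdeal _).2 hcon
      exact (IsLocalRing.maximalIdeal.isMaximal B).ne_top
        ((Ideal.eq_top_iff_one _).2 (by simpa using Ideal.sub_mem _ h7 hx')))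
    (fun y => q (e.symm y)) r (fun b x => by rw [map_smul, hq]) (fun p _ hp hn => by
      obtain ⟨y, hy⟩ := hq' p hp hn
      exact ⟨e y, by simpa using hy⟩)
  have hlift : ∀ k : ℕ, ∃ s, S.Good (fun y => w * q (e.symm y)) r (k + 1) s := by
    intro k
    induction k with
    | zero => exact ⟨_, hgood⟩
    | succ k ih =>
      obtain ⟨s, hs⟩ := ih
      obtain ⟨s', hs', -⟩ := S.exists_good_succ _ r r' hr0 hr' (fun b x => by
        rw [map_smul, hq]; ring) (Nat.succ_le_succ (Nat.zero_le k)) hs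
      exact ⟨s', hs'⟩
  have hf0 : Module.Flat A (Fin n → B) := Module.Flat.trans A B _
  have hf1 : Module.Flat A (Fin m → B) := Module.Flat.trans A B _
  obtain ⟨e'⟩ := S.iso_of_lift (A := A) fun k => by
    obtain ⟨s, hs⟩ := hlift k
    exact ⟨s, hs.us, hs.s1⟩
  exact ⟨e ≪≫ₗ e'⟩

end Main

end K968.LocKey
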