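import Groth.Agent.QGor.K968.Compare3

/-!
# Base change of the dualizing sheaf over the Cohen-Macaulay locus

* `nonempty_restrict_bc` : base change of `H^{-d}(a(O))` over the CM locus, for an arbitrary base change.
* `isFlatOver_of_cm`, `isDualizingSheafFib_of_cm`, `invertibleAt_iff_of_cm` : the three parts of S19827.
* `mem_gorLocus_iff` : at a CM point, Gorenstein iff `ω` is invertible there.
-/

set_option autoImplicit false
universe u
open CategoryTheory CategoryTheory.Limits AlgebraicGeometry TopologicalSpace Opposite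
attribute [local instance] HasDerivedCategory.standard

namespace K968.Compare4

open Groth.Agent K968.Compare2 K968.Compare3

section BC

variable {Y S Y' S' : Scheme.{u}} [IsNoetherian S] [IsNoetherian S'] {f : Y ⟶ S} [IsProper f] [Flat f]
  {g : S' ⟶ S} {f' : Y' ⟶ S'} {p : Y' ⟶ Y} (hsq : IsPullback p f' f g) (R : RA f) (R' : RA f')

include hsq

/-- Base change over the CM locus. -/
theorem nonempty_restrict_bc {V V' : Scheme.{u}} {j : V ⟶ Y} {j' : V' ⟶ Y'} {pV : V' ⟶ V}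
    [IsOpenImmersion j] [IsOpenImmersion j'] (hV : IsPullback pV j' j p)
    (hCM : ∀ x : V, MoreMor.IsCMAt f (j x)) {d : ℕ} (hd : Cyc.HasRelDim f d) :
    Nonempty ((DCoh.HD R'.dz (-(d : ℤ))).restrict j' ≅
      (Scheme.Modules.pullback pV).obj ((DCoh.HD R.dz (-(d : ℤ))).restrict j)) := by
  have hf' : IsProper f' := MorphismProperty.of_isPullback hsq inferInstance
  have hN : IsNoetherian Y := isNoetherian (f := f)
  have hN' : IsNoetherian Y' := isNoetherian (f := f')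
  have : LocallyOfFinitePresentation f :=
    LoccohB.RightAdj2.locallyOfFinitePresentation_of_isLocallyNoetherian f
  have : DCoh.HasLpull p := PerfC.PullKFlat.hasLpull p
  have : DCoh.HasLpull pV := PerfC.PullKFlat.hasLpull pV
  obtain ⟨e⟩ := nonempty_bc hsq R R'
  obtain ⟨h1, -, h3⟩ := cm R j hCM hd
  obtain ⟨e1⟩ := PerfC.LpullRestrict.nonempty_restrict_lpull (g := p) (g' := pV) j j' hV.w R.dz
  have hfl : Flat (j ≫ f) := inferInstance
  obtain ⟨e2⟩ := nonempty_HD_lpull (hV.paste_vert hsq) ((DCoh.restrictD j).obj R.dz) (-(d : ℤ)) h1 h3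
  exact ⟨(Dcoh.LocalD.HDRestrict j' R'.dz (-(d : ℤ))).symm ≪≫
    (DerivedCategory.homologyFunctor _ (-(d : ℤ))).mapIso ((DCoh.restrictD j').mapIso e.symm ≪≫ e1) ≪≫
    e2 ≪≫ (Scheme.Modules.pullback pV).mapIso (Dcoh.LocalD.HDRestrict j R.dz (-(d : ℤ)))⟩

end BC

section Flat

variable {Y S : Scheme.{u}}

theorem flat_of_cm {f : Y ⟶ S} (hCM : ∀ x : Y, MoreMor.IsCMAt f x) : Flat f :=
  (Flat.iff_flat_stalkMap f).2 fun x => (hCM x).1

end Flat

section Affine

variable (A : Type u) [CommRing A] [IsNoetherianRing A] {Y : Scheme.{u}} [Y.Over (Spec (CommRingCat.of A))]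
  [IsProper (Y ↘ Spec (CommRingCat.of A))] {d : ℕ}
  (hd : Cyc.HasRelDim (Y ↘ Spec (CommRingCat.of A)) d)
  {ω : Y.Modules} (hω : RelCanon.IsDualizingSheaf A Y d ω)

theorem isNoetherian_spec (A : Type u) [CommRing A] [IsNoetherianRing A] :
    IsNoetherian (Spec (CommRingCat.of A)) := by
  have : IsNoetherianRing (CommRingCat.of A) := inferInstanceAs (IsNoetherianRing A)
  infer_instance

include hd hω

/-- `ω` over an open contained in the CM locus. -/
theorem restrict_iso {V : Scheme.{u}} (j : V ⟶ Y) [IsOpenImmersion j]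
    (R : RA (Y ↘ Spec (CommRingCat.of A))) :
    Nonempty (ω.restrict j ≅ DCoh.HD ((DCoh.restrictD j).obj R.dz) (-(d : ℤ))) := by
  obtain ⟨e⟩ := iso_dz A d (fibreDimLE hd) R hω
  exact ⟨(Scheme.Modules.restrictFunctor j).mapIso e ≪≫ (Dcoh.LocalD.HDRestrict j R.dz (-(d : ℤ))).symm⟩

/-- `ω` is flat and coherent over an open contained in the CM locus. -/
theorem isCoh_isFlatOver_restrict {V : Scheme.{u}} (j : V ⟶ Y) [IsOpenImmersion j]
    (hCM : ∀ x : V, MoreMor.IsCMAt (Y ↘ Spec (CommRingCat.of A)) (j x)) :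
    Coh.IsCoh (ω.restrict j) ∧ FlatMod.IsFlatOver (j ≫ (Y ↘ Spec (CommRingCat.of A))) (ω.restrict j) := by
  have := isNoetherian_spec A
  obtain ⟨R⟩ := exists_ra' (Y ↘ Spec (CommRingCat.of A))
  obtain ⟨e⟩ := restrict_iso A hd hω j R
  obtain ⟨-, h2, h3⟩ := cm R j hCM hd
  exact ⟨PerfA.CohSerre.isCoh_of_iso e.symm h2, PerfC.RelFlat.isFlatOver_of_iso _ e.symm h3⟩

/-- `ω` is flat over the base at the CM points. -/
theorem isFlatOverAt_of_cm (V : Y.Opens)
    (hCM : ∀ x ∈ V, MoreMor.IsCMAt (Y ↘ Spec (CommRingCat.of A)) x) {x : Y} (hx : x ∈ V) :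
    FlatMod.IsFlatOverAt (Y ↘ Spec (CommRingCat.of A)) ω x := by
  have h := (isCoh_isFlatOver_restrict A hd hω V.ι (fun x => hCM _ x.2)).2 ⟨x, hx⟩
  exact (Ega3B.FlatRestrict.isFlatOverAt_restrict_iff_comp _ V.ι ω ⟨x, hx⟩).1 h

/-- At a CM point: Gorenstein iff `ω` is invertible. -/
theorem mem_gorLocus_iff [Flat (Y ↘ Spec (CommRingCat.of A))] (V : Y.Opens)
    (hCM : ∀ x ∈ V, MoreMor.IsCMAt (Y ↘ Spec (CommRingCat.of A)) x) {x : Y} (hx : x ∈ V) :
    x ∈ RelCanon.gorLocus (Y ↘ Spec (CommRingCat.of A)) ↔ RelCanon.InvertibleAt ω x := by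
  have := isNoetherian_spec A
  obtain ⟨R⟩ := exists_ra' (Y ↘ Spec (CommRingCat.of A))
  obtain ⟨e⟩ := iso_dz A d (fibreDimLE hd) R hω
  obtain ⟨h1, -, -⟩ := cm R V.ι (fun x => hCM _ x.2) hd
  rw [K970.InvAt.invertibleAt_iff_of_iso e]
  exact (isGorensteinAt_iff R x).trans (invAt_iff_invertibleAt R.dz (-(d : ℤ)) V.ι ⟨x, hx⟩ h1)

/-- Base change over the CM locus for the dualizing sheaves. -/
theorem nonempty_restrict_iso [Flat (Y ↘ Spec (CommRingCat.of A))] (B : Type u) [CommRing B]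
    [IsNoetherianRing B] {Y' : Scheme.{u}} [Y'.Over (Spec (CommRingCat.of B))]
    {g : Spec (CommRingCat.of B) ⟶ Spec (CommRingCat.of A)} {p : Y' ⟶ Y}
    (hp : IsPullback p (Y' ↘ Spec (CommRingCat.of B)) (Y ↘ Spec (CommRingCat.of A)) g)
    {ω' : Y'.Modules} (hω' : RelCanon.IsDualizingSheaf B Y' d ω')
    {V V' : Scheme.{u}} {j : V ⟶ Y} {j' : V' ⟶ Y'} {pV : V' ⟶ V}
    [IsOpenImmersion j] [IsOpenImmersion j'] (hV : IsPullback pV j' j p)
    (hCM : ∀ x : V, MoreMor.IsCMAt (Y ↘ Spec (CommRingCat.of A)) (j x)) :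
    Nonempty (ω'.restrict j' ≅ (Scheme.Modules.pullback pV).obj (ω.restrict j)) := by
  have := isNoetherian_spec A
  have := isNoetherian_spec B
  have hpr : IsProper (Y' ↘ Spec (CommRingCat.of B)) := MorphismProperty.of_isPullback hp inferInstance
  obtain ⟨R⟩ := exists_ra' (Y ↘ Spec (CommRingCat.of A))
  obtain ⟨R'⟩ := exists_ra' (Y' ↘ Spec (CommRingCat.of B))
  obtain ⟨e⟩ := iso_dz A d (fibreDimLE hd) R hω
  obtain ⟨e'⟩ := iso_dz B d (fibreDimLE (hasRelDim_bc hp hd)) R' hω'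
  obtain ⟨e1⟩ := nonempty_restrict_bc hp R R' hV hCM hd
  exact ⟨(Scheme.Modules.restrictFunctor j').mapIso e' ≪≫ e1 ≪≫
    (Scheme.Modules.pullback pV).mapIso ((Scheme.Modules.restrictFunctor j).mapIso e.symm)⟩

/-- The fibres of `ω` when `f` is CM. -/
theorem isDualizingSheafFib_of_cm (hCM : ∀ x : Y, MoreMor.IsCMAt (Y ↘ Spec (CommRingCat.of A)) x)
    (t : Spec (CommRingCat.of A)) :
    RelCanon.IsDualizingSheafFib (Y ↘ Spec (CommRingCat.of A)) d ω t := by
  have hfl : Flat (Y ↘ Spec (CommRingCat.of A)) := flat_of_cm hCM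
  let f := Y ↘ Spec (CommRingCat.of A)
  let κ : Type u := (Spec (CommRingCat.of A)).residueField t
  let _ : (f.fiber t).Over (Spec (CommRingCat.of κ)) := ⟨f.fiberToSpecResidueField t⟩
  have hp : IsPullback (f.fiberι t) ((f.fiber t) ↘ Spec (CommRingCat.of κ)) f
      ((Spec (CommRingCat.of A)).fromSpecResidueField t) := IsPullback.of_hasPullback _ _
  have hpr : IsProper ((f.fiber t) ↘ Spec (CommRingCat.of κ)) := MorphismProperty.of_isPullback hp inferInstance
  obtain ⟨R'⟩ := exists_ra' ((f.fiber t) ↘ Spec (CommRingCat.of κ))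
  have h1 := isDualizingSheaf_dz κ d (fibreDimLE (hasRelDim_bc hp hd)) R'
  obtain ⟨e⟩ := nonempty_restrict_iso A hd hω κ hp h1 (j := 𝟙 Y) (j' := 𝟙 (f.fiber t))
    (pV := f.fiberι t) (IsPullback.of_vert_isIso (by simp)) (fun x => hCM x)
  refine Compare1.isDualizingSheaf_of_iso h1 ?_
  exact (Scheme.Modules.restrictFunctorId.app _).symm ≪≫ e ≪≫
    (Scheme.Modules.pullback (f.fiberι t)).mapIso (Scheme.Modules.restrictFunctorId.app ω)

end Affine

end K968.Compare4
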