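import Groth.Agent.QGor.K968.Compare1
import Groth.Agent.S0998
import Groth.Agent.S1766
import Groth.Agent.S3603
import Groth.Agent.PerfB.FlatPull
import Groth.Agent.PerfB.FibreZero
import Groth.Agent.Dual.H306.BCPushQ
import Groth.Agent.Dual.H360.ProjAff
import Groth.Agent.Dual.H318.PureDim
import Groth.Agent.FibDim.K582.RelDim
import Groth.Agent.Ega4fib.H172.FibDimBC
import Groth.Prelude.Def_RelCanon

/-!
# Base change of `H^{-d}(a(O))`

* `RA f`: a right adjoint of `Rf_*` on `D_QCoh` with all its data; `exists_ra`.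
* `nonempty_bc`: `Lp^* a(O) ≅ a'(O)` for `f` proper, flat, of finite presentation and any base change.
* `nonempty_flat`: `p^* ω ≅ H^{-d}(a'(O))` for a flat base change.
-/

set_option autoImplicit false
universe u
open CategoryTheory CategoryTheory.Limits AlgebraicGeometry TopologicalSpace Opposite
attribute [local instance] HasDerivedCategory.standard

namespace K968.Compare2

open Groth.Agent

/-- A right adjoint of `Rf_*` on `D_QCoh`. -/
structure RA {X S : Scheme.{u}} (f : X ⟶ S) where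
  hr : DCoh.HasRpush f
  h : DCoh.RpushPreservesQCoh f
  a : DCoh.DQCoh S ⥤ DCoh.DQCoh X
  adj : DCoh.RpushQ f h ⊣ a

theorem exists_ra {X S : Scheme.{u}} [CompactSpace X] [QuasiSeparatedSpace X] [CompactSpace S]
    [QuasiSeparatedSpace S] (f : X ⟶ S) [QuasiCompact f] [QuasiSeparated f] : Nonempty (RA f) := by
  have hr : DCoh.HasRpush f := PerfA.ExtPush.hasRpush f
  have h : DCoh.RpushPreservesQCoh f := fun K hK => S0998.result f K hK
  have hl : (DCoh.RpushQ f h).IsLeftAdjoint := S1766.result X S f h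
  exact ⟨⟨hr, h, _, Adjunction.ofIsLeftAdjoint (DCoh.RpushQ f h)⟩⟩

/-- `O_S` in degree `0`. -/
noncomputable def oD (S : Scheme.{u}) : DCoh.DQCoh S :=
  ⟨DCoh.inD S (Coh.structureModule S), PerfA.QCohD.isQCohD_inD _ (Fdesc.StructMod.isQCoh_structureModule S)⟩

/-- `a(O_S)`. -/
noncomputable def RA.dz {X S : Scheme.{u}} {f : X ⟶ S} (R : RA f) : DCoh.D X := (R.a.obj (oD S)).obj

theorem RA.isQCohD {X S : Scheme.{u}} {f : X ⟶ S} (R : RA f) : DCoh.IsQCohD R.dz :=
  (R.a.obj (oD S)).property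

section BC

variable {X S X' S' : Scheme.{u}} [CompactSpace X] [QuasiSeparatedSpace X] [CompactSpace S]
  [QuasiSeparatedSpace S] [CompactSpace X'] [QuasiSeparatedSpace X'] [CompactSpace S']
  [QuasiSeparatedSpace S'] {f : X ⟶ S} {g : S' ⟶ S} {f' : X' ⟶ S'} {p : X' ⟶ X}

/-- `Lp^* a(O) ≅ a'(O)`. -/
theorem nonempty_bc (hsq : IsPullback p f' f g) [IsProper f] [Flat f] [LocallyOfFinitePresentation f]
    [DCoh.HasLpull p] (R : RA f) (R' : RA f') : Nonempty ((DCoh.Lpull p).obj R.dz ≅ R'.dz) := by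
  have := R.hr
  have := R'.hr
  have : DCoh.HasRpush g := PerfA.ExtPush.hasRpush g
  have : DCoh.HasRpush p := PerfA.ExtPush.hasRpush p
  have : DCoh.HasLpull g := PerfC.PullKFlat.hasLpull g
  have : QuasiCompact g := inferInstance
  have : QuasiSeparated g := inferInstance
  have hg : DCoh.RpushPreservesQCoh g := fun K hK => S0998.result g K hK
  have hp : DCoh.RpushPreservesQCoh p := fun K hK => S0998.result p K hK
  have hLg := Dual.H360.ProjAff.lpullPreserves g
  have hLp := Dual.H360.ProjAff.lpullPreserves p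
  obtain ⟨e, hξ, hb⟩ := S3603.result X S X' S' f g f' p hsq R.h R'.h hg hp R.a R'.a R.adj R'.adj hLg hLp
    (Dual.H360.ProjAff.pullPushQAdj g hLg hg) (Dual.H360.ProjAff.pullPushQAdj p hLp hp)
  have := hb (oD S)
  let e1 := asIso (Dual3.bcMap R.adj R'.adj e (Dual.H360.ProjAff.pullPushQAdj g hLg hg)
    (Dual.H360.ProjAff.pullPushQAdj p hLp hp) (oD S) (hξ _))
  let e2 : (Dual3.LpullQ g hLg).obj (oD S) ≅ oD S' :=
    (ObjectProperty.ι _).preimageIso (PerfB.FibreZero.lpullStructure g)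
  exact ⟨(ObjectProperty.ι _).mapIso (e1 ≪≫ R'.a.mapIso e2)⟩

end BC

section Affine

variable (A : Type u) [CommRing A] [IsNoetherianRing A] {Y : Scheme.{u}} [Y.Over (Spec (CommRingCat.of A))]
  [IsProper (Y ↘ Spec (CommRingCat.of A))] (d : ℕ)
  (hd : ∀ s : Spec (CommRingCat.of A), topologicalKrullDim ↥((Y ↘ Spec (CommRingCat.of A)).fiber s) ≤ d)

include hd

theorem isGE_dz (R : RA (Y ↘ Spec (CommRingCat.of A))) : R.dz.IsGE (-(d : ℤ)) :=
  have := R.hr
  Compare1.isGE_a A d hd R.adj (oD _) ⟨Iso.refl _⟩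

theorem isDualizingSheaf_dz (R : RA (Y ↘ Spec (CommRingCat.of A))) :
    RelCanon.IsDualizingSheaf A Y d (DCoh.HD R.dz (-(d : ℤ))) :=
  have := R.hr
  Compare1.isDualizingSheaf_HD A d hd R.adj (oD _) ⟨Iso.refl _⟩

theorem iso_dz (R : RA (Y ↘ Spec (CommRingCat.of A))) {ω : Y.Modules}
    (hω : RelCanon.IsDualizingSheaf A Y d ω) : Nonempty (ω ≅ DCoh.HD R.dz (-(d : ℤ))) :=
  Compare1.iso_of_isDualizingSheaf hω (isDualizingSheaf_dz A d hd R)

end Affine

theorem hasRelDim_bc {X S X' S' : Scheme.{u}} {f : X ⟶ S} [LocallyOfFiniteType f] {g : S' ⟶ S}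
    {p : X' ⟶ X} {f' : X' ⟶ S'} (hsq : IsPullback p f' f g) {d : ℕ} (h : Cyc.HasRelDim f d) :
    Cyc.HasRelDim f' d := by
  have hf' : LocallyOfFiniteType f' := MorphismProperty.of_isPullback hsq inferInstance
  rw [K582.FibRelDim.hasRelDim_iff] at h ⊢
  exact fun x' => (Groth.Agent.Ega4fib.H172.FibDimBC.fibreDimAt_of_isPullback hsq x').trans (h _)

theorem fibreDimLE {X S : Scheme.{u}} {f : X ⟶ S} {d : ℕ} (h : Cyc.HasRelDim f d) (s : S) :
    topologicalKrullDim ↥(f.fiber s) ≤ d :=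
  Dual.H318.PureDim.fibreDimLE f d h s

section OverAffine

variable {A : Type u} [CommRing A] [IsNoetherianRing A] {Y : Scheme.{u}}
  (f : Y ⟶ Spec (CommRingCat.of A))

include A f

omit [IsNoetherianRing A] in
theorem compactSpace [QuasiCompact f] : CompactSpace Y := QuasiCompact.compactSpace_of_compactSpace f

omit [IsNoetherianRing A] in
theorem quasiSeparatedSpace [QuasiSeparated f] : QuasiSeparatedSpace Y :=
  quasiSeparatedSpace_of_quasiSeparated f

theorem lofp [LocallyOfFiniteType f] : LocallyOfFinitePresentation f := by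
  have : IsNoetherianRing (CommRingCat.of A) := inferInstanceAs (IsNoetherianRing A)
  exact LoccohB.RightAdj2.locallyOfFinitePresentation_of_isLocallyNoetherian f

omit [IsNoetherianRing A] in
theorem exists_ra' [QuasiCompact f] [QuasiSeparated f] : Nonempty (RA f) :=
  have := compactSpace f
  have := quasiSeparatedSpace f
  exists_ra f

end OverAffine

section FlatBC

variable (A : Type u) [CommRing A] [IsNoetherianRing A] {Y : Scheme.{u}} [Y.Over (Spec (CommRingCat.of A))]
  [IsProper (Y ↘ Spec (CommRingCat.of A))] (d : ℕ)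
  (hd : Cyc.HasRelDim (Y ↘ Spec (CommRingCat.of A)) d)
  [Flat (Y ↘ Spec (CommRingCat.of A))]
  (B : Type u) [CommRing B] [IsNoetherianRing B] (φ : A →+* B)
  {Y' : Scheme.{u}} [Y'.Over (Spec (CommRingCat.of B))] (p : Y' ⟶ Y)
  (hp : IsPullback p (Y' ↘ Spec (CommRingCat.of B)) (Y ↘ Spec (CommRingCat.of A)) (Spec.map (CommRingCat.ofHom φ)))

include hd hp

/-- Flat base change for `ω`. -/
theorem isDualizingSheaf_pullback (hφ : φ.Flat) {ω : Y.Modules} (hω : RelCanon.IsDualizingSheaf A Y d ω) :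
    RelCanon.IsDualizingSheaf B Y' d ((Scheme.Modules.pullback p).obj ω) := by
  have hpr : IsProper (Y' ↘ Spec (CommRingCat.of B)) := MorphismProperty.of_isPullback hp inferInstance
  have hg : Flat (Spec.map (CommRingCat.ofHom φ)) := by
    rw [HasRingHomProperty.Spec_iff (P := @Flat)]
    exact hφ
  have hpf : Flat p := MorphismProperty.of_isPullback hp.flip inferInstance
  obtain ⟨R⟩ := exists_ra' (Y ↘ Spec (CommRingCat.of A))
  obtain ⟨R'⟩ := exists_ra' (Y' ↘ Spec (CommRingCat.of B))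
  have := compactSpace (Y ↘ Spec (CommRingCat.of A))
  have := quasiSeparatedSpace (Y ↘ Spec (CommRingCat.of A))
  have := compactSpace (Y' ↘ Spec (CommRingCat.of B))
  have := quasiSeparatedSpace (Y' ↘ Spec (CommRingCat.of B))
  have := lofp (Y ↘ Spec (CommRingCat.of A))
  have : DCoh.HasLpull p := PerfC.PullKFlat.hasLpull p
  obtain ⟨e⟩ := nonempty_bc hp R R'
  obtain ⟨e1⟩ := iso_dz A d (fibreDimLE hd) R hω
  refine Compare1.isDualizingSheaf_of_iso (isDualizingSheaf_dz B d (fibreDimLE (hasRelDim_bc hp hd)) R') ?_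
  exact (DerivedCategory.homologyFunctor _ (-(d : ℤ))).mapIso e.symm ≪≫
    PerfB.FlatPull.HDLpull p R.dz (-(d : ℤ)) ≪≫ (Scheme.Modules.pullback p).mapIso e1.symm

end FlatBC

end K968.Compare2
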