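import Groth.Agent.QGor.K968.LiftCrit
import Groth.Agent.QGor.K968.LocKey3

/-!
# Lifting homomorphisms from the closed fibre

`A → B` a local homomorphism of Noetherian local rings.

* `injective_of_fibre` : `u : N → M` finite, `M` flat over `A`, `u` injective modulo `m_A`: then `u` is injective
  and its cokernel is flat.
* `exists_lift_complex` : a complex `C0 → C1 → C2` of finite `A`-flat modules, exact in the middle modulo `m_A`.
* `exists_lift_hom` : `Ext^1` of the closed fibres zero: homomorphisms lift from the closed fibre.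
* `bijective_of_fibre` : a homomorphism of finite `A`-flat modules which is bijective modulo `m_A` is bijective.
* `exists_equiv_of_fibre` : two finite `A`-flat modules with isomorphic closed fibres `Ω`, `Ext^1(Ω, Ω) = 0`, are
  isomorphic.
-/

set_option autoImplicit false
universe u

open TensorProduct

namespace K968.HomBC

open Function K968.LiftCrit

variable {A B : Type u} [CommRing A] [CommRing B] [IsNoetherianRing A] [IsNoetherianRing B]
  [IsLocalRing A] [IsLocalRing B] [Algebra A B] [IsLocalHom (algebraMap A B)]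

section Crit

variable {N M : Type u} [AddCommGroup N] [Module B N] [Module A N] [IsScalarTower A B N]
  [Module.Finite B N] [AddCommGroup M] [Module B M] [Module A M] [IsScalarTower A B M]
  [Module.Finite B M] [Module.Flat A M] (u : N →ₗ[B] M)

omit [IsNoetherianRing A] [IsNoetherianRing B] in
theorem mB_le : EGA4.mB A B ≤ Ideal.jacobson (⊥ : Ideal B) :=
  (IsLocalRing.map_maximalIdeal_le (algebraMap A B)).trans (IsLocalRing.maximalIdeal_le_jacobson _)

include u in
theorem flat_coker (h : ∀ x : N, u x ∈ (EGA4.mB A B • (⊤ : Submodule B M)) →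
    x ∈ (EGA4.mB A B • (⊤ : Submodule B N))) : Module.Flat A (M ⧸ LinearMap.range u) := by
  refine flat_coker_of_lift u (LinearMap.range u).mkQ (Submodule.mkQ_surjective _)
    (LinearMap.exact_map_mkQ_range u) fun e he n => ⟨0, ?_, ?_⟩
  · rw [map_zero]; exact Submodule.zero_mem _
  · rw [sub_zero]; exact h e he

theorem flat_range (h : ∀ x : N, u x ∈ (EGA4.mB A B • (⊤ : Submodule B M)) →
    x ∈ (EGA4.mB A B • (⊤ : Submodule B N))) : Module.Flat A (LinearMap.range u) := by
  have := flat_coker u h
  exact LocKey.flat_of_exact ((LinearMap.range u).subtype.restrictScalars A)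
      ((LinearMap.range u).mkQ.restrictScalars A) (Submodule.mkQ_surjective _)
      (Submodule.subtype_injective _) (LinearMap.exact_subtype_mkQ _)

theorem injective_of_fibre (h : ∀ x : N, u x ∈ (EGA4.mB A B • (⊤ : Submodule B M)) →
    x ∈ (EGA4.mB A B • (⊤ : Submodule B N))) : Injective u := by
  have := flat_range u h
  rw [← LinearMap.ker_eq_bot]
  apply Submodule.eq_bot_of_le_smul_of_le_jacobson_bot (EGA4.mB A B) _ (IsNoetherian.noetherian _)
    ?_ mB_le
  intro x hx
  have h1 := mem_smul_ker (A := A) u.rangeRestrict u.surjective_rangeRestrict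
    (IsLocalRing.maximalIdeal A) (x := x) (h x (by rw [LinearMap.mem_ker.1 hx]; exact Submodule.zero_mem _))
    (by ext; exact hx)
  rwa [LinearMap.ker_rangeRestrict] at h1

omit [IsNoetherianRing A] [IsNoetherianRing B] [Module A N] [IsScalarTower A B N] [Module.Finite B N]
  [Module A M] [IsScalarTower A B M] [Module.Flat A M] in
theorem surjective_of_fibre (h : ∀ y : M, ∃ x : N, y - u x ∈ (EGA4.mB A B • (⊤ : Submodule B M))) :
    Surjective u := by
  rw [← LinearMap.range_eq_top]
  apply top_le_iff.1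
  have : Module.Finite B M := inferInstance
  refine Submodule.le_of_le_smul_of_le_jacobson_bot (I := EGA4.mB A B) this.1 mB_le ?_
  intro y _
  obtain ⟨x, hx⟩ := h y
  rw [← sub_add_cancel y (u x)]
  exact Submodule.add_mem _ (Submodule.mem_sup_right hx) (Submodule.mem_sup_left ⟨x, rfl⟩)

/-- A homomorphism which is bijective modulo `m_A`, with target flat over `A`, is bijective. -/
theorem bijective_of_fibre (h : ∀ x : N, u x ∈ (EGA4.mB A B • (⊤ : Submodule B M)) →
    x ∈ (EGA4.mB A B • (⊤ : Submodule B N)))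
    (h' : ∀ y : M, ∃ x : N, y - u x ∈ (EGA4.mB A B • (⊤ : Submodule B M))) : Bijective u :=
  ⟨injective_of_fibre u h, surjective_of_fibre u h'⟩

end Crit

section Complex

variable {C0 C1 C2 : Type u} [AddCommGroup C0] [Module B C0]
  [AddCommGroup C1] [Module B C1] [Module A C1] [IsScalarTower A B C1] [Module.Finite B C1]
  [AddCommGroup C2] [Module B C2] [Module A C2] [IsScalarTower A B C2] [Module.Finite B C2]
  [Module.Flat A C2] (d0 : C0 →ₗ[B] C1) (d1 : C1 →ₗ[B] C2)

/-- A complex exact in the middle modulo `m_A`: cocycles of degree `0` lift from the closed fibre. -/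
theorem exists_lift_complex (hd : ∀ z, d1 (d0 z) = 0)
    (h : ∀ x : C1, d1 x ∈ (EGA4.mB A B • (⊤ : Submodule B C2)) →
      ∃ z : C0, x - d0 z ∈ (EGA4.mB A B • (⊤ : Submodule B C1)))
    (z : C0) (hz : d0 z ∈ (EGA4.mB A B • (⊤ : Submodule B C1))) :
    ∃ z' : C0, d0 z' = 0 ∧ z - z' ∈ (EGA4.mB A B • (⊤ : Submodule B C0)) := by
  let v : C1 →ₗ[B] (C1 ⧸ LinearMap.range d0) := (LinearMap.range d0).mkQ
  let w : (C1 ⧸ LinearMap.range d0) →ₗ[B] C2 := (LinearMap.range d0).liftQ d1 (by
    rintro _ ⟨z, rfl⟩
    exact hd z)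
  have hw : ∀ q : (C1 ⧸ LinearMap.range d0), w q ∈ (EGA4.mB A B • (⊤ : Submodule B C2)) →
      q ∈ (EGA4.mB A B • (⊤ : Submodule B (C1 ⧸ LinearMap.range d0))) := by
    intro q hq
    obtain ⟨x, rfl⟩ := Submodule.mkQ_surjective _ q
    obtain ⟨z, hz⟩ := h x hq
    have h1 : v (x - d0 z) ∈ (EGA4.mB A B • (⊤ : Submodule B C1)).map v := Submodule.mem_map_of_mem hz
    rw [Submodule.map_smul''] at h1
    have h2 : v (x - d0 z) = v x := by
      rw [map_sub, sub_eq_self]
      exact (Submodule.Quotient.mk_eq_zero _).2 ⟨z, rfl⟩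
    rw [h2] at h1
    exact Submodule.smul_mono le_rfl le_top h1
  have hinj := injective_of_fibre w hw
  have hR := flat_range w hw
  have : Module.Flat A (C1 ⧸ LinearMap.range d0) :=
    Module.Flat.of_linearEquiv ((LinearEquiv.ofInjective w hinj).restrictScalars A)
  obtain ⟨z', hz', hzz⟩ := exists_sub_mem_ker (A := A) d0 v (Submodule.mkQ_surjective _)
    (LinearMap.exact_map_mkQ_range d0) (IsLocalRing.maximalIdeal A) hz
  exact ⟨z', hz', hzz⟩

end Complex

section Hom

variable {Λ W : Type u} [AddCommGroup Λ] [Module B Λ] [Module.Finite B Λ]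
  [AddCommGroup W] [Module B W] [Module A W] [IsScalarTower A B W] [Module.Finite B W]

omit [IsNoetherianRing A] [IsNoetherianRing B] [IsLocalRing B] [IsLocalHom (algebraMap A B)]
  [Module A W] [IsScalarTower A B W] [Module.Finite B W] in
/-- A tuple with entries in `𝔫 W`. -/
theorem mem_smul_pi {n : ℕ} {x : Fin n → W} (h : ∀ i, x i ∈ (EGA4.mB A B • (⊤ : Submodule B W))) :
    x ∈ (EGA4.mB A B • (⊤ : Submodule B (Fin n → W))) := by
  have h1 : x = ∑ i, (LinearMap.single B (fun _ : Fin n => W) i) (x i) := by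
    ext j
    simp [Pi.single_apply]
  rw [h1]
  refine Submodule.sum_mem _ fun i _ => ?_
  have h2 : (LinearMap.single B (fun _ : Fin n => W) i) (x i) ∈
      (EGA4.mB A B • (⊤ : Submodule B W)).map (LinearMap.single B (fun _ : Fin n => W) i) :=
    Submodule.mem_map_of_mem (h i)
  rw [Submodule.map_smul''] at h2
  exact Submodule.smul_mono le_rfl le_top h2

theorem flat_pi {R : Type*} [CommRing R] {V : Type*} [AddCommGroup V] [Module R V] [Module.Flat R V]
    (l : ℕ) : Module.Flat R (Fin l → V) :=
  Module.Flat.of_linearEquiv (DFinsupp.linearEquivFunOnFintype (R := R) (M := fun _ : Fin l => V)).symm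

/-- Precomposition with a matrix: `(W^n → W^m)`. -/
noncomputable def pre {n m : ℕ} (W : Type u) [AddCommGroup W] [Module B W]
    (d : (Fin m → B) →ₗ[B] (Fin n → B)) : (Fin n → W) →ₗ[B] (Fin m → W) :=
  LinearMap.pi fun j => ∑ i, (d (Pi.single j 1) i) • LinearMap.proj i

theorem pre_apply {n m : ℕ} (d : (Fin m → B) →ₗ[B] (Fin n → B)) (x : Fin n → W) (j : Fin m) :
    pre W d x j = Fintype.linearCombination B x (d (Pi.single j 1)) := by
  simp [pre, Fintype.linearCombination_apply]

theorem linearCombination_pre {n m : ℕ} (d : (Fin m → B) →ₗ[B] (Fin n → B)) (x : Fin n → W)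
    (c : Fin m → B) :
    Fintype.linearCombination B (pre W d x) c = Fintype.linearCombination B x (d c) := by
  have h : Fintype.linearCombination B (pre W d x) = (Fintype.linearCombination B x) ∘ₗ d := by
    apply LinearMap.pi_ext'
    intro j
    ext
    simp [pre_apply, Fintype.linearCombination_apply_single]
  rw [h]
  rfl

variable [Module.Flat A W]

/-- Homomorphisms lift from the closed fibre when maps from the first syzygy module to the closed fibre of the
target extend. -/
theorem exists_lift_hom (N : Submodule B W) (hN : N = EGA4.mB A B • (⊤ : Submodule B W))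
    {n : ℕ} (π : (Fin n → B) →ₗ[B] Λ) (hπ : Surjective π)
    (hext : ∀ x : LinearMap.ker π →ₗ[B] (W ⧸ N),
      ∃ y : (Fin n → B) →ₗ[B] (W ⧸ N), ∀ k : LinearMap.ker π, x k = y k)
    (φ₀ : Λ →ₗ[B] (W ⧸ N)) :
    ∃ φ : Λ →ₗ[B] W, ∀ l, Submodule.Quotient.mk (φ l) = φ₀ l := by
  -- resolution
  obtain ⟨m, d1, hd1⟩ : ∃ (m : ℕ) (d1 : (Fin m → B) →ₗ[B] (Fin n → B)), Exact d1 π := by
    obtain ⟨m, f, hf⟩ := Module.Finite.exists_fin' B (LinearMap.ker π)
    refine ⟨m, (LinearMap.ker π).subtype ∘ₗ f, fun y => ⟨fun hy => ?_, ?_⟩⟩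
    · obtain ⟨x, hx⟩ := hf ⟨y, hy⟩
      exact ⟨x, congrArg Subtype.val hx⟩
    · rintro ⟨x, rfl⟩
      exact (f x).2
  obtain ⟨l, d2, hd2⟩ : ∃ (l : ℕ) (d2 : (Fin l → B) →ₗ[B] (Fin m → B)), Exact d2 d1 := by
    obtain ⟨l, f, hf⟩ := Module.Finite.exists_fin' B (LinearMap.ker d1)
    refine ⟨l, (LinearMap.ker d1).subtype ∘ₗ f, fun y => ⟨fun hy => ?_, ?_⟩⟩
    · obtain ⟨x, hx⟩ := hf ⟨y, hy⟩
      exact ⟨x, congrArg Subtype.val hx⟩
    · rintro ⟨x, rfl⟩
      exact (f x).2
  -- lifts of linear maps on free modules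
  have lift : ∀ (k : ℕ) (y : (Fin k → B) →ₗ[B] (W ⧸ N)), ∃ z : Fin k → W,
      ∀ c, Submodule.Quotient.mk (Fintype.linearCombination B z c) = y c := by
    intro k y
    choose z hz using fun i => Submodule.Quotient.mk_surjective N (y (Pi.single i 1))
    refine ⟨z, fun c => ?_⟩
    have : N.mkQ ∘ₗ (Fintype.linearCombination B z) = y := by
      apply LinearMap.pi_ext'
      intro j
      ext
      simp [Fintype.linearCombination_apply_single, hz]
    exact LinearMap.congr_fun this c
  obtain ⟨z, hz⟩ := lift n (φ₀ ∘ₗ π)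
  have hfl : Module.Flat A (Fin l → W) := flat_pi l
  obtain ⟨z', hz1, hz2⟩ := exists_lift_complex (A := A) (pre W d1) (pre W d2) (by
      intro z
      ext j
      rw [pre_apply, linearCombination_pre, hd2.apply_apply_eq_zero, map_zero]
      rfl) (by
      intro x hx
      have hx' : ∀ j, pre W d2 x j ∈ N := by
        intro j
        have h1 : (LinearMap.proj j : (Fin l → W) →ₗ[B] W) (pre W d2 x) ∈
          (EGA4.mB A B • (⊤ : Submodule B (Fin l → W))).map (LinearMap.proj j) := Submodule.mem_map_of_mem hx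
        rw [Submodule.map_smul''] at h1
        rw [hN]
        exact Submodule.smul_mono le_rfl le_top h1
      -- `x` mod `𝔫` factors through the kernel of `π`
      let xb : (Fin m → B) →ₗ[B] (W ⧸ N) := N.mkQ ∘ₗ Fintype.linearCombination B x
      have hxb : LinearMap.ker d1 ≤ LinearMap.ker xb := by
        intro c hc
        obtain ⟨c', rfl⟩ := (hd2 c).1 hc
        change N.mkQ (Fintype.linearCombination B x (d2 c')) = 0
        rw [← linearCombination_pre, Submodule.mkQ_apply, Submodule.Quotient.mk_eq_zero,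
          Fintype.linearCombination_apply]
        exact Submodule.sum_mem _ fun j _ => Submodule.smul_mem _ _ (hx' j)
      let e : ((Fin m → B) ⧸ LinearMap.ker d1) ≃ₗ[B] LinearMap.ker π :=
        d1.quotKerEquivRange ≪≫ₗ LinearEquiv.ofEq _ _ hd1.linearMap_ker_eq.symm
      obtain ⟨y, hy⟩ := hext (((LinearMap.ker d1).liftQ xb hxb) ∘ₗ e.symm.toLinearMap)
      obtain ⟨w, hw⟩ := lift n y
      refine ⟨w, mem_smul_pi fun j => ?_⟩
      rw [← hN, ← Submodule.Quotient.mk_eq_zero, Pi.sub_apply, Submodule.Quotient.mk_sub, sub_eq_zero,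
        pre_apply, hw]
      have h2 := hy (e (Submodule.Quotient.mk (Pi.single j 1)))
      have h3 : ((e (Submodule.Quotient.mk (Pi.single j 1)) : LinearMap.ker π) : Fin n → B) =
        d1 (Pi.single j 1) := rfl
      rw [h3] at h2
      rw [← h2]
      simp only [LinearMap.comp_apply, LinearEquiv.coe_coe, LinearEquiv.symm_apply_apply]
      change _ = xb (Pi.single j 1)
      simp [xb, Fintype.linearCombination_apply_single]) z (mem_smul_pi fun j => by
      rw [← hN, ← Submodule.Quotient.mk_eq_zero, pre_apply, hz]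
      simp [hd1.apply_apply_eq_zero])
  -- descend `z'`
  have hk : LinearMap.ker π ≤ LinearMap.ker (Fintype.linearCombination B z') := by
    intro c hc
    obtain ⟨c', rfl⟩ := (hd1 c).1 hc
    rw [LinearMap.mem_ker, ← linearCombination_pre, hz1, Fintype.linearCombination_apply]
    exact Finset.sum_eq_zero fun i _ => smul_zero _
  let e : ((Fin n → B) ⧸ LinearMap.ker π) ≃ₗ[B] Λ := π.quotKerEquivOfSurjective hπ
  refine ⟨((LinearMap.ker π).liftQ _ hk) ∘ₗ e.symm.toLinearMap, fun lam => ?_⟩
  obtain ⟨c, rfl⟩ := hπ lam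
  have h4 : e.symm (π c) = Submodule.Quotient.mk c := by
    rw [LinearEquiv.symm_apply_eq]
    rfl
  simp only [LinearMap.comp_apply, LinearEquiv.coe_coe, h4]
  rw [Submodule.liftQ_apply]
  have h5 := hz c
  rw [LinearMap.comp_apply] at h5
  rw [← h5, ← sub_eq_zero, ← Submodule.Quotient.mk_sub, Submodule.Quotient.mk_eq_zero]
  have h6 : ∀ i, z i - z' i ∈ N := by
    intro i
    have h1 : (LinearMap.proj i : (Fin n → W) →ₗ[B] W) (z - z') ∈
      (EGA4.mB A B • (⊤ : Submodule B (Fin n → W))).map (LinearMap.proj i) := Submodule.mem_map_of_mem hz2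
    rw [Submodule.map_smul''] at h1
    rw [hN]
    exact Submodule.smul_mono le_rfl le_top h1
  rw [← neg_mem_iff, neg_sub, Fintype.linearCombination_apply, Fintype.linearCombination_apply,
    ← Finset.sum_sub_distrib]
  refine Submodule.sum_mem _ fun i _ => ?_
  rw [← smul_sub]
  exact Submodule.smul_mem _ _ (h6 i)

end Hom

end K968.HomBC
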