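import Groth.Agent.QGor.K968.GoodLoc
import Groth.Agent.QGor.K968.Compare4
import Groth.Agent.QGor.K967.CMLocus
import Groth.Agent.QGor.K970.RelSk1
import Groth.Agent.Dual.H342.StalkChart
import Groth.Agent.S1810
import Groth.Agent.PerfA.FieldSch
import Groth.Agent.Dcoh.StalkRes
import Groth.Agent.FormalB.PullCoh
import Groth.Agent.S1342
import Groth.Agent.S4961

/-!
# Endomorphisms of the dualizing sheaf at Cohen–Macaulay points: the fibres

* `good_stalk`: a dualizing complex on a scheme with one cohomology sheaf at `x`;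
* `good_dualizing`: the dualizing sheaf of a proper scheme over a field at a Cohen–Macaulay point;
* `good_fibStalk`: `ω_x / m ω_x` over `O_x / m O_x` for a relative dualizing sheaf `ω`.
-/

set_option autoImplicit false
universe u

open CategoryTheory CategoryTheory.Limits AlgebraicGeometry TopologicalSpace Opposite Function
attribute [local instance] HasDerivedCategory.standard

namespace K968.GoodStalk

open Groth.Agent K968.GoodLoc K968.Compare2

theorem exists_chart {X : Scheme.{u}} [IsLocallyNoetherian X] (x : X) :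
    ∃ (C : Type u) (_ : CommRing C) (_ : IsNoetherianRing C) (j : Spec (CommRingCat.of C) ⟶ X)
      (_ : IsOpenImmersion j) (p : Spec (CommRingCat.of C)), j p = x := by
  obtain ⟨_, ⟨U, hU, rfl⟩, hxU, -⟩ :=
    X.isBasis_affineOpens.exists_subset_of_mem_open (Set.mem_univ x) isOpen_univ
  have h1 : IsNoetherianRing Γ(X, U) := IsLocallyNoetherian.component_noetherian ⟨U, hU⟩
  have hU' : IsAffineOpen U := hU
  have h2 : x ∈ Set.range hU'.fromSpec := by
    rw [hU'.range_fromSpec]
    exact hxU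
  obtain ⟨p, hp⟩ := h2
  exact ⟨Γ(X, U), inferInstance, h1, hU'.fromSpec, inferInstance, p, hp⟩

/-- A dualizing complex with one cohomology sheaf at `x`. -/
theorem good_stalk {X : Scheme.{u}} [IsLocallyNoetherian X] (K : DCoh.D X)
    (hK : Dual2.IsDualizingSch X K) (m : ℤ) (x : X)
    (h : ∀ i : ℤ, i ≠ m → Subsingleton ((DCoh.HD K i).presheaf.stalk x)) :
    Good (X.presheaf.stalk x) ((DCoh.HD K m).presheaf.stalk x) := by
  obtain ⟨C, _, _, j, _, p, rfl⟩ := exists_chart x
  obtain ⟨ω, hω, ⟨e⟩⟩ := hK C j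
  have e' : ∀ i : ℤ, (DCoh.HD K i).restrict j ≅
      tilde (R := CommRingCat.of C) ((DerivedCategory.homologyFunctor (ModuleCat.{u} C) i).obj ω) :=
    fun i => (PerfA.Restrict.HDrestrict j K i).symm ≪≫
      (DerivedCategory.homologyFunctor _ i).mapIso e ≪≫ LoccohB.CMSch.tildeHD (CommRingCat.of C) ω i
  obtain ⟨σ, τ, hτ⟩ := Dual.H342.StalkChart.exists_semilinear (CommRingCat.of C) j _ _ (e' m) p
  refine Good.of_semi σ τ hτ (good_localized C hω m _ fun i hi => ?_)
  obtain ⟨σ', τ', hτ'⟩ := Dual.H342.StalkChart.exists_semilinear (CommRingCat.of C) j _ _ (e' i) p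
  have := h i hi
  exact τ'.toEquiv.subsingleton

section Field

variable (k : Type u) [Field k] {X : Scheme.{u}} [X.Over (Spec (CommRingCat.of k))]
  [IsProper (X ↘ Spec (CommRingCat.of k))] {d : ℕ} (hd : Cyc.HasRelDim (X ↘ Spec (CommRingCat.of k)) d)
  {ω : X.Modules} (hω : RelCanon.IsDualizingSheaf k X d ω)

include hd hω

/-- The dualizing sheaf at a Cohen–Macaulay point. -/
theorem good_dualizing (x : X) (hx : MoreMor.IsCMAt (X ↘ Spec (CommRingCat.of k)) x) :
    Good (X.presheaf.stalk x) (ω.presheaf.stalk x) := by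
  have hN : IsNoetherianRing (CommRingCat.of k) := inferInstanceAs (IsNoetherianRing k)
  have hlN : IsLocallyNoetherian X := LocallyOfFiniteType.isLocallyNoetherian (X ↘ Spec (CommRingCat.of k))
  obtain ⟨R⟩ := exists_ra' (X ↘ Spec (CommRingCat.of k))
  obtain ⟨e⟩ := iso_dz k d (fibreDimLE hd) R hω
  have hr := R.hr
  have hK : Dual2.IsDualizingSch X R.dz :=
    S1810.result X _ (X ↘ Spec (CommRingCat.of k)) R.h R.a R.adj (oD _)
      (PerfA.FieldSch.isDualizingSch_field k _ ⟨Iso.refl _⟩)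
  have h1 := good_stalk R.dz hK (-(d : ℤ)) x fun i hi =>
    K967.CMLocus.subsingleton_stalk_of_cm (X ↘ Spec (CommRingCat.of k)) R.adj (oD _) ⟨Iso.refl _⟩ d hd x hx
      i hi
  exact Good.of_equiv (Fdesc.Skyscraper.stalkIso e.symm x) h1

end Field

theorem Good.of_isIso_restrict {X : Scheme.{u}} {F G : X.Modules} {V : Scheme.{u}} (j : V ⟶ X)
    [IsOpenImmersion j] (e : F.restrict j ≅ G.restrict j) (v : V)
    (h : Good (X.presheaf.stalk (j v)) (F.presheaf.stalk (j v))) :
    Good (X.presheaf.stalk (j v)) (G.presheaf.stalk (j v)) := by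
  have h1 : Good (V.presheaf.stalk v) ((F.restrict j).presheaf.stalk v) :=
    Good.of_semi (Dcoh.StalkRes.ringIso j v) (Dcoh.StalkRes.addIso j F v).symm (fun r x => by
      rw [AddEquiv.symm_apply_eq, Dcoh.StalkRes.addIso_smul, AddEquiv.apply_symm_apply]) h
  have h2 : Good (V.presheaf.stalk v) ((G.restrict j).presheaf.stalk v) :=
    Good.of_equiv (Fdesc.Skyscraper.stalkIso e v) h1
  refine Good.of_semi (Dcoh.StalkRes.ringIso j v).symm (Dcoh.StalkRes.addIso j G v) (fun r x => ?_) h2
  have h3 := Dcoh.StalkRes.addIso_smul j G v ((Dcoh.StalkRes.ringIso j v).symm r) x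
  rwa [RingEquiv.apply_symm_apply] at h3

section Rel

variable (A : Type u) [CommRing A] [IsNoetherianRing A] {Y : Scheme.{u}} [Y.Over (Spec (CommRingCat.of A))]
  [IsProper (Y ↘ Spec (CommRingCat.of A))] [Flat (Y ↘ Spec (CommRingCat.of A))] {d : ℕ}
  (hd : Cyc.HasRelDim (Y ↘ Spec (CommRingCat.of A)) d)
  {ω : Y.Modules} (hω : RelCanon.IsDualizingSheaf A Y d ω)

include hd hω

/-- The restriction of `ω` to a fibre at a Cohen–Macaulay point. -/
theorem good_pullback (t : Spec (CommRingCat.of A)) (z : (Y ↘ Spec (CommRingCat.of A)).fiber t)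
    (hz : MoreMor.IsCMAt (Y ↘ Spec (CommRingCat.of A)) ((Y ↘ Spec (CommRingCat.of A)).fiberι t z)) :
    Good (((Y ↘ Spec (CommRingCat.of A)).fiber t).presheaf.stalk z)
      (((Scheme.Modules.pullback ((Y ↘ Spec (CommRingCat.of A)).fiberι t)).obj ω).presheaf.stalk z) := by
  let f := Y ↘ Spec (CommRingCat.of A)
  have hN : IsNoetherianRing (CommRingCat.of A) := inferInstanceAs (IsNoetherianRing A)
  have hlN : IsLocallyNoetherian Y := LocallyOfFiniteType.isLocallyNoetherian f
  have hlofp : LocallyOfFinitePresentation f := lofp f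
  let κ : Type u := (Spec (CommRingCat.of A)).residueField t
  let _ : (f.fiber t).Over (Spec (CommRingCat.of κ)) := ⟨f.fiberToSpecResidueField t⟩
  have hp : IsPullback (f.fiberι t) ((f.fiber t) ↘ Spec (CommRingCat.of κ)) f
      ((Spec (CommRingCat.of A)).fromSpecResidueField t) := IsPullback.of_hasPullback _ _
  have hpr : IsProper ((f.fiber t) ↘ Spec (CommRingCat.of κ)) :=
    MorphismProperty.of_isPullback hp inferInstance
  have hd' := hasRelDim_bc hp hd
  obtain ⟨R'⟩ := exists_ra' ((f.fiber t) ↘ Spec (CommRingCat.of κ))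
  have hω' := isDualizingSheaf_dz κ d (fibreDimLE hd') R'
  let V : Y.Opens := ⟨{x : Y | MoreMor.IsCMAt f x}, S4961.result f⟩
  have hz' : MoreMor.IsCMAt ((f.fiber t) ↘ Spec (CommRingCat.of κ)) z := by
    have h1 := S1342.result f ((f.fiber t) ↘ Spec (CommRingCat.of κ)) (f.fiberι t)
      ((Spec (CommRingCat.of A)).fromSpecResidueField t) hp
    have h2 : z ∈ (f.fiberι t) ⁻¹' {x : Y | MoreMor.IsCMAt f x} := hz
    rw [← h1] at h2
    exact h2
  have h1 := good_dualizing κ hd' hω' z hz'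
  obtain ⟨e⟩ := Compare4.nonempty_restrict_iso A hd hω κ hp hω' (j := V.ι) (j' := (f.fiberι t ⁻¹ᵁ V).ι)
    (pV := (f.fiberι t) ∣_ V) (isPullback_morphismRestrict (f.fiberι t) V) (fun x => x.2)
  exact Good.of_isIso_restrict (f.fiberι t ⁻¹ᵁ V).ι
    (e ≪≫ (FormalB.PullCoh.restrictPullbackIso (f.fiberι t) V).app ω) ⟨z, hz⟩ h1

/-- `ω_y / m ω_y` at a Cohen–Macaulay point. -/
theorem good_fibStalk (y : Y) (hy : MoreMor.IsCMAt (Y ↘ Spec (CommRingCat.of A)) y) :
    Good (K970.RelSk1.FibRingStalk (Y ↘ Spec (CommRingCat.of A)) y)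
      (K970.RelSk1.FibStalk (Y ↘ Spec (CommRingCat.of A)) ω y) := by
  let f := Y ↘ Spec (CommRingCat.of A)
  have key : ∀ y' : Y, y' = y → Good (K970.RelSk1.FibRingStalk f y') (K970.RelSk1.FibStalk f ω y') →
      Good (K970.RelSk1.FibRingStalk f y) (K970.RelSk1.FibStalk f ω y) := by
    rintro _ rfl h
    exact h
  refine key _ (f.fiberι_asFiber y) ?_
  obtain ⟨σ, e, he⟩ := K970.RelSk1.exists_stalk_equiv_of_surjective (f.fiberι (f y)) ω (f.asFiber y)
    (Flat2D.FiberStalk.stalkMap_fiberι_surjective f (f y) (f.asFiber y)) _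
    (Flat2D.FiberStalk.ker_stalkMap_fiberι f (f y) (f.asFiber y))
  have h1 := good_pullback A hd hω (f y) (f.asFiber y) (by
    rw [show f.fiberι (f y) (f.asFiber y) = y from f.fiberι_asFiber y]
    exact hy)
  refine Good.of_semi σ.symm e.symm (fun r x => ?_) h1
  rw [AddEquiv.symm_apply_eq, he, RingEquiv.apply_symm_apply, AddEquiv.apply_symm_apply]

end Rel

end K968.GoodStalk
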