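import Groth.Agent.QGor.K968.HomBC3
import Groth.Agent.QGor.K968.GoodStalk
import Groth.Agent.QGor.K967.BCOmega
import Groth.Agent.SDiv.K476.HomSh4
import Groth.Agent.QGor.K967.FibDepth
import Groth.Agent.QGor.K967.OmegaUnit
import Groth.Agent.QGor.K967.HomUnit
import Groth.Agent.QGor.K967.ReflUnit
import Groth.Agent.S0938
import Groth.Agent.S4961

/-!
# `𝓗om(ω, ω) ≅ O` for the relative dualizing sheaf of an `S_2`-morphism
-/

set_option autoImplicit false
set_option linter.style.haveILetI false
universe u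

open CategoryTheory CategoryTheory.Limits AlgebraicGeometry TopologicalSpace Opposite Function

namespace K968.EndOmega

open Groth.Agent K968.GoodLoc K968.Compare2 RefHull K476.HomSh1 Groth.Agent.Fdesc.PullbackStalk
  Groth.Agent.Flat2D.FiberStalk Groth.Agent.CycB.StalkExact

section Scalar

variable {X : Scheme.{u}} (F : X.Modules)

/-- `O → 𝓗om(F, F)`. -/
noncomputable def scalar : Coh.structureModule X ⟶ homSh F F := S0938.ofSec _ (ofHom (𝟙 F) ⊤)

theorem evalStalk_scalar (x : X) (r : X.presheaf.stalk x) :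
    evalStalk F F x (stalkMapₗ (scalar F) x (Fdesc.StructMod.stalkEquiv x r)) =
      r • LinearMap.id := by
  have h1 : Fdesc.StructMod.stalkEquiv x r =
      r • (Coh.structureModule X).presheaf.germ ⊤ x trivial (S0938.one X) := rfl
  rw [h1, map_smul, map_smul, stalkMapₗ_germ, scalar, S0938.ofSec_app_one, evalStalk_germ, ofHom_apply,
    stalkMapₗ_id]

/-- `O → 𝓗om(F, F)` is bijective at the points where `O_x → End(F_x)` is. -/
theorem bijective_scalar [IsLocallyNoetherian X] (hF : Coh.IsCoh F) (x : X)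
    (h : Bijective (fun b : X.presheaf.stalk x => b • (LinearMap.id :
      F.presheaf.stalk x →ₗ[X.presheaf.stalk x] F.presheaf.stalk x))) :
    Bijective (stalkMapₗ (scalar F) x) := by
  have h1 := K476.HomSh3.evalStalk_bijective_of_isCoh F F hF x
  have h2 : Bijective (evalStalk F F x ∘ stalkMapₗ (scalar F) x ∘ Fdesc.StructMod.stalkEquiv x) := by
    convert h using 1
    funext r
    exact evalStalk_scalar F x r
  have h3 : Bijective (stalkMapₗ (scalar F) x ∘ Fdesc.StructMod.stalkEquiv x) :=
    (Bijective.of_comp_iff' h1 _).1 h2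
  exact (Bijective.of_comp_iff _ (Fdesc.StructMod.stalkEquiv x).bijective).1 h3

end Scalar

section Main

variable (A : Type u) [CommRing A] [IsNoetherianRing A] {Y : Scheme.{u}} [Y.Over (Spec (CommRingCat.of A))]
  [IsProper (Y ↘ Spec (CommRingCat.of A))] [Flat (Y ↘ Spec (CommRingCat.of A))] {d : ℕ}
  (hd : Cyc.HasRelDim (Y ↘ Spec (CommRingCat.of A)) d)
  {ω : Y.Modules} (hω : RelCanon.IsDualizingSheaf A Y d ω)

include hd hω

/-- `O_y → End(ω_y)` is bijective at the Cohen–Macaulay points. -/
theorem bijective_stalk (y : Y) (hy : MoreMor.IsCMAt (Y ↘ Spec (CommRingCat.of A)) y) :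
    Bijective (fun b : Y.presheaf.stalk y => b • (LinearMap.id :
      ω.presheaf.stalk y →ₗ[Y.presheaf.stalk y] ω.presheaf.stalk y)) := by
  let f := Y ↘ Spec (CommRingCat.of A)
  have hN : IsNoetherianRing (CommRingCat.of A) := inferInstanceAs (IsNoetherianRing A)
  have hlN : IsLocallyNoetherian Y := LocallyOfFiniteType.isLocallyNoetherian f
  have hG := GoodStalk.good_fibStalk A hd hω y hy
  have hfin : Module.Finite (Y.presheaf.stalk y) (ω.presheaf.stalk y) :=
    Divis.StalkMod.finite_stalk (K967.OmegaBasic.isCoh A Y d ω hω (fibreDimLE hd)) y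
  letI := stalkAlg f y
  letI := FlatMod.moduleStalkOver f ω y
  haveI := isScalarTower f ω y
  haveI : IsLocalHom (algebraMap ((Spec (CommRingCat.of A)).presheaf.stalk (f y)) (Y.presheaf.stalk y)) :=
    inferInstanceAs (IsLocalHom (f.stalkMap y).hom)
  haveI : Module.Flat ((Spec (CommRingCat.of A)).presheaf.stalk (f y)) (ω.presheaf.stalk y) :=
    K967.OmegaBasic.isFlatOverAt A Y d hd ω hω y hy
  let 𝔫 := EGA4.mB ((Spec (CommRingCat.of A)).presheaf.stalk (f y)) (Y.presheaf.stalk y)
  have hmB : 𝔫 = fibreIdeal f y := rfl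
  refine HomBC3.bijective_end (A := (Spec (CommRingCat.of A)).presheaf.stalk (f y))
    (ρ := Ideal.Quotient.mk (fibreIdeal f y)) Ideal.Quotient.mk_surjective (Ideal.mk_ker)
    (Ω' := K970.RelSk1.FibStalk f ω y)
    { toFun := fun w => Submodule.Quotient.mk w
      map_add' := fun _ _ => rfl
      map_smul' := fun _ _ => rfl } (Submodule.Quotient.mk_surjective _)
    (fun w => Submodule.Quotient.mk_eq_zero _) hG

/-- `O → 𝓗om(ω, ω)` is an isomorphism. -/
theorem isIso_scalar (hS : RelCanon.IsSkMor (Y ↘ Spec (CommRingCat.of A)) 2) : IsIso (scalar ω) := by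
  let f := Y ↘ Spec (CommRingCat.of A)
  have hN : IsNoetherianRing (CommRingCat.of A) := inferInstanceAs (IsNoetherianRing A)
  have hlN : IsLocallyNoetherian Y := LocallyOfFiniteType.isLocallyNoetherian f
  let V : Y.Opens := ⟨{x : Y | MoreMor.IsCMAt f x}, S4961.result f⟩
  have hV : ∀ y : Y, y ∉ V → (2 : WithBot ℕ∞) ≤
      ringKrullDim ((f.fiber (f y)).presheaf.stalk (f.asFiber y)) := fun y hy =>
    K967.BCOmega.codim_cmLocus f hS y hy
  exact K967.ReflUnit.isIso_of_unit (scalar ω) V (K967.FibDepth.isIso_unit_structure f hS V hV)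
    (K967.HomUnit.isIso_unit_homSh ω ω V
      (K967.OmegaUnit.isIso_unit A Y d (fibreDimLE hd) ω hω V hV)) fun y hy =>
    bijective_scalar ω (K967.OmegaBasic.isCoh A Y d ω hω (fibreDimLE hd)) y
      (bijective_stalk A hd hω y hy)

end Main

end K968.EndOmega
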