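import Groth.Agent.QGor.K968.Compare2
import Groth.Agent.S3614
import Groth.Agent.S3616
import Groth.Agent.PerfC.RelAmp
import Groth.Agent.Ega4dB.FibStalkOpen
import Groth.Agent.Flat2D.FiberStalk
import Groth.Agent.Ega3B.FlatRestrict
import Groth.Agent.QGor.K970.InvAt

/-!
# The dualizing complex over the relative Cohen-Macaulay locus

`f : Y ⟶ S` proper, flat, `S` Noetherian, `R : RA f`, `R.dz = a(O)`.

* `cm_zero`, `cm_coh`, `cm_flat` : over an open `V` all of whose points are CM for `f`, the cohomology sheaves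
  `H^i(a(O))`, `i ≠ -d`, vanish, and `H^{-d}` is coherent and flat over `S`.
* `nonempty_single` : a complex with only one cohomology sheaf.
* `nonempty_lpull_single` : `Lg^*` of a single module flat over the base.
* `nonempty_restrict_bc` : base change of `H^{-d}(a(O))` over the CM locus.
-/

set_option autoImplicit false
universe u
open CategoryTheory CategoryTheory.Limits AlgebraicGeometry TopologicalSpace Opposite
attribute [local instance] HasDerivedCategory.standard

namespace K968.Compare3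

open Groth.Agent K968.Compare2

section Single

variable {X Y S S' : Scheme.{u}} {g : Y ⟶ X} {q : Y ⟶ S'} {f : X ⟶ S} {s : S' ⟶ S}

/-- A complex with a single cohomology sheaf. -/
theorem nonempty_single (K : DCoh.D X) (n : ℤ) (h : ∀ i, i ≠ n → IsZero (DCoh.HD K i)) :
    Nonempty (K ≅ (DerivedCategory.singleFunctor X.Modules n).obj (DCoh.HD K n)) := by
  have h1 : K.IsGE n := (DerivedCategory.isGE_iff K n).2 fun i hi => h i (by omega)
  have h2 : K.IsLE n := (DerivedCategory.isLE_iff K n).2 fun i hi => h i (by omega)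
  obtain ⟨M, ⟨e⟩⟩ := DerivedCategory.exists_iso_singleFunctor_obj_of_isGE_of_isLE K n
  have e2 : DCoh.HD K n ≅ M := (DerivedCategory.homologyFunctor _ n).mapIso e ≪≫
    (DerivedCategory.singleFunctorCompHomologyFunctorIso _ n).app M
  exact ⟨e ≪≫ (DerivedCategory.singleFunctor X.Modules n).mapIso e2.symm⟩

/-- `Lg^*` of a module flat over the base, in degree `n`. -/
theorem nonempty_lpull_single [Flat f] (H : IsPullback g q f s) [DCoh.HasLpull g] (M : X.Modules)
    (hM : FlatMod.IsFlatOver f M) (n : ℤ) :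
    Nonempty ((DCoh.Lpull g).obj ((DerivedCategory.singleFunctor X.Modules n).obj M) ≅
      (DerivedCategory.singleFunctor Y.Modules n).obj ((Scheme.Modules.pullback g).obj M)) := by
  have h0 : ∀ i, FlatMod.IsFlatOver f
      (((HomologicalComplex.single X.Modules (ComplexShape.up ℤ) n).obj M).X i) := by
    intro i
    by_cases hi : i = n
    · subst hi
      exact PerfC.RelFlat.isFlatOver_of_iso f
        (HomologicalComplex.singleObjXSelf (ComplexShape.up ℤ) i M).symm hM
    · exact PerfC.RelFlat.isFlatOver_of_isZero f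
        (HomologicalComplex.isZero_single_obj_X (ComplexShape.up ℤ) n M i hi)
  exact ⟨PerfC.RelFlatLpull.lpullRelIso (PerfC.PullKFlat.pullData g) H
    ((HomologicalComplex.single X.Modules (ComplexShape.up ℤ) n).obj M) n
    (fun i hi => HomologicalComplex.isZero_single_obj_X (ComplexShape.up ℤ) n M i (by omega)) h0 ≪≫
    DerivedCategory.Q.mapIso ((HomologicalComplex.singleMapHomologicalComplex
      (Scheme.Modules.pullback g) (ComplexShape.up ℤ) n).app M)⟩

/-- `H^n(Lg^* K) ≅ g^* H^n(K)` when `K` has only the cohomology sheaf `H^n`, flat over the base. -/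
theorem nonempty_HD_lpull [Flat f] (H : IsPullback g q f s) [DCoh.HasLpull g] (K : DCoh.D X) (n : ℤ)
    (h : ∀ i, i ≠ n → IsZero (DCoh.HD K i)) (hM : FlatMod.IsFlatOver f (DCoh.HD K n)) :
    Nonempty (DCoh.HD ((DCoh.Lpull g).obj K) n ≅ (Scheme.Modules.pullback g).obj (DCoh.HD K n)) := by
  obtain ⟨e⟩ := nonempty_single K n h
  obtain ⟨e1⟩ := nonempty_lpull_single H (DCoh.HD K n) hM n
  exact ⟨(DerivedCategory.homologyFunctor _ n).mapIso ((DCoh.Lpull g).mapIso e ≪≫ e1) ≪≫
    (DerivedCategory.singleFunctorCompHomologyFunctorIso _ n).app _⟩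

end Single

section Open

variable {X Y : Scheme.{u}}

theorem isCMAt_comp (j : X ⟶ Y) [IsOpenImmersion j] {S : Scheme.{u}} (f : Y ⟶ S) (x : X) :
    MoreMor.IsCMAt (j ≫ f) x ↔ MoreMor.IsCMAt f (j x) := by
  obtain ⟨e⟩ := Ega4dB.FibStalkOpen.nonempty_fiberStalk_equiv_of_isOpenImmersion j f x
  refine and_congr ?_ (Flat2D.FiberStalk.isCohenMacaulayLocalRing_iff_of_ringEquiv e)
  have hc : ((j ≫ f).stalkMap x).hom = (j.stalkMap x).hom.comp (f.stalkMap (j x)).hom := by
    rw [Scheme.Hom.stalkMap_comp]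
    rfl
  have hb : Function.Bijective (j.stalkMap x).hom := ConcreteCategory.bijective_of_isIso (j.stalkMap x)
  constructor
  · intro h
    rw [hc] at h
    have h1 := RingHom.Flat.comp h (RingHom.Flat.of_bijective
      (f := (RingEquiv.ofBijective _ hb).symm.toRingHom) (RingEquiv.bijective _))
    have h2 : (f.stalkMap (j x)).hom = (RingEquiv.ofBijective _ hb).symm.toRingHom.comp
        ((j.stalkMap x).hom.comp (f.stalkMap (j x)).hom) := by
      refine RingHom.ext fun a => ?_
      exact ((RingEquiv.ofBijective _ hb).symm_apply_apply _).symm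
    rw [h2]
    exact h1
  · intro h
    rw [hc]
    exact RingHom.Flat.comp h (RingHom.Flat.of_bijective hb)

theorem hasRelDim_comp (j : X ⟶ Y) [IsOpenImmersion j] {S : Scheme.{u}} (f : Y ⟶ S)
    [LocallyOfFiniteType f] {d : ℕ} (h : Cyc.HasRelDim f d) : Cyc.HasRelDim (j ≫ f) d := by
  rw [K582.FibRelDim.hasRelDim_iff] at h ⊢
  intro x
  rw [K582.FibRelDim.fibreDimAt_comp_isOpenImmersion]
  exact h _

end Open

section CM

variable {Y S : Scheme.{u}} [IsNoetherian S] {f : Y ⟶ S} [IsProper f] (R : RA f)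

/-- The compactification of `j ≫ f`. -/
noncomputable def comp {V : Scheme.{u}} (j : V ⟶ Y) [IsOpenImmersion j] (f : Y ⟶ S) [IsProper f]
    {g : V ⟶ S} (w : j ≫ f = g) : DEt.Compactification g where
  Xbar := Y
  j := j
  fbar := f
  isOpenImmersion := inferInstance
  isProper := inferInstance
  fac := w

include f in
theorem isNoetherian : IsNoetherian Y := by
  have : IsLocallyNoetherian Y := LocallyOfFiniteType.isLocallyNoetherian f
  have : CompactSpace Y := QuasiCompact.compactSpace_of_compactSpace f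
  exact {}

include R in
theorem cm {V : Scheme.{u}} (j : V ⟶ Y) [IsOpenImmersion j] (hCM : ∀ x : V, MoreMor.IsCMAt f (j x))
    {d : ℕ} (hd : Cyc.HasRelDim f d) :
    (∀ i : ℤ, i ≠ -(d : ℤ) → IsZero (DCoh.HD ((DCoh.restrictD j).obj R.dz) i)) ∧
      Coh.IsCoh (DCoh.HD ((DCoh.restrictD j).obj R.dz) (-(d : ℤ))) ∧
      FlatMod.IsFlatOver (j ≫ f) (DCoh.HD ((DCoh.restrictD j).obj R.dz) (-(d : ℤ))) := by
  have hN : IsNoetherian Y := isNoetherian (f := f)
  have : Dual3.IsSepFT (j ≫ f) := ⟨inferInstance, inferInstance, inferInstance⟩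
  have : Dual3.IsSepFT (𝟙 S) := ⟨inferInstance, inferInstance, inferInstance⟩
  have : DCoh.HasRpush (comp j f rfl).fbar := R.hr
  exact S3614.result S V S (j ≫ f) (𝟙 S) (j ≫ f) (by simp) (fun x => (isCMAt_comp _ _ _).2 (hCM x)) d
    (hasRelDim_comp j f hd) (comp j f rfl) R.h R.a R.adj (oD S) ⟨Iso.refl _⟩

include R in
/-- The Gorenstein locus in terms of the dualizing complex. -/
theorem isGorensteinAt_iff [Flat f] (x : Y) :
    Dual3.IsGorensteinAt f x ↔ Dual.H320.InvPt.InvAt R.dz x := by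
  have hN : IsNoetherian Y := isNoetherian (f := f)
  have : Dual3.IsSepFT f := ⟨inferInstance, inferInstance, inferInstance⟩
  have : Dual3.IsSepFT (𝟙 S) := ⟨inferInstance, inferInstance, inferInstance⟩
  have : DCoh.HasRpush (comp (𝟙 Y) f (Category.id_comp f)).fbar := R.hr
  have h := (S3616.result S Y S f (𝟙 S) f (by simp) (comp (𝟙 Y) f (Category.id_comp f)) R.h R.a
    R.adj (oD S) ⟨Iso.refl _⟩).1 x
  rw [h, ← Dual.H320.InvPt.invAt_iff]
  exact ⟨fun h => Dual.H320.InvPt.InvAt.of_restrict (𝟙 Y) h,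
    fun h => Dual.H320.InvPt.InvAt.restrict (𝟙 Y) (z := x) h⟩

end CM

section Inv

variable {X : Scheme.{u}}

/-- `O[n]` as a single complex. -/
noncomputable def shiftInD (M : X.Modules) (n : ℤ) :
    (DCoh.inD X M)⟦n⟧ ≅ (DerivedCategory.singleFunctor X.Modules (-n)).obj M :=
  ((DerivedCategory.singleFunctors X.Modules).shiftIso n (-n) 0 (by omega)).app M

theorem invAt_iff_of_isZero (K : DCoh.D X) (m : ℤ) (x : X)
    (h : ∀ i, i ≠ m → IsZero (DCoh.HD K i)) :
    Dual.H320.InvPt.InvAt K x ↔ RelCanon.InvertibleAt (DCoh.HD K m) x := by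
  constructor
  · rintro ⟨U, j, hj, y, n, hy, ⟨e⟩⟩
    have e1 : (DCoh.HD K (-n)).restrict j ≅ Coh.structureModule U :=
      (Dcoh.LocalD.HDRestrict j K (-n)).symm ≪≫
        (DerivedCategory.homologyFunctor _ (-n)).mapIso (e ≪≫ shiftInD _ n) ≪≫
        (DerivedCategory.singleFunctorCompHomologyFunctorIso _ (-n)).app _
    have h1 : RelCanon.InvertibleAt (DCoh.HD K (-n)) x := by
      rw [← hy]
      exact (K970.InvAt.invertibleAt_restrict_iff j _ y).1
        (K970.InvAt.invertibleAt_of_iso e1.symm y (K970.InvAt.invertibleAt_structure y))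
    by_cases hn : -n = m
    · rwa [← hn]
    · exfalso
      have h3 := (PerfB.FlatPull.isZero_iff_subsingleton _).1 (h (-n) hn) x
      obtain ⟨e⟩ := K970.InvAt.nonempty_stalk_equiv x h1
      exact not_subsingleton (X.presheaf.stalk x) e.toEquiv.subsingleton
  · rintro ⟨U, hU, ⟨e⟩⟩
    obtain ⟨e0⟩ := nonempty_single K m h
    refine ⟨U, U.ι, inferInstance, ⟨x, hU⟩, -m, rfl, ⟨?_⟩⟩
    have e1 : (DerivedCategory.singleFunctor X.Modules m).obj (DCoh.HD K m) ≅
        (DCoh.inD X (DCoh.HD K m))⟦-m⟧ := by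
      have := (shiftInD (DCoh.HD K m) (-m)).symm
      rwa [neg_neg] at this
    exact (PerfA.Restrict.restrictD U.ι).mapIso (e0 ≪≫ e1) ≪≫
      PerfA.PerfLocal.restrictDShift U.ι _ (-m) ≪≫ (shiftFunctor _ (-m)).mapIso
        (PerfA.PerfLocal.restrictInD U.ι (DCoh.HD K m) ≪≫
          (DerivedCategory.singleFunctor _ 0).mapIso e)

theorem invAt_iff_invertibleAt (K : DCoh.D X) (m : ℤ) {V : Scheme.{u}} (j : V ⟶ X) [IsOpenImmersion j]
    (x : V) (h : ∀ i, i ≠ m → IsZero (DCoh.HD ((DCoh.restrictD j).obj K) i)) :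
    Dual.H320.InvPt.InvAt K (j x) ↔ RelCanon.InvertibleAt (DCoh.HD K m) (j x) := by
  rw [← K970.InvAt.invertibleAt_restrict_iff j,
    K970.InvAt.invertibleAt_iff_of_iso (Dcoh.LocalD.HDRestrict j K m).symm,
    ← invAt_iff_of_isZero _ m x h]
  exact ⟨fun h => Dual.H320.InvPt.InvAt.restrict j h, fun h => Dual.H320.InvPt.InvAt.of_restrict j h⟩

end Inv

end K968.Compare3
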