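import Groth.Agent.QGor.K967.FibMap
import Groth.Agent.QGor.K967.OmegaUnit
import Groth.Agent.QGor.K967.OmegaBasic
import Groth.Agent.QGor.K968.Compare2
import Groth.Agent.QGor.K970.BCHyp
import Groth.Agent.S12226
import Groth.Agent.S4366
import Groth.Agent.S1471

/-!
# The depth of the relative dualizing sheaf at a point

`two_le_depth_omega`: `depth ω_z ≥ 2` if the local ring of the fibre at `z` has dimension at least two.
-/

set_option autoImplicit false
set_option linter.style.haveILetI false
universe u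

open CategoryTheory CategoryTheory.Limits AlgebraicGeometry TopologicalSpace Opposite Function

namespace K968.DepthPt

open Groth.Agent K968.Compare2 K66.StalkOff Groth.Agent.CycB.LocQuot Groth.Agent.Fdesc.PullbackStalk

theorem ringKrullDim_stalk_le {X : Scheme.{u}} {x ξ : X} (h : ξ ⤳ x) :
    ringKrullDim (X.presheaf.stalk ξ) ≤ ringKrullDim (X.presheaf.stalk x) := by
  obtain ⟨σ, -⟩ := exists_loc_equiv (Coh.structureModule X) (Fdesc.StructMod.isQCoh_structureModule X) h
  rw [← ringKrullDim_eq_of_ringEquiv σ,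
    IsLocalization.AtPrime.ringKrullDim_eq_height (primeOf h).asIdeal]
  exact Ideal.height_le_ringKrullDim_of_ne_top (primeOf h).2.ne_top

theorem ringKrullDim_fiber_le {X S : Scheme.{u}} (f : X ⟶ S) {x w : X} (h : x ⤳ w) (hf : f x = f w) :
    ringKrullDim ((f.fiber (f x)).presheaf.stalk (f.asFiber x)) ≤
      ringKrullDim ((f.fiber (f w)).presheaf.stalk (f.asFiber w)) := by
  obtain ⟨x0, hx0⟩ := K66.Main.exists_asFiber f (s := f w) hf
  obtain ⟨w0, hw0⟩ := K66.Main.exists_asFiber f (s := f w) rfl
  have h1 : x0 ⤳ w0 := by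
    rw [← (f.fiberι (f w)).isEmbedding.toIsInducing.specializes_iff, hx0, hw0]
    exact h
  have e1 := K66.Fibre.ringKrullDim_fiber f (f w) x0
  have e2 := K66.Fibre.ringKrullDim_fiber f (f w) w0
  rw [hx0] at e1
  rw [hw0] at e2
  rw [e1, e2]
  exact ringKrullDim_stalk_le h1

section Closed

variable (B : Type u) [CommRing B] [IsNoetherianRing B] {X : Scheme.{u}} [X.Over (Spec (CommRingCat.of B))]
  [IsProper (X ↘ Spec (CommRingCat.of B))] {d : ℕ}

/-- The case in which the closure of the point lies in its fibre. -/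
theorem two_le_depth_of_closed (hd : Cyc.HasRelDim (X ↘ Spec (CommRingCat.of B)) d)
    {ω : X.Modules} (hω : RelCanon.IsDualizingSheaf B X d ω) (z : X)
    (hz : ∀ w : X, z ⤳ w → (X ↘ Spec (CommRingCat.of B)) w = (X ↘ Spec (CommRingCat.of B)) z)
    (h2 : (2 : WithBot ℕ∞) ≤ ringKrullDim
      (((X ↘ Spec (CommRingCat.of B)).fiber ((X ↘ Spec (CommRingCat.of B)) z)).presheaf.stalk
        ((X ↘ Spec (CommRingCat.of B)).asFiber z))) :
    2 ≤ LocCoh.depth (X.presheaf.stalk z) (ω.presheaf.stalk z) := by
  let f := X ↘ Spec (CommRingCat.of B)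
  have hNB : IsNoetherianRing (CommRingCat.of B) := inferInstanceAs (IsNoetherianRing B)
  have hlN : IsLocallyNoetherian X := LocallyOfFiniteType.isLocallyNoetherian f
  have hcX : CompactSpace X := QuasiCompact.compactSpace_of_compactSpace f
  have hN : IsNoetherian X := {}
  let U : X.Opens := ⟨(closure {z})ᶜ, isClosed_closure.isOpen_compl⟩
  have hU : ∀ y : X, y ∉ U → z ⤳ y := by
    intro y hy
    rw [specializes_iff_mem_closure]
    exact not_not.1 hy
  have hu := K967.OmegaUnit.isIso_unit B X d (fibreDimLE hd) ω hω U fun y hy =>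
    h2.trans (ringKrullDim_fiber_le f (hU y hy) (hz y (hU y hy)).symm)
  have hωc := K967.OmegaBasic.isCoh B X d ω hω (fibreDimLE hd)
  let e : ω ≅ (Coh.push U.ι).obj (ω.restrict U.ι) :=
    @asIso _ _ _ _ ((Scheme.Modules.restrictAdjunction U.ι).unit.app ω) hu
  have hF' : Coh.IsCoh ((Coh.push U.ι).obj (ω.restrict U.ι)) := PerfA.CohSerre.isCoh_of_iso e hωc
  have hzU : z ∉ U := fun h => h (subset_closure rfl)
  have h3 := (S12226.result X U ω hωc hF').1 z hzU
  have h4 : LocCoh.depth (X.presheaf.stalk z) (((Coh.push U.ι).obj (ω.restrict U.ι)).presheaf.stalk z) =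
      LocCoh.depth (X.presheaf.stalk z) (ω.presheaf.stalk z) :=
    Localalg.Depth.idealDepth_congr_equiv _ (Fdesc.Skyscraper.stalkIso e z).symm
  rw [← h4]
  exact h3

end Closed

/-- The stalk of a pullback along a morphism with bijective stalk map. -/
theorem canAdd_bijective {X Z : Scheme.{u}} (p : Z ⟶ X) (F : X.Modules) (z : Z)
    (h : Bijective (p.stalkMap z).hom) : Bijective (canAdd p F z) := by
  letI := stalkAlg p z
  letI := FlatMod.moduleStalkOver p ((Scheme.Modules.pullback p).obj F) z
  haveI := isScalarTower p ((Scheme.Modules.pullback p).obj F) z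
  obtain ⟨h1, h2⟩ := K967.FibMap.surjective_and_ker (can p F z) (isBaseChange_can p F z) h.2
  refine ⟨(injective_iff_map_eq_zero _).2 fun m hm => ?_, h1⟩
  have h3 : m ∈ LinearMap.ker (can p F z) := hm
  have h4 : RingHom.ker (algebraMap (X.presheaf.stalk (p z)) (Z.presheaf.stalk z)) = ⊥ :=
    (RingHom.injective_iff_ker_eq_bot _).1 h.1
  rw [h2, h4, Submodule.bot_smul] at h3
  exact h3

theorem depth_pullback {X Z : Scheme.{u}} (p : Z ⟶ X) (F : X.Modules) (z : Z)
    (h : Bijective (p.stalkMap z).hom) :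
    LocCoh.depth (X.presheaf.stalk (p z)) (F.presheaf.stalk (p z)) =
      LocCoh.depth (Z.presheaf.stalk z) (((Scheme.Modules.pullback p).obj F).presheaf.stalk z) :=
  Ega4A.DepthBasic.depth_congr_of_surjective (p.stalkMap z).hom h.2 _ _
    (AddEquiv.ofBijective (canAdd p F z) (canAdd_bijective p F z h)) (canAdd_smul p F z)

section Main

variable (A : Type u) [CommRing A] [IsNoetherianRing A] {Y : Scheme.{u}} [Y.Over (Spec (CommRingCat.of A))]
  [IsProper (Y ↘ Spec (CommRingCat.of A))] [Flat (Y ↘ Spec (CommRingCat.of A))] {d : ℕ}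

/-- `depth ω_z ≥ 2` if the local ring of the fibre has dimension at least two. -/
theorem two_le_depth_omega (hd : Cyc.HasRelDim (Y ↘ Spec (CommRingCat.of A)) d)
    {ω : Y.Modules} (hω : RelCanon.IsDualizingSheaf A Y d ω) (z : Y)
    (h2 : (2 : WithBot ℕ∞) ≤ ringKrullDim
      (((Y ↘ Spec (CommRingCat.of A)).fiber ((Y ↘ Spec (CommRingCat.of A)) z)).presheaf.stalk
        ((Y ↘ Spec (CommRingCat.of A)).asFiber z))) :
    2 ≤ LocCoh.depth (Y.presheaf.stalk z) (ω.presheaf.stalk z) := by
  let f := Y ↘ Spec (CommRingCat.of A)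
  let S := Spec (CommRingCat.of A)
  have hNA : IsNoetherianRing (CommRingCat.of A) := inferInstanceAs (IsNoetherianRing A)
  let s : S := f z
  let B : Type u := S.presheaf.stalk s
  have hNB : IsNoetherianRing B := inferInstanceAs (IsNoetherianRing (S.presheaf.stalk s))
  let g : Spec (CommRingCat.of B) ⟶ S := S.fromSpecStalk s
  let φ : A →+* B := (Spec.preimage g).hom
  have hφ : Spec.map (CommRingCat.ofHom φ) = g := Spec.map_preimage _
  have hfl : Flat g := S1471.flat_fromSpecStalk S s
  have hφf : φ.Flat := by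
    have h : Flat (Spec.map (CommRingCat.ofHom φ)) := by
      rw [hφ]
      exact hfl
    rw [HasRingHomProperty.Spec_iff (P := @Flat)] at h
    exact h
  let Y' : Scheme.{u} := pullback f g
  let p : Y' ⟶ Y := pullback.fst f g
  letI : Y'.Over (Spec (CommRingCat.of B)) := ⟨pullback.snd f g⟩
  have hp : IsPullback p (Y' ↘ Spec (CommRingCat.of B)) f (Spec.map (CommRingCat.ofHom φ)) := by
    rw [hφ]
    exact IsPullback.of_hasPullback f g
  haveI : IsProper (Y' ↘ Spec (CommRingCat.of B)) := MorphismProperty.of_isPullback hp inferInstance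
  have hω' := isDualizingSheaf_pullback A d hd B φ p hp hφf hω
  have hd' := hasRelDim_bc hp hd
  obtain ⟨z', hz', hz''⟩ := Scheme.Pullback.exists_preimage_pullback (f := f) (g := g) z
    (IsLocalRing.closedPoint (S.presheaf.stalk s)) (Scheme.fromSpecStalk_closedPoint (x := s)).symm
  have hb : Bijective (p.stalkMap z').hom := by
    have := S4366.result f s z'
    exact ConcreteCategory.bijective_of_isIso (p.stalkMap z')
  have h3 := two_le_depth_of_closed B hd' hω' z' (fun w hw => ?_) ?_
  · rw [← depth_pullback p ω z' hb] at h3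
    have h4 : p z' = z := hz'
    rw [h4] at h3
    exact h3
  · have h4 : (Y' ↘ Spec (CommRingCat.of B)) z' = IsLocalRing.closedPoint B := hz''
    have h5 : (Y' ↘ Spec (CommRingCat.of B)) w ∈ ({IsLocalRing.closedPoint B} : Set (PrimeSpectrum B)) :=
      (hw.map (Y' ↘ Spec (CommRingCat.of B)).continuous).mem_closed
        (IsLocalRing.isClosed_singleton_closedPoint B) h4
    exact h5.trans h4.symm
  · refine le_trans ?_ (K970.BCHyp.ringKrullDim_fibre_le_cat (CommRingCat.ofHom φ) hp z')
    have h4 : p z' = z := hz'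
    rw [h4]
    exact h2

end Main

end K968.DepthPt
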