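import Groth.Agent.QGor.K968.FibClaim
import Groth.Agent.QGor.K968.DepthPt
import Groth.Agent.QGor.K967.RefStalk

/-!
# The local claim of the fibre criterion for the relative dualizing sheaf

`nonempty_equiv`: under the hypotheses of the criterion `L_y ≃ ω_y` at every point `y` of the fibre.
-/

set_option autoImplicit false
set_option linter.style.haveILetI false
universe u

open CategoryTheory CategoryTheory.Limits AlgebraicGeometry TopologicalSpace Opposite Function

namespace K968.Crit28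

open Groth.Agent K968.GoodLoc K968.Compare2 K968.HomBC RefHull K66.StalkOff K66.FlatOff K66.Core
  K970.RelSk1 Groth.Agent.Flat2D.FiberStalk K968.FibOmega

theorem lt_three {x : WithBot ℕ∞} (h : ¬ (3 : WithBot ℕ∞) ≤ x) : x ≤ 2 := by
  rw [not_le] at h
  cases x with
  | bot => exact bot_le
  | coe x =>
    have h1 : x < 3 := WithBot.coe_lt_coe.1 h
    have h2 : x ≤ 2 := by
      cases x with
      | top => exact absurd h1 (by simp)
      | coe n =>
        have h1 : n < 3 := by exact_mod_cast h1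
        have h2 : n ≤ 2 := by omega
        exact_mod_cast h2
    exact WithBot.coe_le_coe.2 h2

section Codim

variable {X S : Scheme.{u}} (f : X ⟶ S)

/-- Outside the Cohen–Macaulay locus the fibres of an `S_2`-morphism have dimension at least three. -/
theorem three_le_of_not_cm [IsLocallyNoetherian S] (hS : RelCanon.IsSkMor f 2) (x : X) (hx : ¬ MoreMor.IsCMAt f x) :
    (3 : WithBot ℕ∞) ≤ ringKrullDim ((f.fiber (f x)).presheaf.stalk (f.asFiber x)) := by
  by_contra hcon
  have hcon' := lt_three hcon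
  have hflat := hS.1
  have hft := hS.2.1
  have hft' : LocallyOfFiniteType (f.fiberToSpecResidueField (f x)) :=
    MorphismProperty.pullback_snd _ _ inferInstance
  have hN : IsLocallyNoetherian (f.fiber (f x)) :=
    LocallyOfFiniteType.isLocallyNoetherian (f.fiberToSpecResidueField (f x))
  refine hx ⟨AlgebraicGeometry.Flat.stalkMap f x, ?_⟩
  have h1 := Ega4A.FlatAtPrime.le_depth_of_hasSk _ 2 (hS.2.2 x)
  let R0 := (f.fiber (f x)).presheaf.stalk (f.asFiber x)
  let M0 := (Coh.structureModule (f.fiber (f x))).presheaf.stalk (f.asFiber x)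
  have e : R0 ≃ₗ[R0] M0 := Fdesc.StructMod.stalkEquiv (f.asFiber x)
  have h2 : LocCoh.depth R0 M0 = LocCoh.depth R0 R0 :=
    Groth.Agent.Localalg.Depth.idealDepth_congr_equiv _ e.symm
  have h3 : Module.supportDim R0 M0 = ringKrullDim R0 := by
    rw [← Module.supportDim_self_eq_ringKrullDim, ← Module.supportDim_eq_of_equiv e]
  have h4 : min ((2 : ℕ) : WithBot ℕ∞) (ringKrullDim R0) ≤
      ((LocCoh.depth R0 R0 : ℕ∞) : WithBot ℕ∞) := by
    rw [← h2, ← h3]
    exact h1
  rw [min_eq_right (by exact_mod_cast hcon')] at h4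
  have hR0 : IsNoetherianRing R0 := inferInstance
  exact { supportDim_eq_depth := by
            rw [Module.supportDim_self_eq_ringKrullDim]
            exact le_antisymm h4 (K139.FibDepth.depth_le_dim R0) }

/-- `(S_k)` of the local ring of the fibre. -/
theorem le_depth_of_skAt (k : ℕ) (s : S) (z : f.fiber s)
    (h : RelCanon.SkAt k (Coh.structureModule (f.fiber (f (f.fiberι s z)))) (f.asFiber (f.fiberι s z)))
    (hz : (k : WithBot ℕ∞) ≤
      ringKrullDim ((f.fiber (f (f.fiberι s z))).presheaf.stalk (f.asFiber (f.fiberι s z)))) :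
    (k : ℕ∞) ≤ LocCoh.depth ((f.fiber s).presheaf.stalk z) ((f.fiber s).presheaf.stalk z) := by
  rw [K66.Fibre.ringKrullDim_fiber] at hz
  obtain ⟨e⟩ := K66.Fibre.nonempty_fib_equiv' f s z
  have h0 := K969.FibDimSch.hasSk_of_ringEquiv k e
    ((K969.FibDimSch.skAt_structureModule_iff k _).mp h)
  have h1 := Ega4A.FlatAtPrime.le_depth_of_hasSk _ k h0
  rw [Module.supportDim_self_eq_ringKrullDim, min_eq_left hz] at h1
  exact WithBot.coe_le_coe.mp h1

theorem isUnit_natCast (x : X) (r : ℕ) (s : S) (hx : f x = s) (hr : (r : S.residueField s) ≠ 0) :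
    IsUnit (r : X.presheaf.stalk x) := by
  subst hx
  have h1 : IsUnit (r : S.presheaf.stalk (f x)) := by
    rw [← IsLocalRing.residue_ne_zero_iff_isUnit, map_natCast]
    exact hr
  have h2 := h1.map (f.stalkMap x).hom
  rwa [map_natCast] at h2

end Codim

section Main

variable (A : Type u) [CommRing A] [IsNoetherianRing A] {Y : Scheme.{u}} [Y.Over (Spec (CommRingCat.of A))]
  [IsProper (Y ↘ Spec (CommRingCat.of A))] {d : ℕ} (t : Spec (CommRingCat.of A))
  (hS : RelCanon.IsSkMor (Y ↘ Spec (CommRingCat.of A)) 2)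
  (hd : Cyc.HasRelDim (Y ↘ Spec (CommRingCat.of A)) d)
  {ω : Y.Modules} (hω : RelCanon.IsDualizingSheaf A Y d ω)
  {L : Y.Modules} (hL : Coh.IsCoh L) (hLf : FlatMod.IsFlatOver (Y ↘ Spec (CommRingCat.of A)) L)
  (h2 : RelCanon.IsDualizingSheafFib (Y ↘ Spec (CommRingCat.of A)) d L t)

attribute [local instance] fibOver

include hS hd hω hL hLf h2

/-- The local claim. -/
theorem nonempty_equiv
    (h3 : (∀ y : Y, (Y ↘ Spec (CommRingCat.of A)) y = t →
        RelCanon.SkAt 3 (Coh.structureModule ((Y ↘ Spec (CommRingCat.of A)).fiber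
          ((Y ↘ Spec (CommRingCat.of A)) y))) ((Y ↘ Spec (CommRingCat.of A)).asFiber y)) ∨
      (∃ r : ℕ, (r : (Spec (CommRingCat.of A)).residueField t) ≠ 0 ∧
        ∀ y : Y, (Y ↘ Spec (CommRingCat.of A)) y = t →
          RelCanon.InvertibleAt (RelCanon.refPowZ L r) y ∧ RelCanon.InvertibleAt (RelCanon.refPowZ ω r) y))
    (y : Y) (hy : (Y ↘ Spec (CommRingCat.of A)) y = t) :
    Nonempty (L.presheaf.stalk y ≃ₗ[Y.presheaf.stalk y] ω.presheaf.stalk y) := by
  let f := Y ↘ Spec (CommRingCat.of A)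
  let i := f.fiberι t
  have hfl : Flat f := hS.1
  have hN : IsNoetherianRing (CommRingCat.of A) := inferInstanceAs (IsNoetherianRing A)
  have hlN : IsLocallyNoetherian Y := LocallyOfFiniteType.isLocallyNoetherian f
  have hlNf : IsLocallyNoetherian (f.fiber t) := K66.Fibre.isLocallyNoetherian_fiber f t
  have hωc := K967.OmegaBasic.isCoh A Y d ω hω (fibreDimLE hd)
  have hiL : Coh.IsCoh ((Scheme.Modules.pullback i).obj L) := FormalA.PullbackQC.isCoh_pullback i L hL
  obtain ⟨z, rfl⟩ := K66.Main.exists_asFiber f hy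
  let N : Y.Opens := ⟨_, OffData.isOpen_iso hL hωc⟩
  let G : Y.Opens := cmOpen A ⊓ N
  have hG : ∀ ξ : Y, f ξ = t → ξ ∉ G →
      (3 : WithBot ℕ∞) ≤ ringKrullDim ((f.fiber (f ξ)).presheaf.stalk (f.asFiber ξ)) := by
    intro ξ hξ hξG
    refine three_le_of_not_cm f hS ξ fun hCM => hξG ⟨hCM, ?_⟩
    obtain ⟨w, rfl⟩ := K66.Main.exists_asFiber f hξ
    exact FibOmega.nonempty_equiv A t hS hd hω h2 hL hLf w hCM
  have hft : ∀ w : f.fiber t, f (i w) = t := fun w => apply_fiberι f t w
  obtain ⟨V₀, hyV₀, hV₀⟩ := K66.Fibre.exists_open_codim f hd G (i z) 3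
    (fun ξ hξ => hG ξ (hξ.trans (hft z)))
  have h23 : (2 : WithBot ℕ∞) ≤ 3 := by norm_num
  have hW : 2 ≤ LocCoh.idealDepth (offIdeal G (i z)) (ω.presheaf.stalk (i z)) :=
    (le_idealDepth_offIdeal_iff ω hωc G (i z) 2).2 fun w hw hwG =>
      DepthPt.two_le_depth_omega A hd hω w (h23.trans (hV₀ w (hw.mem_open V₀.2 hyV₀) hwG))
  have hfl' := (isSkMor_fib A t hS).1
  have hΛ : 2 ≤ LocCoh.idealDepth (offIdeal G (i z)) (L.presheaf.stalk (i z)) := by
    refine K66.Core.le_idealDepth_of_fib f hL (i z) _ (hLf (i z)) 2 ?_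
    refine (le_idealDepth_fibStalk_iff f L G t z hiL 2).2 fun w hw hwG => ?_
    exact DepthPt.two_le_depth_omega ((Spec (CommRingCat.of A)).residueField t) (hasRelDim_fib A t hd) h2 w
      (h23.trans ((hG (i w) (hft w) hwG).trans
        (K970.BCHyp.ringKrullDim_fibre_le_cat (K970.BCHyp.toRes t) (isPullback_fib' A t) w)))
  refine FibClaim.nonempty_equiv_of_off A t hS hd hω hL h2 z G (fun ξ hξ => hξ.1) (fun ξ hξ => hξ.2)
    hΛ hW ?_
  rcases h3 with h3 | ⟨r, hr, h3⟩
  · exact Or.inl fun w _ hwG => le_depth_of_skAt f 3 t w (h3 _ (hft w)) (hG (i w) (hft w) hwG)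
  · refine Or.inr ⟨fun w _ hwG => K66.Fibre.le_depth_fiber f hS t w
      (h23.trans (hG (i w) (hft w) hwG)), r, isUnit_natCast f (i z) r t (hft z) hr, ?_, ?_⟩
    · obtain ⟨a⟩ := K970.InvAt.nonempty_stalk_equiv _ (h3 (i z) (hft z)).1
      obtain ⟨b⟩ := K967.RefStalk.nonempty_equiv hL r (i z)
      exact ⟨b.symm.trans a.symm⟩
    · obtain ⟨a⟩ := K970.InvAt.nonempty_stalk_equiv _ (h3 (i z) (hft z)).2
      obtain ⟨b⟩ := K967.RefStalk.nonempty_equiv hωc r (i z)
      exact ⟨b.symm.trans a.symm⟩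

end Main

end K968.Crit28
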