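import Groth.Agent.QGor.K968.HomBC
import Mathlib.Algebra.Category.ModuleCat.Ext.Basic
import Groth.Agent.Localalg.Depth3

/-!
# Lifting homomorphisms from the closed fibre, with the closed fibre over its own ring

`ρ : B → R0` surjective with kernel `m_A B`; `σ : Λ → Ω`, `τ : W → Ω'` semilinear surjective with kernels `𝔫 Λ`, `𝔫 W`.

* `ExtZero R0 Ω Ω'` : maps from first syzygies of `Ω` to `Ω'` extend; `extZero_of_ext` : this follows from
  `Ext^1(Ω, Ω') = 0`; `ExtZero.of_equiv`.
* `exists_lift` : lifting of homomorphisms `Ω → Ω'` to `Λ → W` for `Λ`, `W` finite and flat over `A`.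
* `exists_equiv` : lifting of isomorphisms.
-/

set_option autoImplicit false
universe u

open TensorProduct CategoryTheory CategoryTheory.Abelian

namespace K968.HomBC

open Function K968.LiftCrit

/-- Homomorphisms from first syzygies of `Ω` to `Ω'` extend. -/
def ExtZero (R0 : Type u) [CommRing R0] (Ω Ω' : Type u) [AddCommGroup Ω] [Module R0 Ω]
    [AddCommGroup Ω'] [Module R0 Ω'] : Prop :=
  ∀ (n : ℕ) (π : (Fin n → R0) →ₗ[R0] Ω), Surjective π → ∀ x : LinearMap.ker π →ₗ[R0] Ω',
    ∃ y : (Fin n → R0) →ₗ[R0] Ω', ∀ k : LinearMap.ker π, x k = y k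

theorem extZero_of_ext (R0 : Type u) [CommRing R0] (Ω Ω' : Type u) [AddCommGroup Ω] [Module R0 Ω]
    [AddCommGroup Ω'] [Module R0 Ω']
    (h : Subsingleton (Ext (ModuleCat.of R0 Ω) (ModuleCat.of R0 Ω') 1)) : ExtZero R0 Ω Ω' := by
  intro n π hπ x
  let S : ShortComplex (ModuleCat.{u} R0) := ShortComplex.mk
    (ModuleCat.ofHom (LinearMap.ker π).subtype) (ModuleCat.ofHom π) (by
      ext x
      simp)
  have hS : S.ShortExact :=
    { exact := by
        rw [ShortComplex.ShortExact.moduleCat_exact_iff_function_exact]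
        exact LinearMap.exact_subtype_ker_map π
      mono_f := (ModuleCat.mono_iff_injective _).mpr (Submodule.subtype_injective _)
      epi_g := (ModuleCat.epi_iff_surjective _).mpr hπ }
  obtain ⟨x₂, hx₂⟩ := Ext.contravariant_sequence_exact₁ hS (ModuleCat.of R0 Ω')
    (Ext.mk₀ (ModuleCat.ofHom x)) (n₁ := 1) rfl (h.elim _ _)
  obtain ⟨y, rfl⟩ := (Ext.mk₀_bijective _ _).2 x₂
  rw [Ext.mk₀_comp_mk₀] at hx₂
  have h3 := (Ext.mk₀_bijective _ _).1 hx₂
  refine ⟨y.hom, fun k => ?_⟩
  exact (LinearMap.congr_fun (ModuleCat.hom_ext_iff.mp h3) k).symm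

variable {A B : Type u} [CommRing A] [CommRing B] [IsNoetherianRing A] [IsNoetherianRing B]
  [IsLocalRing A] [IsLocalRing B] [Algebra A B] [IsLocalHom (algebraMap A B)]
  {R0 : Type u} [CommRing R0] {ρ : B →+* R0} (hρ : Surjective ρ) (hker : RingHom.ker ρ = EGA4.mB A B)
  {Λ W Ω Ω' : Type u} [AddCommGroup Λ] [Module B Λ] [Module A Λ] [IsScalarTower A B Λ] [Module.Flat A Λ]
  [Module.Finite B Λ] [AddCommGroup W] [Module B W] [Module A W] [IsScalarTower A B W]
  [Module.Finite B W] [Module.Flat A W]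
  [AddCommGroup Ω] [Module R0 Ω] [AddCommGroup Ω'] [Module R0 Ω']
  (σ : Λ →ₛₗ[ρ] Ω) (hσ : Surjective σ)
  (hσk : ∀ l, σ l = 0 ↔ l ∈ (EGA4.mB A B • (⊤ : Submodule B Λ)))
  (τ : W →ₛₗ[ρ] Ω') (hτ : Surjective τ)
  (hτk : ∀ w, τ w = 0 ↔ w ∈ (EGA4.mB A B • (⊤ : Submodule B W)))

include hρ hker hσ hσk hτ hτk in
/-- Homomorphisms lift from the closed fibre. -/
theorem exists_lift (hE : ExtZero R0 Ω Ω') (ψ : Ω →ₗ[R0] Ω') :
    ∃ φ : Λ →ₗ[B] W, ∀ l, τ (φ l) = ψ (σ l) := by
  set 𝔫 := EGA4.mB A B with h𝔫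
  obtain ⟨n, π, hπ⟩ := Module.Finite.exists_fin' B Λ
  set N : Submodule B W := 𝔫 • (⊤ : Submodule B W) with hN
  -- `τ` modulo `N`
  have hτN : ∀ w, τ w = 0 ↔ w ∈ N := hτk
  obtain ⟨ε, hε⟩ := hτ.hasRightInverse
  have hτε : ∀ (w : W), (Submodule.Quotient.mk (ε (τ w)) : W ⧸ N) = Submodule.Quotient.mk w := by
    intro w
    rw [Submodule.Quotient.eq, ← hτN, map_sub, hε, sub_self]
  -- the map on `W / N`
  let τb : (W ⧸ N) → Ω' := Quotient.lift τ (by
    intro a b hab
    have : a - b ∈ N := (Submodule.quotientRel_def N).1 hab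
    rw [← hτN, map_sub, sub_eq_zero] at this
    exact this)
  have hτb : ∀ w, τb (Submodule.Quotient.mk w) = τ w := fun w => rfl
  have hτb_add : ∀ a b, τb (a + b) = τb a + τb b := by
    intro a b
    obtain ⟨a, rfl⟩ := Submodule.Quotient.mk_surjective _ a
    obtain ⟨b, rfl⟩ := Submodule.Quotient.mk_surjective _ b
    rw [← Submodule.Quotient.mk_add, hτb, hτb, hτb, map_add]
  have hτb_smul : ∀ (r : B) a, τb (r • a) = ρ r • τb a := by
    intro r a
    obtain ⟨a, rfl⟩ := Submodule.Quotient.mk_surjective _ a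
    rw [← Submodule.Quotient.mk_smul, hτb, hτb, map_smulₛₗ]
  have hτb_zero : τb 0 = 0 := by
    have := hτb 0
    rw [map_zero] at this
    exact this
  have hτb_inj : ∀ a b, τb a = τb b → a = b := by
    intro a b hab
    obtain ⟨a, rfl⟩ := Submodule.Quotient.mk_surjective _ a
    obtain ⟨b, rfl⟩ := Submodule.Quotient.mk_surjective _ b
    rw [hτb, hτb] at hab
    rw [Submodule.Quotient.eq, ← hτN, map_sub, hab, sub_self]
  -- the inverse as a function
  let κ : Ω' → (W ⧸ N) := fun o => Submodule.Quotient.mk (ε o)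
  have hκ : ∀ o, τb (κ o) = o := fun o => hε o
  -- the presentation over `R0`
  let π0 : (Fin n → R0) →ₗ[R0] Ω := Fintype.linearCombination R0 (fun i => σ (π (Pi.single i 1)))
  have hπ0 : ∀ c : Fin n → B, π0 (fun i => ρ (c i)) = σ (π c) := by
    intro c
    have h1 : c = ∑ i, c i • (Pi.single i 1 : Fin n → B) := by
      ext j
      simp [Finset.sum_apply, Pi.single_apply]
    conv_rhs => rw [h1]
    rw [map_sum, map_sum]
    simp only [π0, Fintype.linearCombination_apply]
    refine Finset.sum_congr rfl fun i _ => ?_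
    rw [map_smul, map_smulₛₗ]
  have hπ0s : Surjective π0 := by
    intro o
    obtain ⟨l, rfl⟩ := hσ o
    obtain ⟨c, rfl⟩ := hπ l
    exact ⟨_, hπ0 c⟩
  have hmem : ∀ (r : B) (x : W ⧸ N), r ∈ 𝔫 → r • x = 0 := by
    intro r x hr
    apply hτb_inj
    rw [hτb_smul, hτb_zero]
    have : ρ r = 0 := by
      rw [← RingHom.mem_ker, hker]
      exact hr
    rw [this, zero_smul]
  -- elements of `ker π0` lift to `ker π`
  have hlift : ∀ k0 : LinearMap.ker π0, ∃ c : LinearMap.ker π, ∀ i, ρ ((c : Fin n → B) i) = (k0 : Fin n → R0) i := by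
    rintro ⟨k0, hk0⟩
    choose c hc using fun i => hρ (k0 i)
    have h1 : σ (π c) = 0 := by
      rw [← hπ0]
      have : (fun i => ρ (c i)) = k0 := funext hc
      rw [this]
      exact hk0
    rw [hσk] at h1
    have h2 : (𝔫 • (⊤ : Submodule B (Fin n → B))).map π = 𝔫 • (⊤ : Submodule B Λ) := by
      rw [Submodule.map_smul'', Submodule.map_top, LinearMap.range_eq_top.2 hπ]
    rw [← h2] at h1
    obtain ⟨c', hc', hcc⟩ := h1
    refine ⟨⟨c - c', by rw [LinearMap.mem_ker, map_sub, hcc, sub_self]⟩, fun i => ?_⟩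
    have h3 : ρ (c' i) = 0 := by
      rw [← RingHom.mem_ker, hker]
      have h4 : (LinearMap.proj i : (Fin n → B) →ₗ[B] B) c' ∈
        (𝔫 • (⊤ : Submodule B (Fin n → B))).map (LinearMap.proj i) := Submodule.mem_map_of_mem hc'
      rw [Submodule.map_smul''] at h4
      have h5 := (Submodule.smul_mono le_rfl le_top h4 : c' i ∈ 𝔫 • (⊤ : Submodule B B))
      simpa using h5
    change ρ (c i - c' i) = k0 i
    rw [map_sub, h3, sub_zero, hc]
  -- `ker π ∩ 𝔫 B^n = 𝔫 ker π`
  have hzero : ∀ (x : LinearMap.ker π →ₗ[B] (W ⧸ N)) (c : LinearMap.ker π),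
      (∀ i, ρ ((c : Fin n → B) i) = 0) → x c = 0 := by
    intro x c hc
    have h1 : (c : Fin n → B) ∈ (𝔫 • (⊤ : Submodule B (Fin n → B))) := by
      apply mem_smul_pi
      intro i
      have : (c : Fin n → B) i ∈ 𝔫 := by
        have := hc i
        rwa [← RingHom.mem_ker, hker] at this
      simpa using this
    have h2 := mem_smul_ker (A := A) π hπ (IsLocalRing.maximalIdeal A) h1 c.2
    have h3 : (𝔫 • (⊤ : Submodule B (LinearMap.ker π))).map (LinearMap.ker π).subtype =
        𝔫 • LinearMap.ker π := by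
      rw [Submodule.map_smul'', Submodule.map_top, Submodule.range_subtype]
    change (c : Fin n → B) ∈ 𝔫 • LinearMap.ker π at h2
    rw [← h3] at h2
    obtain ⟨c', hc', hcc⟩ := h2
    have hcc' : c' = c := Subtype.ext hcc
    rw [hcc'] at hc'
    refine Submodule.smul_induction_on hc' (fun r hr m _ => ?_) (fun a b ha hb => ?_)
    · rw [map_smul]
      exact hmem r _ hr
    · rw [map_add, ha, hb, add_zero]
  obtain ⟨φ, hφ⟩ := exists_lift_hom (A := A) N hN π hπ (by
    intro x
    choose L hL using hlift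
    have hx : ∀ c c' : LinearMap.ker π, (∀ i, ρ ((c : Fin n → B) i) = ρ ((c' : Fin n → B) i)) → x c = x c' := by
      intro c c' h
      rw [← sub_eq_zero, ← map_sub]
      apply hzero
      intro i
      change ρ ((c : Fin n → B) i - (c' : Fin n → B) i) = 0
      rw [map_sub, h i, sub_self]
    let x0 : LinearMap.ker π0 →ₗ[R0] Ω' :=
      { toFun := fun k => τb (x (L k))
        map_add' := fun a b => by
          rw [← hτb_add, ← map_add]
          congr 1
          apply hx
          intro i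
          rw [hL]
          change (a : Fin n → R0) i + (b : Fin n → R0) i = ρ ((L a : Fin n → B) i + (L b : Fin n → B) i)
          rw [map_add, hL, hL]
        map_smul' := fun r a => by
          obtain ⟨r, rfl⟩ := hρ r
          rw [RingHom.id_apply, ← hτb_smul, ← map_smul]
          congr 1
          apply hx
          intro i
          rw [hL]
          change ρ r • (a : Fin n → R0) i = ρ (r • (L a : Fin n → B) i)
          rw [smul_eq_mul, smul_eq_mul, map_mul, hL] }
    obtain ⟨y0, hy0⟩ := hE n π0 hπ0s x0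
    let y : (Fin n → B) →ₗ[B] (W ⧸ N) :=
      { toFun := fun c => κ (y0 (fun i => ρ (c i)))
        map_add' := fun a b => by
          apply hτb_inj
          rw [hτb_add, hκ, hκ, hκ, ← map_add]
          congr 1
          funext i
          simp
        map_smul' := fun r a => by
          apply hτb_inj
          rw [RingHom.id_apply, hτb_smul, hκ, hκ, ← map_smul]
          congr 1
          funext i
          simp }
    refine ⟨y, fun k => ?_⟩
    apply hτb_inj
    change _ = τb (κ (y0 (fun i => ρ ((k : Fin n → B) i))))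
    have hkk : (fun i => ρ ((k : Fin n → B) i)) ∈ LinearMap.ker π0 := by
      rw [LinearMap.mem_ker, hπ0, LinearMap.mem_ker.1 k.2, map_zero]
    rw [hκ, ← hy0 ⟨_, hkk⟩]
    change τb (x k) = τb (x (L ⟨_, hkk⟩))
    congr 1
    apply hx
    intro i
    rw [hL])
    { toFun := fun l => κ (ψ (σ l))
      map_add' := fun a b => by
        apply hτb_inj
        rw [hτb_add, hκ, hκ, hκ, map_add, map_add]
      map_smul' := fun r a => by
        apply hτb_inj
        rw [RingHom.id_apply, hτb_smul, hκ, hκ, map_smulₛₗ, map_smul] }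
  refine ⟨φ, fun l => ?_⟩
  rw [← hτb, hφ l]
  exact hκ _

include hρ hker hσ hσk hτ hτk in
/-- Isomorphisms lift from the closed fibre. -/
theorem exists_equiv (hE : ExtZero R0 Ω Ω') (ψ : Ω ≃ₗ[R0] Ω') :
    ∃ φ : Λ ≃ₗ[B] W, ∀ l, τ (φ l) = ψ (σ l) := by
  obtain ⟨φ, hφ⟩ := exists_lift (A := A) hρ hker σ hσ hσk τ hτ hτk hE ψ.toLinearMap
  have hb : Bijective φ := by
    apply bijective_of_fibre (A := A)
    · intro l hl
      rw [← hσk]
      have h1 := hφ l
      rw [(hτk _).2 hl] at h1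
      exact ψ.map_eq_zero_iff.1 h1.symm
    · intro w
      obtain ⟨l, hl⟩ := hσ (ψ.symm (τ w))
      refine ⟨l, ?_⟩
      rw [← hτk, map_sub, hφ, hl]
      simp
  exact ⟨LinearEquiv.ofBijective φ hb, hφ⟩

end K968.HomBC
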