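import Groth.Prelude.Def_Wider
import Groth.Agent.QGor.K968.HomBC2
import Mathlib.Algebra.Homology.DerivedCategory.Linear
import Mathlib.Algebra.Homology.DerivedCategory.Ext.Basic
import Mathlib.Algebra.Module.FinitePresentation

/-!
# Dualizing complexes concentrated in one degree

If a dualizing complex of `A` is a module `W` in one degree then `A → End(W)` is bijective and `Ext^1(W, W) = 0`.
Localisation: `EndBij`, `ExtZero` localise.
-/

set_option autoImplicit false
universe u

open CategoryTheory CategoryTheory.Abelian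
attribute [local instance] HasDerivedCategory.standard

namespace K968.DualRing

open Function K968.HomBC

section Dual

variable (A : Type u) [CommRing A] {ω : Dual.D A} (hω : Dual.IsDualizing A ω) (m : ℤ)
  (W : ModuleCat.{u} A) (e : ω ≅ (DerivedCategory.singleFunctor (ModuleCat.{u} A) m).obj W)

include hω e

theorem end_bijective : Bijective (fun a : A => a • (LinearMap.id : W →ₗ[A] W)) := by
  let F := DerivedCategory.singleFunctor (ModuleCat.{u} A) m
  have key : ∀ a : A, e.inv ≫ (a • 𝟙 ω) ≫ e.hom = F.map (ModuleCat.ofHom (a • LinearMap.id)) := by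
    intro a
    rw [Linear.smul_comp, Linear.comp_smul, Category.id_comp, Iso.inv_hom_id, ← F.map_id, ← F.map_smul]
    rfl
  constructor
  · intro a b hab
    apply hω.toEnd_bijective.1
    have h1 := key a
    have h2 := key b
    simp only at hab
    rw [hab, ← h2] at h1
    change a • 𝟙 ω = b • 𝟙 ω
    have h3 := congrArg (fun x => e.hom ≫ x ≫ e.inv) h1
    simpa using h3
  · intro φ
    obtain ⟨a, ha⟩ := hω.toEnd_bijective.2 (e.hom ≫ F.map (ModuleCat.ofHom φ) ≫ e.inv)
    refine ⟨a, ?_⟩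
    have h1 := key a
    simp only at ha
    rw [ha] at h1
    have h2 : F.map (ModuleCat.ofHom φ) = F.map (ModuleCat.ofHom (a • (LinearMap.id : W →ₗ[A] W))) := by
      rw [← h1]
      simp
    have h3 := F.map_injective h2
    exact (ModuleCat.hom_ext_iff.1 h3).symm

theorem ext_one : Subsingleton (Ext W W 1) := by
  let F := DerivedCategory.singleFunctor (ModuleCat.{u} A) 0
  let e' : ω ≅ (F.obj W)⟦-m⟧ := e ≪≫
    (((DerivedCategory.singleFunctors (ModuleCat.{u} A)).shiftIso (-m) m 0 (by omega)).app W).symm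
  have h0 := hω.ext_self_subsingleton 1 (by norm_num)
  have key : ∀ α : F.obj W ⟶ (F.obj W)⟦(1 : ℤ)⟧, α = 0 := by
    intro α
    let c := (shiftFunctorComm (Dual.D A) (1 : ℤ) (-m)).app (F.obj W)
    have h1 : e'.hom ≫ (shiftFunctor _ (-m)).map α ≫ c.hom ≫ (shiftFunctor _ (1 : ℤ)).map e'.inv = 0 :=
      h0.elim _ _
    have h2 : (shiftFunctor _ (-m)).map α ≫ c.hom ≫ (shiftFunctor _ (1 : ℤ)).map e'.inv = 0 := by
      rw [← cancel_epi e'.hom, h1, Limits.comp_zero]
    have h3 : (shiftFunctor _ (-m)).map α ≫ c.hom = 0 := by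
      rw [← cancel_mono ((shiftFunctor _ (1 : ℤ)).map e'.inv), Category.assoc, h2, Limits.zero_comp]
    have h4 : (shiftFunctor (Dual.D A) (-m)).map α = 0 := by
      rw [← cancel_mono c.hom, h3, Limits.zero_comp]
    apply (shiftFunctor (Dual.D A) (-m)).map_injective
    rw [h4, Functor.map_zero]
  refine ⟨fun a b => ?_⟩
  apply (Ext.homEquiv (X := W) (Y := W) (n := 1)).injective
  exact (key _).trans (key _).symm

theorem extZero : ExtZero A W W := extZero_of_ext A W W (ext_one A hω m W e)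

end Dual

section Schanuel

variable {R : Type u} [CommRing R] {Ω Ω' : Type u} [AddCommGroup Ω] [Module R Ω] [AddCommGroup Ω']
  [Module R Ω']

/-- It suffices to check the extension property for one presentation. -/
theorem extZero_of_one {m : ℕ} (π' : (Fin m → R) →ₗ[R] Ω) (hπ' : Surjective π')
    (h : ∀ x : LinearMap.ker π' →ₗ[R] Ω', ∃ y : (Fin m → R) →ₗ[R] Ω', ∀ k : LinearMap.ker π', x k = y k) :
    ExtZero R Ω Ω' := by
  intro n π hπ x
  obtain ⟨α, hα⟩ := Module.projective_lifting_property π' π hπ'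
  obtain ⟨β, hβ⟩ := Module.projective_lifting_property π π' hπ
  have hα' : ∀ c, π' (α c) = π c := LinearMap.congr_fun hα
  have hβ' : ∀ c, π (β c) = π' c := LinearMap.congr_fun hβ
  let βk : LinearMap.ker π' →ₗ[R] LinearMap.ker π := (β ∘ₗ (LinearMap.ker π').subtype).codRestrict _ (by
    rintro ⟨c, hc⟩
    rw [LinearMap.mem_ker, LinearMap.comp_apply, hβ']
    exact hc)
  obtain ⟨y', hy'⟩ := h (x ∘ₗ βk)
  let γ : (Fin n → R) →ₗ[R] LinearMap.ker π := (LinearMap.id - β ∘ₗ α).codRestrict _ (by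
    intro c
    rw [LinearMap.mem_ker, LinearMap.sub_apply, map_sub, LinearMap.comp_apply, hβ', hα',
      LinearMap.id_apply, sub_self])
  refine ⟨y' ∘ₗ α + x ∘ₗ γ, fun k => ?_⟩
  have hk : α (k : Fin n → R) ∈ LinearMap.ker π' := by
    rw [LinearMap.mem_ker, hα']
    exact k.2
  have h1 := hy' ⟨_, hk⟩
  rw [LinearMap.add_apply, LinearMap.comp_apply, LinearMap.comp_apply, ← h1, LinearMap.comp_apply,
    ← map_add]
  congr 1
  ext1
  change (k : Fin n → R) = β (α (k : Fin n → R)) + ((k : Fin n → R) - β (α (k : Fin n → R)))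
  abel

/-- Transport of the extension property. -/
theorem ExtZero.of_equiv {Ω₁ Ω₁' : Type u} [AddCommGroup Ω₁] [Module R Ω₁] [AddCommGroup Ω₁']
    [Module R Ω₁'] (h : ExtZero R Ω Ω') (e : Ω ≃ₗ[R] Ω₁) (e' : Ω' ≃ₗ[R] Ω₁') : ExtZero R Ω₁ Ω₁' := by
  intro n π hπ x
  have hk : LinearMap.ker (e.symm.toLinearMap ∘ₗ π) = LinearMap.ker π := by
    ext c
    simp
  obtain ⟨y, hy⟩ := h n (e.symm.toLinearMap ∘ₗ π) (e.symm.surjective.comp hπ)
    (e'.symm.toLinearMap ∘ₗ x ∘ₗ (LinearEquiv.ofEq _ _ hk).toLinearMap)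
  refine ⟨e'.toLinearMap ∘ₗ y, fun k => ?_⟩
  have h1 := hy ((LinearEquiv.ofEq _ _ hk).symm k)
  have h2 : (((LinearEquiv.ofEq _ _ hk).symm k : LinearMap.ker (e.symm.toLinearMap ∘ₗ π)) : Fin n → R) =
    (k : Fin n → R) := rfl
  rw [h2] at h1
  simp only [LinearMap.comp_apply, LinearEquiv.coe_coe, LinearEquiv.apply_symm_apply] at h1 ⊢
  rw [← h1, LinearEquiv.apply_symm_apply]

end Schanuel

section Local

variable {R : Type u} [CommRing R] [IsNoetherianRing R] (p : Ideal R) [p.IsPrime]
  {Ω Ω' : Type u} [AddCommGroup Ω] [Module R Ω] [Module.Finite R Ω]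
  [AddCommGroup Ω'] [Module R Ω'] [Module.Finite R Ω']

/-- The extension property localises. -/
theorem ExtZero.localized (h : ExtZero R Ω Ω') (Rp Ωp Ωp' : Type u) [CommRing Rp] [Algebra R Rp]
    [IsLocalization.AtPrime Rp p] [AddCommGroup Ωp] [Module Rp Ωp] [Module R Ωp] [IsScalarTower R Rp Ωp]
    [AddCommGroup Ωp'] [Module Rp Ωp'] [Module R Ωp'] [IsScalarTower R Rp Ωp'] (f : Ω →ₗ[R] Ωp)
    [IsLocalizedModule p.primeCompl f] (f' : Ω' →ₗ[R] Ωp') [IsLocalizedModule p.primeCompl f'] :
    ExtZero Rp Ωp Ωp' := by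
  obtain ⟨n, π, hπ⟩ := Module.Finite.exists_fin' R Ω
  let g : (Fin n → R) →ₗ[R] (Fin n → Rp) := LinearMap.pi fun i =>
    (Algebra.linearMap R Rp) ∘ₗ LinearMap.proj i
  have hg : IsLocalizedModule p.primeCompl g := by
    have : IsLocalizedModule p.primeCompl (Algebra.linearMap R Rp) := inferInstance
    exact IsLocalizedModule.pi p.primeCompl (fun _ : Fin n => Algebra.linearMap R Rp)
  let πp : (Fin n → Rp) →ₗ[Rp] Ωp :=
    LinearMap.extendScalarsOfIsLocalization p.primeCompl Rp (IsLocalizedModule.map p.primeCompl g f π)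
  have hπp : ∀ c, πp (g c) = f (π c) := fun c => IsLocalizedModule.map_apply p.primeCompl g f π c
  have hπps : Surjective πp := IsLocalizedModule.map_surjective p.primeCompl g f π hπ
  refine extZero_of_one πp hπps fun x => ?_
  -- the kernel
  let gk : LinearMap.ker π →ₗ[R] LinearMap.ker πp := (g ∘ₗ (LinearMap.ker π).subtype).codRestrict
    ((LinearMap.ker πp).restrictScalars R) (by
      rintro ⟨c, hc⟩
      change πp (g c) = 0
      rw [hπp, LinearMap.mem_ker.1 hc, map_zero])
  have hfp : Module.FinitePresentation R (LinearMap.ker π) := Module.finitePresentation_of_finite R _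
  obtain ⟨x', s, hs⟩ := Module.FinitePresentation.exists_lift_of_isLocalizedModule p.primeCompl f'
    ((x.restrictScalars R) ∘ₗ gk)
  obtain ⟨y', hy'⟩ := h n π hπ x'
  let y0 : (Fin n → Rp) →ₗ[Rp] Ωp' :=
    LinearMap.extendScalarsOfIsLocalization p.primeCompl Rp (IsLocalizedModule.map p.primeCompl g f' y')
  have hy0 : ∀ c, y0 (g c) = f' (y' c) := fun c => IsLocalizedModule.map_apply p.primeCompl g f' y' c
  obtain ⟨v, hv⟩ := IsLocalization.map_units Rp s
  refine ⟨(↑v⁻¹ : Rp) • y0, fun k => ?_⟩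
  obtain ⟨⟨c, t⟩, hc⟩ := IsLocalizedModule.surj p.primeCompl g (k : Fin n → Rp)
  simp only at hc
  -- adjust `c` to be in the kernel of `π`
  have h1 : f (π c) = 0 := by
    rw [← hπp, ← hc]
    change πp ((t : R) • (k : Fin n → Rp)) = 0
    rw [← algebraMap_smul Rp (t : R) (k : Fin n → Rp), map_smul, LinearMap.mem_ker.1 k.2, smul_zero]
  obtain ⟨r, hr⟩ := (IsLocalizedModule.eq_zero_iff p.primeCompl f).1 h1
  have hc2 : (r : R) • c ∈ LinearMap.ker π := by
    rw [LinearMap.mem_ker, map_smul]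
    exact hr
  have h2 : algebraMap R Rp ((r : R) * (t : R)) • (k : Fin n → Rp) = g ((r : R) • c) := by
    rw [map_smul, ← hc, algebraMap_smul, mul_smul]
    rfl
  have h3 : algebraMap R Rp ((r : R) * (t : R)) • k = gk ⟨(r : R) • c, hc2⟩ := Subtype.ext h2
  have hu : IsUnit (algebraMap R Rp ((r : R) * (t : R))) := IsLocalization.map_units Rp (r * t)
  have h4 : (↑v : Rp) • x k = y0 k := by
    apply hu.smul_left_cancel.1
    have e1 : algebraMap R Rp ((r : R) * (t : R)) • (↑v : Rp) • x k =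
        (↑v : Rp) • x (gk ⟨(r : R) • c, hc2⟩) := by
      rw [smul_comm, ← h3, map_smul]
    have e2 : algebraMap R Rp ((r : R) * (t : R)) • y0 k = f' (y' ((r : R) • c)) := by
      rw [← map_smul y0, h2, hy0]
    rw [e1, e2]
    have h5 := LinearMap.congr_fun hs ⟨(r : R) • c, hc2⟩
    simp only [LinearMap.comp_apply, LinearMap.smul_apply] at h5
    have h6 : s • (LinearMap.restrictScalars R x) (gk ⟨(r : R) • c, hc2⟩) =
      (↑v : Rp) • x (gk ⟨(r : R) • c, hc2⟩) := by
      rw [hv, algebraMap_smul]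
      rfl
    rw [← h6, ← h5, hy']
  rw [LinearMap.smul_apply, ← h4, smul_smul, Units.inv_mul, one_smul]

/-- Bijectivity of `R → End(Ω)` localises. -/
theorem end_bijective_localized (h : Bijective (fun a : R => a • (LinearMap.id : Ω →ₗ[R] Ω)))
    (Rp Ωp : Type u) [CommRing Rp] [Algebra R Rp]
    [IsLocalization.AtPrime Rp p] [AddCommGroup Ωp] [Module Rp Ωp] [Module R Ωp] [IsScalarTower R Rp Ωp]
    (f : Ω →ₗ[R] Ωp) [IsLocalizedModule p.primeCompl f] :
    Bijective (fun a : Rp => a • (LinearMap.id : Ωp →ₗ[Rp] Ωp)) := by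
  constructor
  · intro a b hab
    rw [← sub_eq_zero]
    have h0 : (a - b) • (LinearMap.id : Ωp →ₗ[Rp] Ωp) = 0 := by
      rw [sub_smul]
      exact sub_eq_zero.2 hab
    obtain ⟨r, s, hrs⟩ := IsLocalization.exists_mk'_eq p.primeCompl (a - b)
    have h1 : f ∘ₗ (r • (LinearMap.id : Ω →ₗ[R] Ω)) = f ∘ₗ (0 : Ω →ₗ[R] Ω) := by
      ext w
      simp only [LinearMap.comp_apply, LinearMap.smul_apply, LinearMap.id_apply, LinearMap.zero_apply,
        map_zero, map_smul]
      have h2 := LinearMap.congr_fun h0 (f w)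
      simp only [LinearMap.smul_apply, LinearMap.id_apply, LinearMap.zero_apply] at h2
      have h3 : algebraMap R Rp r = algebraMap R Rp s * (a - b) := by
        rw [← hrs, IsLocalization.mk'_spec']
      rw [← algebraMap_smul Rp r, h3, mul_smul, h2, smul_zero]
    obtain ⟨t, ht⟩ := Module.Finite.exists_smul_of_comp_eq_of_isLocalizedModule p.primeCompl f _ _ h1
    rw [smul_zero] at ht
    have h4 : (t : R) * r = 0 := by
      apply h.1
      simp only [zero_smul]
      rw [mul_smul]
      exact ht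
    rw [← hrs, IsLocalization.mk'_eq_zero_iff]
    exact ⟨t, h4⟩
  · intro φ
    have hfp : Module.FinitePresentation R Ω := Module.finitePresentation_of_finite R _
    obtain ⟨φ', s, hs⟩ := Module.FinitePresentation.exists_lift_of_isLocalizedModule p.primeCompl f
      ((φ.restrictScalars R) ∘ₗ f)
    obtain ⟨a, ha⟩ := h.2 φ'
    simp only at ha
    obtain ⟨v, hv⟩ := IsLocalization.map_units Rp s
    refine ⟨(↑v⁻¹ : Rp) * algebraMap R Rp a, ?_⟩
    have key : ∀ w : Ω, ((↑v⁻¹ : Rp) * algebraMap R Rp a) • f w = φ (f w) := by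
      intro w
      have h1 := LinearMap.congr_fun hs w
      rw [← ha] at h1
      simp only [LinearMap.comp_apply, LinearMap.smul_apply, LinearMap.id_apply, map_smul] at h1
      have h2 : s • (LinearMap.restrictScalars R φ) (f w) = (↑v : Rp) • φ (f w) := by
        rw [hv, algebraMap_smul]
        rfl
      rw [h2] at h1
      rw [mul_smul, algebraMap_smul, h1, smul_smul, Units.inv_mul, one_smul]
    ext w
    obtain ⟨⟨w', t⟩, hw⟩ := IsLocalizedModule.surj p.primeCompl f w
    simp only at hw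
    have hu : IsUnit (algebraMap R Rp (t : R)) := IsLocalization.map_units Rp t
    apply hu.smul_left_cancel.1
    have hw' : algebraMap R Rp (t : R) • w = f w' := (algebraMap_smul Rp (t : R) w).trans hw
    have e1 : algebraMap R Rp (t : R) • φ w = φ (f w') := by rw [← map_smul, hw']
    have e2 : algebraMap R Rp (t : R) • (((↑v⁻¹ : Rp) * algebraMap R Rp a) • w) =
        ((↑v⁻¹ : Rp) * algebraMap R Rp a) • f w' := by rw [smul_comm, hw']
    exact e2.trans ((key w').trans e1.symm)

end Local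

end K968.DualRing
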