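import Groth.Agent.QGor.K968.FibOmega

/-!
# The local claim of the fibre criterion: `L_y ≃ ω_y`

* `hend_of`, `hann_of`, `exists_smul_of_surjective_map`: transport from the fibre;
* `exists_smul_of_mem`: surjectivity at the primes off `G`;
* `le_idealDepth_quot`: the depth of `O_y / 𝔫` from the local rings of the fibre;
* `nonempty_equiv_of_off`: the claim.
-/

set_option autoImplicit false
set_option linter.style.haveILetI false
universe u

open CategoryTheory CategoryTheory.Limits AlgebraicGeometry TopologicalSpace Opposite Function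

namespace K968.FibClaim

open Groth.Agent K968.GoodLoc K968.Compare2 K968.HomBC RefHull K66.StalkOff K66.FlatOff K66.Core
  K970.RelSk1 Groth.Agent.Fdesc.PullbackStalk Groth.Agent.Flat2D.FiberStalk K968.FibOmega K66.SkFull
  Groth.Agent.CycB.LocQuot K476.HomSh1

section Ring

variable {B R0 : Type u} [CommRing B] [CommRing R0] {ρ : B →+* R0}
  {Q Ω : Type u} [AddCommGroup Q] [Module B Q] [AddCommGroup Ω] [Module R0 Ω] (e : Q ≃+ Ω)
  (he : ∀ (r : B) (m : Q), e (r • m) = ρ r • e m)

include he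

theorem symm_semi (r : B) (m : Ω) : e.symm (ρ r • m) = r • e.symm m := by
  apply e.injective
  rw [he, e.apply_symm_apply, e.apply_symm_apply]

theorem hend_of (hρ : Surjective ρ) (h : Surjective (fun a : R0 => a • (LinearMap.id : Ω →ₗ[R0] Ω)))
    (x : Q →ₗ[B] Q) : ∃ b : B, x = b • LinearMap.id := by
  let x' : Ω →ₗ[R0] Ω :=
    { toFun := fun m => e (x (e.symm m))
      map_add' := fun a b => by rw [map_add, map_add, map_add]
      map_smul' := fun r m => by
        obtain ⟨b, rfl⟩ := hρ r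
        rw [symm_semi e he, map_smul, he, RingHom.id_apply] }
  obtain ⟨a, ha⟩ := h x'
  obtain ⟨b, rfl⟩ := hρ a
  refine ⟨b, LinearMap.ext fun m => e.injective ?_⟩
  have h1 := LinearMap.congr_fun ha (e m)
  change ρ b • e m = e (x (e.symm (e m))) at h1
  rw [e.symm_apply_apply] at h1
  rw [← h1, LinearMap.smul_apply, LinearMap.id_apply, he]

theorem hann_of (h : Injective (fun a : R0 => a • (LinearMap.id : Ω →ₗ[R0] Ω))) (b : B)
    (hb : ∀ o : Q, b • o = 0) : b ∈ RingHom.ker ρ := by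
  rw [RingHom.mem_ker]
  apply h
  ext m
  change ρ b • m = (0 : R0) • m
  have h1 := he b (e.symm m)
  rw [hb, map_zero, e.apply_symm_apply] at h1
  rw [← h1, zero_smul]

end Ring

theorem exists_smul_of_surjective_map {R : Type u} [CommRing R] {M N : Type u} [AddCommGroup M]
    [Module R M] [AddCommGroup N] [Module R N] (P : Ideal R) [P.IsPrime] (T : M →ₗ[R] N)
    (h : Surjective (LocalizedModule.map P.primeCompl T)) (n : N) :
    ∃ (s : R) (m : M), s ∉ P ∧ T m = s • n := by
  obtain ⟨x, hx⟩ := h (LocalizedModule.mk n 1)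
  induction x using LocalizedModule.induction_on with
  | h m s =>
    rw [LocalizedModule.map_mk, LocalizedModule.mk_eq] at hx
    obtain ⟨u, hu⟩ := hx
    have hP : P.IsPrime := inferInstance
    refine ⟨(u : R) * s, (u : R) • m, fun h => (hP.mem_or_mem h).elim u.2 s.2, ?_⟩
    rw [map_smul, mul_smul]
    rw [one_smul] at hu
    exact hu

section Fib

variable {X S : Scheme.{u}} (f : X ⟶ S) (s : S)

/-- Surjectivity at the primes off `G`. -/
theorem exists_smul_of_mem {F F' : X.Modules} (G : X.Opens)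
    (T : (Scheme.Modules.pullback (f.fiberι s)).obj F ⟶ (Scheme.Modules.pullback (f.fiberι s)).obj F')
    (hT : ∀ w : f.fiber s, f.fiberι s w ∈ G → Bijective (stalkMapₗ T w))
    (hF : Coh.IsQCoh ((Scheme.Modules.pullback (f.fiberι s)).obj F))
    (hF' : Coh.IsQCoh ((Scheme.Modules.pullback (f.fiberι s)).obj F')) (z : f.fiber s)
    (p : Ideal (X.presheaf.stalk (f.fiberι s z))) [p.IsPrime] (hp : ¬ offIdeal G (f.fiberι s z) ≤ p)
    (hnp : fibreIdeal f (f.fiberι s z) ≤ p)
    (m : ((Scheme.Modules.pullback (f.fiberι s)).obj F').presheaf.stalk z) :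
    ∃ (r : X.presheaf.stalk (f.fiberι s z))
      (m' : ((Scheme.Modules.pullback (f.fiberι s)).obj F).presheaf.stalk z),
      r ∉ p ∧ stalkMapₗ T z m' = ((f.fiberι s).stalkMap z).hom r • m := by
  have hφs := stalkMap_fiberι_surjective f s z
  have hφk := ker_stalkMap_fiberι f s z
  have hker : RingHom.ker ((f.fiberι s).stalkMap z).hom ≤ p := hφk.le.trans hnp
  have hP : (p.map ((f.fiberι s).stalkMap z).hom).IsPrime := Ideal.map_isPrime_of_surjective hφs hker
  have hcomap : (p.map ((f.fiberι s).stalkMap z).hom).comap ((f.fiberι s).stalkMap z).hom = p := by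
    rw [Ideal.comap_map_of_surjective' _ hφs, sup_eq_left]
    exact hker
  let q : PrimeSpectrum ((f.fiber s).presheaf.stalk z) := ⟨_, hP⟩
  have h1 : f.fiberι s (ptOf q) ∈ G := by
    by_contra hc
    apply hp
    have h2 := comap_primeOf (f.fiberι s) (ptOf_specializes q)
    rw [primeOf_ptOf] at h2
    have h3 : p = (primeOf ((ptOf_specializes q).map (f.fiberι s).continuous)).asIdeal :=
      hcomap.symm.trans h2
    rw [h3, offIdeal_le_primeOf_iff]
    exact hc
  have h4 := bijective_localized hF hF' (ptOf_specializes q) (stalkMapₗ T z) (stalkMapₗ T (ptOf q))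
    (fun m => K476.RefPow1.stalkMapₗ_specializes T _ m) (hT _ h1)
  rw [primeOf_ptOf] at h4
  obtain ⟨a, m', ha, hm⟩ := exists_smul_of_surjective_map q.asIdeal (stalkMapₗ T z) h4.2 m
  obtain ⟨r, rfl⟩ := hφs a
  exact ⟨r, m', fun h => ha (Ideal.mem_map_of_mem _ h), hm⟩

/-- The depth of the local ring of the fibre. -/
theorem le_idealDepth_quot [IsLocallyNoetherian (f.fiber s)] (G : X.Opens) (z : f.fiber s) (k : ℕ)
    (h : ∀ w : f.fiber s, w ⤳ z → f.fiberι s w ∉ G →
      (k : ℕ∞) ≤ LocCoh.depth ((f.fiber s).presheaf.stalk w) ((f.fiber s).presheaf.stalk w)) :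
    (k : ℕ∞) ≤ LocCoh.idealDepth (offIdeal G (f.fiberι s z))
      (X.presheaf.stalk (f.fiberι s z) ⧸ fibreIdeal f (f.fiberι s z)) := by
  let φ := ((f.fiberι s).stalkMap z).hom
  have hφs : Surjective φ := stalkMap_fiberι_surjective f s z
  have hφk : RingHom.ker φ = fibreIdeal f (f.fiberι s z) := ker_stalkMap_fiberι f s z
  let J := offIdeal G (f.fiberι s z)
  have hJφ : ∀ (w : f.fiber s) (h : w ⤳ z), J.map φ ≤ (primeOf h).asIdeal ↔ f.fiberι s w ∉ G := by
    intro w h
    rw [Ideal.map_le_iff_le_comap, comap_primeOf, offIdeal_le_primeOf_iff]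
  let eR : (X.presheaf.stalk (f.fiberι s z) ⧸ fibreIdeal f (f.fiberι s z)) ≃+*
      (f.fiber s).presheaf.stalk z :=
    (Ideal.quotEquivOfEq hφk.symm).trans (RingHom.quotientKerEquivOfSurjective hφs)
  rw [Ega4A.DepthBasic.idealDepth_congr_of_surjective φ hφs J
    (X.presheaf.stalk (f.fiberι s z) ⧸ fibreIdeal f (f.fiberι s z)) ((f.fiber s).presheaf.stalk z)
    eR.toAddEquiv (by
      intro r m
      obtain ⟨m, rfl⟩ := Ideal.Quotient.mk_surjective m
      change eR (Ideal.Quotient.mk _ (r * m)) = φ r * eR (Ideal.Quotient.mk _ m)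
      rw [map_mul, map_mul]
      rfl)]
  exact (le_idealDepth_ring_iff' z (J.map φ) k).mpr fun w h' hw => h w h' ((hJφ w h').mp hw)

end Fib

/-- Converse of `EndOmega.bijective_scalar`. -/
theorem bijective_of_isIso_scalar {X : Scheme.{u}} [IsLocallyNoetherian X] {F : X.Modules}
    (hF : Coh.IsCoh F) (h : IsIso (EndOmega.scalar F)) (x : X) :
    Bijective (fun b : X.presheaf.stalk x => b • (LinearMap.id :
      F.presheaf.stalk x →ₗ[X.presheaf.stalk x] F.presheaf.stalk x)) := by
  have h1 := K476.HomSh3.evalStalk_bijective_of_isCoh F F hF x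
  have h2 := h1.comp ((K476.HomSh4.bijective_stalkMapₗ_of_isIso (EndOmega.scalar F) x).comp
    (Fdesc.StructMod.stalkEquiv x).bijective)
  convert h2 using 1
  funext r
  exact (EndOmega.evalStalk_scalar F x r).symm

section Main

variable (A : Type u) [CommRing A] [IsNoetherianRing A] {Y : Scheme.{u}} [Y.Over (Spec (CommRingCat.of A))]
  [IsProper (Y ↘ Spec (CommRingCat.of A))] {d : ℕ} (t : Spec (CommRingCat.of A))
  (hS : RelCanon.IsSkMor (Y ↘ Spec (CommRingCat.of A)) 2)
  (hd : Cyc.HasRelDim (Y ↘ Spec (CommRingCat.of A)) d)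
  {ω : Y.Modules} (hω : RelCanon.IsDualizingSheaf A Y d ω)
  {L : Y.Modules} (hL : Coh.IsCoh L) (hLf : FlatMod.IsFlatOver (Y ↘ Spec (CommRingCat.of A)) L)
  (h2 : RelCanon.IsDualizingSheafFib (Y ↘ Spec (CommRingCat.of A)) d L t)

attribute [local instance] fibOver

include hS hd hω hL h2

/-- The local claim. -/
theorem nonempty_equiv_of_off (z : (Y ↘ Spec (CommRingCat.of A)).fiber t) (G : Y.Opens)
    (hGCM : ∀ ξ ∈ G, MoreMor.IsCMAt (Y ↘ Spec (CommRingCat.of A)) ξ)
    (hG : ∀ ξ ∈ G, Nonempty (L.presheaf.stalk ξ ≃ₗ[Y.presheaf.stalk ξ] ω.presheaf.stalk ξ))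
    (hΛ : 2 ≤ LocCoh.idealDepth (offIdeal G ((Y ↘ Spec (CommRingCat.of A)).fiberι t z))
      (L.presheaf.stalk ((Y ↘ Spec (CommRingCat.of A)).fiberι t z)))
    (hW : 2 ≤ LocCoh.idealDepth (offIdeal G ((Y ↘ Spec (CommRingCat.of A)).fiberι t z))
      (ω.presheaf.stalk ((Y ↘ Spec (CommRingCat.of A)).fiberι t z)))
    (h3 : (∀ w : (Y ↘ Spec (CommRingCat.of A)).fiber t, w ⤳ z →
        (Y ↘ Spec (CommRingCat.of A)).fiberι t w ∉ G →
        3 ≤ LocCoh.depth (((Y ↘ Spec (CommRingCat.of A)).fiber t).presheaf.stalk w)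
          (((Y ↘ Spec (CommRingCat.of A)).fiber t).presheaf.stalk w)) ∨
      ((∀ w : (Y ↘ Spec (CommRingCat.of A)).fiber t, w ⤳ z →
        (Y ↘ Spec (CommRingCat.of A)).fiberι t w ∉ G →
        2 ≤ LocCoh.depth (((Y ↘ Spec (CommRingCat.of A)).fiber t).presheaf.stalk w)
          (((Y ↘ Spec (CommRingCat.of A)).fiber t).presheaf.stalk w)) ∧
        ∃ r : ℕ, IsUnit (r : Y.presheaf.stalk ((Y ↘ Spec (CommRingCat.of A)).fiberι t z)) ∧
          Nonempty (TPow.R (Y.presheaf.stalk ((Y ↘ Spec (CommRingCat.of A)).fiberι t z))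
            (L.presheaf.stalk ((Y ↘ Spec (CommRingCat.of A)).fiberι t z)) r
              ≃ₗ[Y.presheaf.stalk ((Y ↘ Spec (CommRingCat.of A)).fiberι t z)]
                Y.presheaf.stalk ((Y ↘ Spec (CommRingCat.of A)).fiberι t z)) ∧
          Nonempty (TPow.R (Y.presheaf.stalk ((Y ↘ Spec (CommRingCat.of A)).fiberι t z))
            (ω.presheaf.stalk ((Y ↘ Spec (CommRingCat.of A)).fiberι t z)) r
              ≃ₗ[Y.presheaf.stalk ((Y ↘ Spec (CommRingCat.of A)).fiberι t z)]
                Y.presheaf.stalk ((Y ↘ Spec (CommRingCat.of A)).fiberι t z)))) :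
    Nonempty (L.presheaf.stalk ((Y ↘ Spec (CommRingCat.of A)).fiberι t z)
      ≃ₗ[Y.presheaf.stalk ((Y ↘ Spec (CommRingCat.of A)).fiberι t z)]
        ω.presheaf.stalk ((Y ↘ Spec (CommRingCat.of A)).fiberι t z)) := by
  obtain ⟨T, hT⟩ := exists_map A t hS hd hω h2
  let f := Y ↘ Spec (CommRingCat.of A)
  let i := f.fiberι t
  let y := i z
  have hfl : Flat f := hS.1
  have hN : IsNoetherianRing (CommRingCat.of A) := inferInstanceAs (IsNoetherianRing A)
  have hlN : IsLocallyNoetherian Y := LocallyOfFiniteType.isLocallyNoetherian f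
  have hlNf : IsLocallyNoetherian (f.fiber t) := K66.Fibre.isLocallyNoetherian_fiber f t
  have hωc := K967.OmegaBasic.isCoh A Y d ω hω (fibreDimLE hd)
  have hiω : Coh.IsCoh ((Scheme.Modules.pullback i).obj ω) := FormalA.PullbackQC.isCoh_pullback i ω hωc
  have hiL : Coh.IsCoh ((Scheme.Modules.pullback i).obj L) := FormalA.PullbackQC.isCoh_pullback i L hL
  have hfin : Module.Finite (Y.presheaf.stalk y) (ω.presheaf.stalk y) :=
    Divis.StalkMod.finite_stalk hωc y
  have hfin' : Module.Finite (Y.presheaf.stalk y) (L.presheaf.stalk y) :=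
    Divis.StalkMod.finite_stalk hL y
  letI := stalkAlg f y
  haveI : IsLocalHom (algebraMap ((Spec (CommRingCat.of A)).presheaf.stalk (f y))
      (Y.presheaf.stalk y)) := inferInstanceAs (IsLocalHom (f.stalkMap y).hom)
  haveI : Module.Flat ((Spec (CommRingCat.of A)).presheaf.stalk (f y)) (Y.presheaf.stalk y) :=
    Flat.stalkMap f y
  have O : HomKey.Off (offIdeal G y) (L.presheaf.stalk y) (ω.presheaf.stalk y) :=
    OffData.off_of_stalks hL hωc G y fun ξ hξ _ =>
      ⟨hG ξ hξ, EndOmega.bijective_stalk A hd hω ξ (hGCM ξ hξ)⟩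
  -- the fibre stalk of `L`
  obtain ⟨e, he⟩ : ∃ e : (L.presheaf.stalk y ⧸ (fibreIdeal f y • (⊤ : Submodule (Y.presheaf.stalk y)
      (L.presheaf.stalk y)))) ≃+ ((Scheme.Modules.pullback i).obj L).presheaf.stalk z,
      ∀ (r : Y.presheaf.stalk y) m, e (r • m) = (i.stalkMap z).hom r • e m := by
    letI := stalkAlg i z
    letI := FlatMod.moduleStalkOver i ((Scheme.Modules.pullback i).obj L) z
    haveI := isScalarTower i ((Scheme.Modules.pullback i).obj L) z
    exact exists_quot_equiv (can i L z) (isBaseChange_can i L z)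
      (stalkMap_fiberι_surjective f t z) (fibreIdeal f y) (ker_stalkMap_fiberι f t z)
  have hend := bijective_of_isIso_scalar hiL
    (EndOmega.isIso_scalar ((Spec (CommRingCat.of A)).residueField t) (hasRelDim_fib A t hd) h2
      (isSkMor_fib A t hS)) z
  let τ : ω.presheaf.stalk y →ₗ[Y.presheaf.stalk y]
      (L.presheaf.stalk y ⧸ (fibreIdeal f y • (⊤ : Submodule (Y.presheaf.stalk y) (L.presheaf.stalk y)))) :=
    { toFun := fun w => e.symm (stalkMapₗ T z (cansl i ω z w))
      map_add' := fun a b => by rw [map_add, map_add, map_add]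
      map_smul' := fun r w => by
        rw [map_smulₛₗ, map_smul, RingHom.id_apply]
        exact symm_semi e he r _ }
  have hτ : ∀ (p : Ideal (Y.presheaf.stalk y)) [p.IsPrime], ¬ offIdeal G y ≤ p → fibreIdeal f y ≤ p →
      ∀ o : L.presheaf.stalk y ⧸ (fibreIdeal f y • (⊤ : Submodule (Y.presheaf.stalk y)
        (L.presheaf.stalk y))), ∃ (r : Y.presheaf.stalk y) (w : ω.presheaf.stalk y),
          r ∉ p ∧ τ w = r • o := by
    intro p _ hp hnp o
    obtain ⟨r, m', hr, hm⟩ := exists_smul_of_mem f t G T (fun w hw => hT w (hGCM _ hw)) hiω.1 hiL.1 z p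
      hp hnp (e o)
    obtain ⟨w, hw⟩ := K967.FibMap.canAdd_surjective f ω t z m'
    refine ⟨r, w, hr, ?_⟩
    change e.symm (stalkMapₗ T z (canAdd i ω z w)) = r • o
    rw [hw, hm, symm_semi e he, e.symm_apply_apply]
  have hend' := hend_of e he (stalkMap_fiberι_surjective f t z) hend.2
  have hann : ∀ b : Y.presheaf.stalk y, (∀ o : L.presheaf.stalk y ⧸ (fibreIdeal f y •
      (⊤ : Submodule (Y.presheaf.stalk y) (L.presheaf.stalk y))), b • o = 0) → b ∈ fibreIdeal f y := by
    intro b hb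
    rw [← ker_stalkMap_fiberι f t z]
    exact hann_of e he hend.1 b hb
  rcases h3 with h3 | ⟨h3, r, hr, ⟨e₁⟩, ⟨e₂⟩⟩
  · exact HomKey.equiv_of_three (A := (Spec (CommRingCat.of A)).presheaf.stalk (f y)) O hΛ hW τ hτ
      hend' hann (le_idealDepth_quot f t G z 3 h3)
  · exact HomKey.equiv_of_pow (A := (Spec (CommRingCat.of A)).presheaf.stalk (f y)) O hΛ hW τ hτ
      hend' hann (le_idealDepth_quot f t G z 2 h3) r hr e₁ e₂

end Main

end K968.FibClaim
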