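import Groth.Agent.QGor.K968.DualRing
import Groth.Agent.LoccohB.CMSch

/-!
# `Good R Ω`: `R → End(Ω)` is bijective and `Ext^1(Ω, Ω) = 0` in the form of extending maps

* `Good.of_semi`: transport along semilinear bijections;
* `good_localized`: localisations of a dualizing complex which have a single cohomology module.
-/

set_option autoImplicit false
universe u

open CategoryTheory CategoryTheory.Limits Function
attribute [local instance] HasDerivedCategory.standard

namespace K968.GoodLoc

open K968.HomBC K968.DualRing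

/-- `R → End(Ω)` is bijective and `Ext^1(Ω, Ω) = 0`. -/
def Good (R : Type u) [CommRing R] (Ω : Type u) [AddCommGroup Ω] [Module R Ω] : Prop :=
  Bijective (fun a : R => a • (LinearMap.id : Ω →ₗ[R] Ω)) ∧ ExtZero R Ω Ω

section Semi

variable {R R' : Type u} [CommRing R] [CommRing R'] (e : R ≃+* R')
  {Ω Ω' : Type u} [AddCommGroup Ω] [Module R Ω] [AddCommGroup Ω'] [Module R' Ω'] (σ : Ω ≃+ Ω')
  (hσ : ∀ (r : R) (x : Ω), σ (r • x) = e r • σ x)

include hσ

theorem symm_smul (r : R') (x : Ω') : σ.symm (r • x) = e.symm r • σ.symm x := by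
  apply σ.injective
  rw [hσ, σ.apply_symm_apply, σ.apply_symm_apply, e.apply_symm_apply]

theorem end_bijective_semi (h : Bijective (fun a : R => a • (LinearMap.id : Ω →ₗ[R] Ω))) :
    Bijective (fun a : R' => a • (LinearMap.id : Ω' →ₗ[R'] Ω')) := by
  constructor
  · intro a b hab
    apply e.symm.injective
    apply h.1
    simp only
    ext x
    have h1 := LinearMap.congr_fun hab (σ x)
    simp only [LinearMap.smul_apply, LinearMap.id_apply] at h1 ⊢
    apply σ.injective
    rw [hσ, hσ, e.apply_symm_apply, e.apply_symm_apply, h1]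
  · intro φ
    let φ' : Ω →ₗ[R] Ω :=
      { toFun := fun x => σ.symm (φ (σ x))
        map_add' := fun x y => by rw [map_add, map_add, map_add]
        map_smul' := fun r x => by
          rw [hσ, map_smul, symm_smul e σ hσ, e.symm_apply_apply, RingHom.id_apply] }
    obtain ⟨a, ha⟩ := h.2 φ'
    refine ⟨e a, ?_⟩
    simp only
    ext x
    have h1 := LinearMap.congr_fun ha (σ.symm x)
    change a • σ.symm x = σ.symm (φ (σ (σ.symm x))) at h1
    rw [σ.apply_symm_apply] at h1
    have h2 := congrArg σ h1
    rw [hσ, σ.apply_symm_apply, σ.apply_symm_apply] at h2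
    exact h2

theorem extZero_semi (h : ExtZero R Ω Ω) : ExtZero R' Ω' Ω' := by
  intro n π hπ x
  let ε : (Fin n → R) ≃+ (Fin n → R') := AddEquiv.piCongrRight fun _ => e.toAddEquiv
  have hε : ∀ (r : R) (c : Fin n → R), ε (r • c) = e r • ε c := by
    intro r c
    funext i
    exact map_mul e r (c i)
  let π' : (Fin n → R) →ₗ[R] Ω :=
    { toFun := fun c => σ.symm (π (ε c))
      map_add' := fun c c' => by rw [map_add, map_add, map_add]
      map_smul' := fun r c => by
        rw [hε, map_smul, symm_smul e σ hσ, e.symm_apply_apply, RingHom.id_apply] }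
  have hπ' : Surjective π' := σ.symm.surjective.comp (hπ.comp ε.surjective)
  have hk : ∀ c : Fin n → R, c ∈ LinearMap.ker π' ↔ ε c ∈ LinearMap.ker π := by
    intro c
    rw [LinearMap.mem_ker, LinearMap.mem_ker]
    exact σ.symm.map_eq_zero_iff
  let x' : LinearMap.ker π' →ₗ[R] Ω :=
    { toFun := fun c => σ.symm (x ⟨ε c, (hk c).1 c.2⟩)
      map_add' := fun c c' => by
        rw [← map_add σ.symm, ← map_add x]
        congr 2
        exact Subtype.ext (map_add ε _ _)
      map_smul' := fun r c => by
        rw [RingHom.id_apply, ← e.symm_apply_apply r, ← symm_smul e σ hσ, ← map_smul x]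
        congr 2
        apply Subtype.ext
        rw [e.symm_apply_apply]
        exact hε r c }
  obtain ⟨y', hy'⟩ := h n π' hπ' x'
  let y : (Fin n → R') →ₗ[R'] Ω' :=
    { toFun := fun c => σ (y' (ε.symm c))
      map_add' := fun c c' => by rw [map_add, map_add, map_add]
      map_smul' := fun r c => by
        have h1 : ε.symm (r • c) = e.symm r • ε.symm c := by
          apply ε.injective
          rw [hε, ε.apply_symm_apply, ε.apply_symm_apply, e.apply_symm_apply]
        rw [h1, map_smul, hσ, e.apply_symm_apply, RingHom.id_apply] }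
  refine ⟨y, fun k => ?_⟩
  have hk' : ε.symm (k : Fin n → R') ∈ LinearMap.ker π' := by
    rw [hk, ε.apply_symm_apply]
    exact k.2
  have h1 := hy' ⟨_, hk'⟩
  change σ.symm (x _) = y' (ε.symm (k : Fin n → R')) at h1
  have h2 := congrArg σ h1
  rw [σ.apply_symm_apply] at h2
  change x k = σ (y' (ε.symm (k : Fin n → R')))
  rw [← h2]
  congr 1
  exact Subtype.ext (ε.apply_symm_apply _).symm

theorem Good.of_semi (h : Good R Ω) : Good R' Ω' :=
  ⟨end_bijective_semi e σ hσ h.1, extZero_semi e σ hσ h.2⟩

end Semi

theorem Good.of_equiv {R : Type u} [CommRing R] {Ω Ω' : Type u} [AddCommGroup Ω] [Module R Ω]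
    [AddCommGroup Ω'] [Module R Ω'] (e : Ω ≃ₗ[R] Ω') (h : Good R Ω) : Good R Ω' :=
  Good.of_semi (RingEquiv.refl R) e.toAddEquiv (fun r x => e.map_smul r x) h

/-- A dualizing complex with a single cohomology module. -/
theorem good_of_isDualizing (A : Type u) [CommRing A] {ω : Dual.D A} (hω : Dual.IsDualizing A ω) (m : ℤ)
    (h : ∀ i : ℤ, i ≠ m → Subsingleton (Dual.HD A ω i)) : Good A (Dual.HD A ω m) := by
  have h0 : ∀ i : ℤ, i ≠ m → IsZero ((DerivedCategory.homologyFunctor (ModuleCat.{u} A) i).obj ω) :=
    fun i hi => by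
      have := h i hi
      exact ModuleCat.isZero_of_subsingleton _
  have h1 : ω.IsGE m := (DerivedCategory.isGE_iff ω m).2 fun i hi => h0 i (by omega)
  have h2 : ω.IsLE m := (DerivedCategory.isLE_iff ω m).2 fun i hi => h0 i (by omega)
  obtain ⟨M, ⟨e⟩⟩ := DerivedCategory.exists_iso_singleFunctor_obj_of_isGE_of_isLE ω m
  have e2 : (DerivedCategory.homologyFunctor (ModuleCat.{u} A) m).obj ω ≅ M :=
    (DerivedCategory.homologyFunctor _ m).mapIso e ≪≫
      (DerivedCategory.singleFunctorCompHomologyFunctorIso _ m).app M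
  exact Good.of_equiv e2.symm.toLinearEquiv ⟨end_bijective A hω m M e, extZero A hω m M e⟩

/-- Localisation of a dualizing complex at a prime where it has a single cohomology module. -/
theorem good_localized (A : Type u) [CommRing A] [IsNoetherianRing A] {ω : Dual.D A} (hω : Dual.IsDualizing A ω) (m : ℤ)
    (p : Ideal A) [p.IsPrime]
    (h : ∀ i : ℤ, i ≠ m → Subsingleton (LocalizedModule p.primeCompl (Dual.HD A ω i))) :
    Good (Localization p.primeCompl) (LocalizedModule p.primeCompl (Dual.HD A ω m)) := by
  have hL : DRing.HasLBaseChange (algebraMap A (Localization p.primeCompl)) :=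
    Groth.Agent.LoccohB.LBC.hasLBaseChange _
  have h1 : Dual.IsDualizing (Localization p.primeCompl)
    ((DRing.LBaseChange (algebraMap A (Localization p.primeCompl))).obj ω) :=
    Groth.Agent.S1775.result A p.primeCompl ω hω
  obtain ⟨e⟩ := Groth.Agent.LoccohB.CMSch.lbcHD_localization p.primeCompl ω m
  refine Good.of_equiv e (good_of_isDualizing _ h1 m fun i hi => ?_)
  obtain ⟨e'⟩ := Groth.Agent.LoccohB.CMSch.lbcHD_localization p.primeCompl ω i
  have := h i hi
  exact e'.toEquiv.subsingleton

end K968.GoodLoc
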