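import Groth.Agent.QGor.K968.HomKey
import Groth.Agent.QGor.K968.GoodLoc
import Groth.Agent.QGor.K66.StalkOff
import Groth.Agent.SDiv.K476.HomSh3
import Groth.Agent.Divis.StalkMod

/-!
# Modules which are isomorphic off a closed subset: the data at a local ring

* `off_of_stalks` : the structure `HomKey.Off` for the stalks of coherent modules `L`, `ω` which are isomorphic at
  the points of `G`, with `O = End(ω)` there;
* `isoOpen` : the open set of points where two coherent modules are isomorphic.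
-/

set_option autoImplicit false
universe u

open AlgebraicGeometry CategoryTheory Limits TopologicalSpace Opposite Function

namespace K968.OffData

section Ring

variable {B : Type u} [CommRing B] [IsNoetherianRing B] {M N : Type u} [AddCommGroup M] [Module B M]
  [Module.Finite B M] [AddCommGroup N] [Module B N] [Module.Finite B N] (p : Ideal B) [p.IsPrime]

omit [Module.Finite B N] in
theorem exists_lift (f : LocalizedModule p.primeCompl M →ₗ[Localization p.primeCompl]
      LocalizedModule p.primeCompl N) :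
    ∃ (φ : M →ₗ[B] N) (s : B), s ∉ p ∧ ∀ m, LocalizedModule.mkLinearMap p.primeCompl N (φ m) =
      s • f (LocalizedModule.mkLinearMap p.primeCompl M m) := by
  have hfp : Module.FinitePresentation B M := Module.finitePresentation_of_finite B M
  obtain ⟨φ, s, hs⟩ := Module.FinitePresentation.exists_lift_of_isLocalizedModule p.primeCompl
    (LocalizedModule.mkLinearMap p.primeCompl N)
    ((f.restrictScalars B) ∘ₗ LocalizedModule.mkLinearMap p.primeCompl M)
  exact ⟨φ, s, s.2, fun m => LinearMap.congr_fun hs m⟩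

theorem exists_inv (f : LocalizedModule p.primeCompl M ≃ₗ[Localization p.primeCompl]
      LocalizedModule p.primeCompl N) :
    ∃ (φ : M →ₗ[B] N) (ψ : N →ₗ[B] M) (t : B), t ∉ p ∧
      ψ ∘ₗ φ = t • LinearMap.id ∧ φ ∘ₗ ψ = t • LinearMap.id := by
  obtain ⟨φ, s, hs, h1⟩ := exists_lift p f.toLinearMap
  obtain ⟨ψ, s', hs', h2⟩ := exists_lift p f.symm.toLinearMap
  have key1 : (LocalizedModule.mkLinearMap p.primeCompl M) ∘ₗ (ψ ∘ₗ φ) =
      (LocalizedModule.mkLinearMap p.primeCompl M) ∘ₗ ((s * s') • LinearMap.id) := by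
    ext m
    simp only [LinearMap.comp_apply, LinearMap.smul_apply, LinearMap.id_apply, map_smul]
    rw [h2, h1]
    simp only [LinearEquiv.coe_coe]
    rw [← algebraMap_smul (Localization p.primeCompl) s (f _), map_smul, f.symm_apply_apply,
      algebraMap_smul, smul_smul, mul_comm s' s]
  have key2 : (LocalizedModule.mkLinearMap p.primeCompl N) ∘ₗ (φ ∘ₗ ψ) =
      (LocalizedModule.mkLinearMap p.primeCompl N) ∘ₗ ((s * s') • LinearMap.id) := by
    ext m
    simp only [LinearMap.comp_apply, LinearMap.smul_apply, LinearMap.id_apply, map_smul]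
    rw [h1, h2]
    simp only [LinearEquiv.coe_coe]
    rw [← algebraMap_smul (Localization p.primeCompl) s' (f.symm _), map_smul, f.apply_symm_apply,
      algebraMap_smul, smul_smul]
  obtain ⟨u, hu⟩ := Module.Finite.exists_smul_of_comp_eq_of_isLocalizedModule p.primeCompl
    (LocalizedModule.mkLinearMap p.primeCompl M) _ _ key1
  obtain ⟨u', hu'⟩ := Module.Finite.exists_smul_of_comp_eq_of_isLocalizedModule p.primeCompl
    (LocalizedModule.mkLinearMap p.primeCompl N) _ _ key2
  have hpp : p.IsPrime := inferInstance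
  have e1 : (u : B) • (ψ ∘ₗ φ) = (u : B) • ((s * s') • LinearMap.id) := hu
  have e2 : (u' : B) • (φ ∘ₗ ψ) = (u' : B) • ((s * s') • LinearMap.id) := hu'
  refine ⟨φ, ((u : B) * u') • ψ, (u * u') * (s * s'), ?_, ?_, ?_⟩
  · intro h
    rcases hpp.mem_or_mem h with h | h
    · rcases hpp.mem_or_mem h with h | h
      · exact u.2 h
      · exact u'.2 h
    · rcases hpp.mem_or_mem h with h | h
      · exact hs h
      · exact hs' h
  · rw [LinearMap.smul_comp, mul_comm (u : B) u', mul_smul, e1, smul_smul, smul_smul, ← mul_assoc]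
  · rw [LinearMap.comp_smul, mul_smul, e2, smul_smul, smul_smul, ← mul_assoc]

omit [IsNoetherianRing B] in
theorem exists_scal (h : Bijective (fun a : Localization p.primeCompl => a •
      (LinearMap.id : LocalizedModule p.primeCompl N →ₗ[Localization p.primeCompl]
        LocalizedModule p.primeCompl N))) (x : N →ₗ[B] N) :
    ∃ (t b : B), t ∉ p ∧ t • x = b • LinearMap.id := by
  have hpp : p.IsPrime := inferInstance
  obtain ⟨a, ha⟩ := h.2 (LocalizedModule.map p.primeCompl x)
  obtain ⟨⟨b, s⟩, hb⟩ := IsLocalization.surj p.primeCompl a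
  simp only at hb ha
  have key : (LocalizedModule.mkLinearMap p.primeCompl N) ∘ₗ ((s : B) • x) =
      (LocalizedModule.mkLinearMap p.primeCompl N) ∘ₗ (b • LinearMap.id) := by
    ext m
    simp only [LinearMap.comp_apply, LinearMap.smul_apply, LinearMap.id_apply, map_smul]
    have h1 := LinearMap.congr_fun ha (LocalizedModule.mkLinearMap p.primeCompl N m)
    have h2 : LocalizedModule.map p.primeCompl x (LocalizedModule.mkLinearMap p.primeCompl N m) =
        LocalizedModule.mkLinearMap p.primeCompl N (x m) := by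
      simp [LocalizedModule.mkLinearMap_apply]
    rw [h2] at h1
    rw [← h1, ← algebraMap_smul (Localization p.primeCompl) (s : B),
      ← algebraMap_smul (Localization p.primeCompl) b, ← hb, mul_comm a, mul_smul]
    rfl
  obtain ⟨u, hu⟩ := Module.Finite.exists_smul_of_comp_eq_of_isLocalizedModule p.primeCompl
    (LocalizedModule.mkLinearMap p.primeCompl N) _ _ key
  have e1 : (u : B) • ((s : B) • x) = (u : B) • (b • LinearMap.id) := hu
  refine ⟨u * s, u * b, fun h => (hpp.mem_or_mem h).elim u.2 s.2, ?_⟩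
  rw [mul_smul, e1, mul_smul]

omit [IsNoetherianRing B] [Module.Finite B N] in
theorem exists_faith (h : Injective (fun a : Localization p.primeCompl => a •
      (LinearMap.id : LocalizedModule p.primeCompl N →ₗ[Localization p.primeCompl]
        LocalizedModule p.primeCompl N))) (b : B) (hb : ∀ w : N, b • w = 0) :
    ∃ t, t ∉ p ∧ t * b = 0 := by
  have h1 : algebraMap B (Localization p.primeCompl) b = 0 := by
    apply h
    simp only [zero_smul]
    ext x
    induction x using LocalizedModule.induction_on with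
    | h m s =>
      rw [LinearMap.smul_apply, LinearMap.id_apply, algebraMap_smul, LocalizedModule.smul'_mk, hb,
        LocalizedModule.zero_mk]
      rfl
  obtain ⟨t, ht⟩ := (IsLocalization.map_eq_zero_iff p.primeCompl (Localization p.primeCompl) b).1 h1
  exact ⟨t, t.2, ht⟩

end Ring

section Sch

open Groth.Agent Groth.Agent.CycB.LocQuot K66.StalkOff RefHull K476.HomSh1 K476.HomSh2 K968.GoodLoc
  Groth.Agent.CycB.StalkExact Groth.Agent.Ega1.QCohLoc

variable {X : Scheme.{u}} [IsLocallyNoetherian X]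

/-- The data at a local ring. -/
theorem off_of_stalks {L ω : X.Modules} (hL : Coh.IsCoh L) (hω : Coh.IsCoh ω) (G : X.Opens) (x : X)
    (hG : ∀ ξ ∈ G, ξ ⤳ x → Nonempty (L.presheaf.stalk ξ ≃ₗ[X.presheaf.stalk ξ] ω.presheaf.stalk ξ) ∧
      Bijective (fun b : X.presheaf.stalk ξ => b • (LinearMap.id :
        ω.presheaf.stalk ξ →ₗ[X.presheaf.stalk ξ] ω.presheaf.stalk ξ))) :
    HomKey.Off (offIdeal G x) (L.presheaf.stalk x) (ω.presheaf.stalk x) := by
  have := Divis.StalkMod.finite_stalk hL x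
  have := Divis.StalkMod.finite_stalk hω x
  -- the two facts at a prime
  have key : ∀ P : PrimeSpectrum (X.presheaf.stalk x), ¬ offIdeal G x ≤ P.asIdeal →
      Nonempty (LocalizedModule P.asIdeal.primeCompl (L.presheaf.stalk x) ≃ₗ[Localization P.asIdeal.primeCompl]
        LocalizedModule P.asIdeal.primeCompl (ω.presheaf.stalk x)) ∧
      Bijective (fun a : Localization P.asIdeal.primeCompl => a •
        (LinearMap.id : LocalizedModule P.asIdeal.primeCompl (ω.presheaf.stalk x)
          →ₗ[Localization P.asIdeal.primeCompl] LocalizedModule P.asIdeal.primeCompl (ω.presheaf.stalk x))) := by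
    rw [forall_prime_iff]
    intro ξ h hP
    rw [offIdeal_le_primeOf_iff, not_not] at hP
    obtain ⟨⟨g⟩, hb⟩ := hG ξ hP h
    obtain ⟨σ, e, hσ, -, he⟩ := exists_loc_equiv L hL.1 h
    obtain ⟨σ', e', hσ', -, he'⟩ := exists_loc_equiv ω hω.1 h
    have hσσ : σ = σ' := by
      apply RingEquiv.toRingHom_injective
      apply IsLocalization.ringHom_ext (primeOf h).asIdeal.primeCompl
      ext r
      exact (hσ r).trans (hσ' r).symm
    subst hσσ
    let f : LocalizedModule (primeOf h).asIdeal.primeCompl (L.presheaf.stalk x)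
        →ₗ[Localization (primeOf h).asIdeal.primeCompl]
          LocalizedModule (primeOf h).asIdeal.primeCompl (ω.presheaf.stalk x) :=
      { toFun := fun m => e'.symm (g (e m))
        map_add' := fun a b => by rw [map_add, map_add, map_add]
        map_smul' := fun r m => by
          apply e'.injective
          rw [AddEquiv.apply_symm_apply, he, map_smul, RingHom.id_apply, he', AddEquiv.apply_symm_apply] }
    have hf : Bijective f := e'.symm.bijective.comp (g.bijective.comp e.bijective)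
    exact ⟨⟨LinearEquiv.ofBijective f hf⟩,
      end_bijective_semi σ.symm e'.symm (fun r m => symm_smul σ e' he' r m) hb⟩
  refine { inv := fun p hp hJ => ?_, scal := fun p hp hJ y => ?_, faith := fun p hp hJ b hb => ?_ }
  · obtain ⟨⟨f⟩, -⟩ := key ⟨p, hp⟩ hJ
    exact exists_inv p f
  · obtain ⟨-, h⟩ := key ⟨p, hp⟩ hJ
    exact exists_scal p h y
  · obtain ⟨-, h⟩ := key ⟨p, hp⟩ hJ
    exact exists_faith p h.1 b hb

/-- The composite of two local maps is the identity on a neighbourhood if it is so at a point. -/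
theorem exists_nhd_comp {F G : X.Modules} (hF : Coh.IsCoh F) {U : X.Opens} (g : Γ(homSh F G, U))
    (h : Γ(homSh G F, U)) (x : X) (hx : x ∈ U) (hgh : ∀ m, h.1 ⟨x, hx⟩ (g.1 ⟨x, hx⟩ m) = m) :
    ∃ (W : X.Opens) (hW : W ≤ U), x ∈ W ∧ ∀ (y : X) (hy : y ∈ W) (m : F.presheaf.stalk y),
      h.1 ⟨y, hW hy⟩ (g.1 ⟨y, hW hy⟩ m) = m := by
  obtain ⟨V, ι, _, s, hxV, hs⟩ := exists_gen F hF.2 x
  have h1 : ∀ i : ι, ∃ (W : X.Opens) (_ : W ≤ U) (hWV : W ≤ V), x ∈ W ∧ ∀ (y : X) (hy : y ∈ W),
      ∀ hyU : y ∈ U, h.1 ⟨y, hyU⟩ (g.1 ⟨y, hyU⟩ (F.presheaf.germ V y (hWV hy) (s i))) =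
        F.presheaf.germ V y (hWV hy) (s i) := by
    intro i
    let t : Γ(F, V ⊓ U) := res F inf_le_left (s i)
    let t' : Γ(F, V ⊓ U) := secMap h inf_le_right (secMap g inf_le_right t)
    have e1 : F.presheaf.germ (V ⊓ U) x ⟨hxV, hx⟩ t = F.presheaf.germ (V ⊓ U) x ⟨hxV, hx⟩ t' := by
      refine Eq.symm ((germ_secMap h inf_le_right _ x ⟨hxV, hx⟩).trans ?_)
      rw [germ_secMap]
      exact hgh _
    have hx' : x ∈ V ⊓ U := ⟨hxV, hx⟩
    obtain ⟨W, h1, h2, hxW, h3⟩ := exists_res_eq F x hx' hx' t t' e1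
    refine ⟨W, h1.trans inf_le_right, h1.trans inf_le_left, hxW, fun y hy hyU => ?_⟩
    have h4 := congrArg (F.presheaf.germ W y hy) h3
    have h5 : F.presheaf.germ W y hy (res F h1 t) = F.presheaf.germ V y (h1 hy).1 (s i) :=
      (K476.HomSh2.germ_res F h1 y hy t).trans (K476.HomSh2.germ_res F inf_le_left y (h1 hy) (s i))
    have h6 : F.presheaf.germ W y hy (res F h2 t') =
        h.1 ⟨y, hyU⟩ (g.1 ⟨y, hyU⟩ (F.presheaf.germ V y (h1 hy).1 (s i))) :=
      (K476.HomSh2.germ_res F h2 y hy t').trans ((germ_secMap h inf_le_right _ y (h1 hy)).trans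
        (congrArg (h.1 ⟨y, hyU⟩) ((germ_secMap g inf_le_right t y (h1 hy)).trans
          (congrArg (g.1 ⟨y, hyU⟩) (K476.HomSh2.germ_res F inf_le_left y (h1 hy) (s i))))))
    rw [h5, h6] at h4
    exact h4.symm
  choose W hWU hWV hxW hW using h1
  obtain ⟨Z, hxZ, hZU, hZ⟩ := K476.HomSh3.exists_common W (V ⊓ U) ⟨hxV, hx⟩ hxW
  refine ⟨Z, hZU.trans inf_le_right, hxZ, fun y hy m => ?_⟩
  have hyU : y ∈ U := (hZU hy).2
  have hyV : y ∈ V := (hZU hy).1
  have hm : m ∈ Submodule.span (X.presheaf.stalk y)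
      (Set.range fun i => F.presheaf.germ V y hyV (s i)) := by
    rw [hs y hyV]
    trivial
  induction hm using Submodule.span_induction with
  | mem m hm =>
    obtain ⟨i, rfl⟩ := hm
    exact hW i y (hZ i hy) hyU
  | zero => rw [map_zero, map_zero]
  | add a b _ _ ha hb => rw [map_add, map_add, ha, hb]
  | smul r a _ ha => rw [map_smul, map_smul, ha]

/-- The set of points where two coherent modules are isomorphic is open. -/
theorem isOpen_iso {F G : X.Modules} (hF : Coh.IsCoh F) (hG : Coh.IsCoh G) :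
    IsOpen {x : X | Nonempty (F.presheaf.stalk x ≃ₗ[X.presheaf.stalk x] G.presheaf.stalk x)} := by
  rw [isOpen_iff_forall_mem_open]
  rintro x ⟨e⟩
  obtain ⟨θ, hθ⟩ := K476.HomSh3.evalStalk_surjective F G (K476.HomSh3.isFP_of_isCoh hF) x e.toLinearMap
  obtain ⟨θ', hθ'⟩ := K476.HomSh3.evalStalk_surjective G F (K476.HomSh3.isFP_of_isCoh hG) x
    e.symm.toLinearMap
  obtain ⟨U₁, hU₁, g, rfl⟩ := (homSh F G).presheaf.exists_germ_eq θ
  obtain ⟨U₂, hU₂, h, rfl⟩ := (homSh G F).presheaf.exists_germ_eq θ'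
  let U : X.Opens := U₁ ⊓ U₂
  have hx : x ∈ U := ⟨hU₁, hU₂⟩
  let g' : Γ(homSh F G, U) := res (homSh F G) inf_le_left g
  let h' : Γ(homSh G F, U) := res (homSh G F) inf_le_right h
  rw [evalStalk_germ] at hθ hθ'
  have hg' : g'.1 ⟨x, hx⟩ = e.toLinearMap := hθ
  have hh' : h'.1 ⟨x, hx⟩ = e.symm.toLinearMap := hθ'
  obtain ⟨W₁, hW₁, hxW₁, h1⟩ := exists_nhd_comp hF g' h' x hx (fun m => by rw [hg', hh']; simp)
  obtain ⟨W₂, hW₂, hxW₂, h2⟩ := exists_nhd_comp hG h' g' x hx (fun m => by rw [hg', hh']; simp)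
  refine ⟨(W₁ ⊓ W₂ : X.Opens), fun y hy => ?_, (W₁ ⊓ W₂).isOpen, ⟨hxW₁, hxW₂⟩⟩
  exact ⟨LinearEquiv.ofLinearMap (g'.1 ⟨y, hW₁ hy.1⟩) (h'.1 ⟨y, hW₁ hy.1⟩)
    (LinearMap.ext fun m => h2 y hy.2 m) (LinearMap.ext fun m => h1 y hy.1 m)⟩

end Sch

end K968.OffData
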