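import Groth.Agent.QGor.K968.EndOmega
import Groth.Agent.QGor.K968.OffData
import Groth.Agent.QGor.K967.FibMap

/-!
# A module with dualizing restriction to a fibre: comparison with `ω` on the fibre

`ω` the relative dualizing sheaf of an `S_2`-morphism, `L` with `i^* L` dualizing on the fibre `i : Y_t → Y`.

* `exists_map`: a map `T : i^* ω → i^* L` bijective at the Cohen–Macaulay points;
* `nonempty_equiv`: `L_ξ ≃ ω_ξ` at the Cohen–Macaulay points `ξ` of `Y_t` if `L` is flat.
-/

set_option autoImplicit false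
set_option linter.style.haveILetI false
universe u

open CategoryTheory CategoryTheory.Limits AlgebraicGeometry TopologicalSpace Opposite Function

namespace K968.FibOmega

open Groth.Agent K968.GoodLoc K968.Compare2 K968.HomBC RefHull K66.StalkOff K66.FlatOff K66.Core
  K970.RelSk1 Groth.Agent.Fdesc.PullbackStalk Groth.Agent.Flat2D.FiberStalk

section Can

variable {X Z : Scheme.{u}} (i : Z ⟶ X) (F : X.Modules) (z : Z)

/-- The canonical semilinear map `F_{i z} → (i^* F)_z`. -/
noncomputable def cansl : F.presheaf.stalk (i z) →ₛₗ[(i.stalkMap z).hom]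
    ((Scheme.Modules.pullback i).obj F).presheaf.stalk z :=
  { toFun := canAdd i F z
    map_add' := map_add _
    map_smul' := fun r m => canAdd_smul i F z r m }

end Can

section Main

variable (A : Type u) [CommRing A] {Y : Scheme.{u}} [Y.Over (Spec (CommRingCat.of A))]
  (t : Spec (CommRingCat.of A))

/-- The fibre over its residue field. -/
noncomputable abbrev fibOver :
    ((Y ↘ Spec (CommRingCat.of A)).fiber t).Over (Spec (CommRingCat.of
      ((Spec (CommRingCat.of A)).residueField t))) :=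
  ⟨(Y ↘ Spec (CommRingCat.of A)).fiberToSpecResidueField t⟩

attribute [local instance] fibOver

theorem isPullback_fib : IsPullback ((Y ↘ Spec (CommRingCat.of A)).fiberι t)
    (((Y ↘ Spec (CommRingCat.of A)).fiber t) ↘ Spec (CommRingCat.of ((Spec (CommRingCat.of A)).residueField t)))
    (Y ↘ Spec (CommRingCat.of A)) ((Spec (CommRingCat.of A)).fromSpecResidueField t) :=
  IsPullback.of_hasPullback _ _

theorem isPullback_fib' : IsPullback ((Y ↘ Spec (CommRingCat.of A)).fiberι t)
    (((Y ↘ Spec (CommRingCat.of A)).fiber t) ↘ Spec (CommRingCat.of ((Spec (CommRingCat.of A)).residueField t)))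
    (Y ↘ Spec (CommRingCat.of A)) (Spec.map (K970.BCHyp.toRes t)) :=
  K970.BCHyp.isPullback_fibre _ t

variable [IsNoetherianRing A] [IsProper (Y ↘ Spec (CommRingCat.of A))] {d : ℕ}

instance isProper_fib : IsProper (((Y ↘ Spec (CommRingCat.of A)).fiber t) ↘
    Spec (CommRingCat.of ((Spec (CommRingCat.of A)).residueField t))) :=
  MorphismProperty.of_isPullback (isPullback_fib A t) inferInstance

theorem hasRelDim_fib (hd : Cyc.HasRelDim (Y ↘ Spec (CommRingCat.of A)) d) :
    Cyc.HasRelDim (((Y ↘ Spec (CommRingCat.of A)).fiber t) ↘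
      Spec (CommRingCat.of ((Spec (CommRingCat.of A)).residueField t))) d :=
  hasRelDim_bc (isPullback_fib A t) hd

theorem isSkMor_fib {k : ℕ} (hS : RelCanon.IsSkMor (Y ↘ Spec (CommRingCat.of A)) k) :
    RelCanon.IsSkMor (((Y ↘ Spec (CommRingCat.of A)).fiber t) ↘
      Spec (CommRingCat.of ((Spec (CommRingCat.of A)).residueField t))) k :=
  K970.BCHyp.isSkMor_cat (K970.BCHyp.toRes t) (isPullback_fib' A t) k hS

/-- The relative Cohen–Macaulay locus. -/
def cmOpen : Y.Opens :=
  have hN : IsNoetherianRing (CommRingCat.of A) := inferInstanceAs (IsNoetherianRing A)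
  have hlofp : LocallyOfFinitePresentation (Y ↘ Spec (CommRingCat.of A)) := lofp _
  ⟨{x : Y | MoreMor.IsCMAt (Y ↘ Spec (CommRingCat.of A)) x}, S4961.result (Y ↘ Spec (CommRingCat.of A))⟩

theorem mem_cmOpen {x : Y} : x ∈ cmOpen A (Y := Y) ↔ MoreMor.IsCMAt (Y ↘ Spec (CommRingCat.of A)) x :=
  Iff.rfl

theorem isCMAt_fib [Flat (Y ↘ Spec (CommRingCat.of A))] (z : (Y ↘ Spec (CommRingCat.of A)).fiber t) :
    MoreMor.IsCMAt (((Y ↘ Spec (CommRingCat.of A)).fiber t) ↘
      Spec (CommRingCat.of ((Spec (CommRingCat.of A)).residueField t))) z ↔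
      MoreMor.IsCMAt (Y ↘ Spec (CommRingCat.of A)) ((Y ↘ Spec (CommRingCat.of A)).fiberι t z) := by
  let f := Y ↘ Spec (CommRingCat.of A)
  have hN : IsNoetherianRing (CommRingCat.of A) := inferInstanceAs (IsNoetherianRing A)
  have hlofp : LocallyOfFinitePresentation f := lofp f
  have h1 := S1342.result f _ (f.fiberι t) ((Spec (CommRingCat.of A)).fromSpecResidueField t)
    (isPullback_fib A t)
  exact Set.ext_iff.1 h1 z

variable (hS : RelCanon.IsSkMor (Y ↘ Spec (CommRingCat.of A)) 2)
  (hd : Cyc.HasRelDim (Y ↘ Spec (CommRingCat.of A)) d)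
  {ω : Y.Modules} (hω : RelCanon.IsDualizingSheaf A Y d ω)
  {L : Y.Modules} (h2 : RelCanon.IsDualizingSheafFib (Y ↘ Spec (CommRingCat.of A)) d L t)

include hS hd hω h2

/-- The comparison map. -/
theorem exists_map :
    ∃ T : (Scheme.Modules.pullback ((Y ↘ Spec (CommRingCat.of A)).fiberι t)).obj ω ⟶
        (Scheme.Modules.pullback ((Y ↘ Spec (CommRingCat.of A)).fiberι t)).obj L,
      ∀ z : (Y ↘ Spec (CommRingCat.of A)).fiber t,
        MoreMor.IsCMAt (Y ↘ Spec (CommRingCat.of A)) ((Y ↘ Spec (CommRingCat.of A)).fiberι t z) →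
        Bijective (stalkMapₗ T z) := by
  let f := Y ↘ Spec (CommRingCat.of A)
  have hfl : Flat f := hS.1
  let κ : Type u := (Spec (CommRingCat.of A)).residueField t
  let V : Y.Opens := cmOpen A
  let V' : (f.fiber t).Opens := (f.fiberι t) ⁻¹ᵁ V
  have h1 := K967.OmegaUnit.isIso_unit κ (f.fiber t) d (fibreDimLE (hasRelDim_fib A t hd))
    ((Scheme.Modules.pullback (f.fiberι t)).obj L) h2 V' fun z hz =>
      K967.BCOmega.codim_cmLocus _ (isSkMor_fib A t hS) z fun h => hz ((isCMAt_fib A t z).1 h)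
  obtain ⟨e⟩ := Compare4.nonempty_restrict_iso A hd hω κ (isPullback_fib A t) h2 (j := V.ι) (j' := V'.ι)
    (pV := (f.fiberι t) ∣_ V) (isPullback_morphismRestrict (f.fiberι t) V) (fun x => x.2)
  let α : ((Scheme.Modules.pullback (f.fiberι t)).obj ω).restrict V'.ι ≅
      ((Scheme.Modules.pullback (f.fiberι t)).obj L).restrict V'.ι :=
    ((FormalB.PullCoh.restrictPullbackIso (f.fiberι t) V).app ω).symm ≪≫ e.symm
  obtain ⟨β, hβ⟩ := Dual.H375.StalkIso.exists_extend V'.ι h1 α.hom
  refine ⟨β, fun w hw => ?_⟩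
  have h3 := bijective_restrict_iff V'.ι β ⟨w, hw⟩
  rw [hβ] at h3
  exact h3.mp (K476.HomSh4.bijective_stalkMapₗ_of_isIso _ _)

/-- Lifting the comparison to the total space at the Cohen–Macaulay points. -/
theorem nonempty_equiv (hL : Coh.IsCoh L) (hLf : FlatMod.IsFlatOver (Y ↘ Spec (CommRingCat.of A)) L)
    (z : (Y ↘ Spec (CommRingCat.of A)).fiber t)
    (hz : MoreMor.IsCMAt (Y ↘ Spec (CommRingCat.of A)) ((Y ↘ Spec (CommRingCat.of A)).fiberι t z)) :
    Nonempty (L.presheaf.stalk ((Y ↘ Spec (CommRingCat.of A)).fiberι t z)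
      ≃ₗ[Y.presheaf.stalk ((Y ↘ Spec (CommRingCat.of A)).fiberι t z)]
        ω.presheaf.stalk ((Y ↘ Spec (CommRingCat.of A)).fiberι t z)) := by
  obtain ⟨T, hT⟩ := exists_map A t hS hd hω h2
  let f := Y ↘ Spec (CommRingCat.of A)
  let i := f.fiberι t
  have hfl : Flat f := hS.1
  have hN : IsNoetherianRing (CommRingCat.of A) := inferInstanceAs (IsNoetherianRing A)
  have hlN : IsLocallyNoetherian Y := LocallyOfFiniteType.isLocallyNoetherian f
  have hωc := K967.OmegaBasic.isCoh A Y d ω hω (fibreDimLE hd)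
  have hfin : Module.Finite (Y.presheaf.stalk (i z)) (ω.presheaf.stalk (i z)) :=
    Divis.StalkMod.finite_stalk hωc (i z)
  have hfin' : Module.Finite (Y.presheaf.stalk (i z)) (L.presheaf.stalk (i z)) :=
    Divis.StalkMod.finite_stalk hL (i z)
  letI := stalkAlg f (i z)
  letI := FlatMod.moduleStalkOver f ω (i z)
  haveI := isScalarTower f ω (i z)
  letI := FlatMod.moduleStalkOver f L (i z)
  haveI := isScalarTower f L (i z)
  haveI : IsLocalHom (algebraMap ((Spec (CommRingCat.of A)).presheaf.stalk (f (i z)))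
      (Y.presheaf.stalk (i z))) := inferInstanceAs (IsLocalHom (f.stalkMap (i z)).hom)
  haveI : Module.Flat ((Spec (CommRingCat.of A)).presheaf.stalk (f (i z))) (ω.presheaf.stalk (i z)) :=
    K967.OmegaBasic.isFlatOverAt A Y d hd ω hω (i z) hz
  haveI : Module.Flat ((Spec (CommRingCat.of A)).presheaf.stalk (f (i z))) (L.presheaf.stalk (i z)) :=
    hLf (i z)
  have hG := GoodStalk.good_dualizing ((Spec (CommRingCat.of A)).residueField t) (hasRelDim_fib A t hd)
    h2 z ((isCMAt_fib A t z).2 hz)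
  let τ : ω.presheaf.stalk (i z) →ₛₗ[(i.stalkMap z).hom]
      ((Scheme.Modules.pullback i).obj L).presheaf.stalk z := (stalkMapₗ T z).comp (cansl i ω z)
  obtain ⟨φ, -⟩ := exists_equiv (A := (Spec (CommRingCat.of A)).presheaf.stalk (f (i z)))
    (ρ := (i.stalkMap z).hom) (stalkMap_fiberι_surjective f t z) (ker_stalkMap_fiberι f t z)
    (cansl i L z) (K967.FibMap.canAdd_surjective f L t z) (K967.FibMap.canAdd_eq_zero_iff f L t z)
    τ ((hT z hz).2.comp (K967.FibMap.canAdd_surjective f ω t z)) (fun w =>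
      (map_eq_zero_iff (stalkMapₗ T z) (hT z hz).1).trans
        (K967.FibMap.canAdd_eq_zero_iff f ω t z w)) hG.2 (LinearEquiv.refl _ _)
  exact ⟨φ⟩

end Main

end K968.FibOmega
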