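import Groth.Agent.QGor.K967.DepthKit
import Mathlib.Algebra.Module.FinitePresentation
import Mathlib.RingTheory.LocalProperties.Projective

/-!
# Gluing elements of a module of depth two

* `sat p N` : the elements of `X` which lie in `N` at the prime `p`.
* `mem_of_sat` : membership can be checked off `V(J)` when `depth_J (X / N) ≥ 1`.
* `exists_glue`, `exists_glue_mod` : gluing of elements given on the complement of `V(J)` when the `J`-depth is
  at least two.
* `exists_split` : at a prime where the cokernel of `u` is free, `u` has a pseudo-inverse.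
-/

set_option autoImplicit false
universe u

open CategoryTheory

namespace K968.Glue

open Groth.Agent.Localalg.Depth Groth.Agent.Localalg.Depth2 Groth.Agent.Localalg.Depth3

section Sat

variable {R : Type*} [CommRing R] {X : Type*} [AddCommGroup X] [Module R X]

/-- The elements of `X` lying in `N` at `p`. -/
def sat (p : Ideal R) [p.IsPrime] (N : Submodule R X) : Submodule R X where
  carrier := {x | ∃ t : R, t ∉ p ∧ t • x ∈ N}
  zero_mem' := ⟨1, (Ideal.ne_top_iff_one p).1 (Ideal.IsPrime.ne_top ‹_›), by simp⟩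
  add_mem' := by
    rintro x y ⟨t, ht, hx⟩ ⟨s, hs, hy⟩
    refine ⟨t * s, fun h => (Ideal.IsPrime.mem_or_mem ‹_› h).elim ht hs, ?_⟩
    rw [smul_add]
    refine Submodule.add_mem _ ?_ ?_
    · rw [mul_comm, mul_smul]; exact N.smul_mem _ hx
    · rw [mul_smul]; exact N.smul_mem _ hy
  smul_mem' := by
    rintro c x ⟨t, ht, hx⟩
    exact ⟨t, ht, by rw [smul_comm]; exact N.smul_mem _ hx⟩

theorem mem_sat {p : Ideal R} [p.IsPrime] {N : Submodule R X} {x : X} :
    x ∈ sat p N ↔ ∃ t : R, t ∉ p ∧ t • x ∈ N := Iff.rfl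

theorem le_sat (p : Ideal R) [p.IsPrime] (N : Submodule R X) : N ≤ sat p N :=
  fun x hx => ⟨1, (Ideal.ne_top_iff_one p).1 (Ideal.IsPrime.ne_top ‹_›), by simpa using hx⟩

theorem mem_sat_of_smul {p : Ideal R} [p.IsPrime] {N : Submodule R X} {x : X} {t : R} (ht : t ∉ p)
    (h : t • x ∈ sat p N) : x ∈ sat p N := by
  obtain ⟨s, hs, hx⟩ := h
  exact ⟨s * t, fun h => (Ideal.IsPrime.mem_or_mem ‹_› h).elim hs ht, by rwa [mul_smul]⟩

theorem smul_mem_sat_iff {p : Ideal R} [p.IsPrime] {N : Submodule R X} {x : X} {t : R} (ht : t ∉ p) :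
    t • x ∈ sat p N ↔ x ∈ sat p N :=
  ⟨mem_sat_of_smul ht, fun h => Submodule.smul_mem _ _ h⟩

theorem sat_mono (p : Ideal R) [p.IsPrime] {N N' : Submodule R X} (h : N ≤ N') : sat p N ≤ sat p N' := by
  rintro x ⟨t, ht, hx⟩
  exact ⟨t, ht, h hx⟩

theorem sat_sat (p : Ideal R) [p.IsPrime] (N : Submodule R X) : sat p (sat p N) = sat p N := by
  refine le_antisymm ?_ (le_sat _ _)
  rintro x ⟨t, ht, hx⟩
  exact mem_sat_of_smul ht hx

theorem map_mem_sat {Y : Type*} [AddCommGroup Y] [Module R Y] (f : X →ₗ[R] Y) {p : Ideal R} [p.IsPrime]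
    {N : Submodule R X} {N' : Submodule R Y} (h : ∀ x ∈ N, f x ∈ N') {x : X} (hx : x ∈ sat p N) :
    f x ∈ sat p N' := by
  obtain ⟨t, ht, hx⟩ := hx
  exact ⟨t, ht, by rw [← map_smul]; exact h _ hx⟩

/-- If `p` does not contain `𝔫` then everything lies in `sat p (𝔫 ^ n X)`. -/
theorem mem_sat_of_not_le {p : Ideal R} [p.IsPrime] {𝔫 : Ideal R} (h : ¬ 𝔫 ≤ p) (n : ℕ)
    {N : Submodule R X} (hN : 𝔫 ^ n • (⊤ : Submodule R X) ≤ N) (x : X) : x ∈ sat p N := by
  obtain ⟨a, ha, hap⟩ := SetLike.not_le_iff_exists.1 h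
  exact ⟨a ^ n, fun h => hap (Ideal.IsPrime.mem_of_pow_mem ‹_› _ h),
    hN (Submodule.smul_mem_smul (Ideal.pow_mem_pow ha n) Submodule.mem_top)⟩

end Sat

section Depth

variable {R : Type u} [CommRing R] [IsNoetherianRing R]

/-- `depth_J (X / N) ≥ 1`: membership in `N` can be checked off `V(J)`. -/
theorem mem_of_sat {J : Ideal R} {X : Type u} [AddCommGroup X] [Module R X] [Module.Finite R X]
    {N : Submodule R X} (h1 : 1 ≤ LocCoh.idealDepth J (X ⧸ N)) {x : X}
    (h : ∀ (p : Ideal R) [p.IsPrime], ¬ J ≤ p → x ∈ sat p N) : x ∈ N := by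
  rw [← Submodule.Quotient.mk_eq_zero]
  set xb : X ⧸ N := Submodule.Quotient.mk x with hxb
  have hs : Module.support R (R ∙ xb) ⊆ PrimeSpectrum.zeroLocus (J : Set R) := by
    intro p hp
    rw [PrimeSpectrum.mem_zeroLocus]
    by_contra hJ
    obtain ⟨t, ht, htx⟩ := h p.asIdeal hJ
    rw [Module.mem_support_iff'] at hp
    obtain ⟨⟨m, hm⟩, hm'⟩ := hp
    apply hm' t ht
    obtain ⟨r, rfl⟩ := Submodule.mem_span_singleton.1 hm
    ext
    change t • r • xb = 0
    rw [smul_comm, hxb, ← Submodule.Quotient.mk_smul, (Submodule.Quotient.mk_eq_zero N).2 htx, smul_zero]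
  have := K967.DepthKit.linearMap_eq_zero hs h1 (R ∙ xb).subtype
  exact LinearMap.congr_fun this ⟨xb, Submodule.mem_span_singleton_self xb⟩

theorem le_idealDepth_of_forall {I J : Ideal R} (h : ∀ (p : Ideal R) [p.IsPrime], I ≤ p → J ≤ p)
    {X : Type u} [AddCommGroup X] [Module R X] [Module.Finite R X] {n : ℕ}
    (hX : (n : ℕ∞) ≤ LocCoh.idealDepth J X) : (n : ℕ∞) ≤ LocCoh.idealDepth I X := by
  rw [K967.DepthKit.natCast_le_idealDepth_iff_forall] at hX ⊢
  intro p _ hp
  exact hX p (h p hp)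

/-- Gluing: `depth_J K ≥ 2`, elements `f i` with `V({f i}) ⊆ V(J)` and compatible `z i : K` with
`f j • z i = f i • z j` are of the form `z i = f i • s`. -/
theorem exists_glue {J : Ideal R} {K : Type u} [AddCommGroup K] [Module R K] [Module.Finite R K]
    (hK : 2 ≤ LocCoh.idealDepth J K) {ι : Type u} (f : ι → R) (z : ι → K)
    (hV : ∀ (p : Ideal R) [p.IsPrime], ¬ J ≤ p → ∃ i, f i ∉ p)
    (hc : ∀ i j, f j • z i = f i • z j) : ∃ s : K, ∀ i, f i • s = z i := by
  let F : (ι →₀ R) →ₗ[R] R := Finsupp.linearCombination R f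
  let Z : (ι →₀ R) →ₗ[R] K := Finsupp.linearCombination R z
  let I : Ideal R := LinearMap.range F
  have hfI : ∀ i, f i ∈ I := fun i => ⟨Finsupp.single i 1, by simp [F]⟩
  have hI : ∀ (p : Ideal R) [p.IsPrime], I ≤ p → J ≤ p := by
    intro p _ hp
    by_contra hJ
    obtain ⟨i, hi⟩ := hV p hJ
    exact hi (hp (hfI i))
  have h2 : 2 ≤ LocCoh.idealDepth I K := by
    have := le_idealDepth_of_forall hI (X := K) (n := 2) (by exact_mod_cast hK)
    exact_mod_cast this
  obtain ⟨h1, h2'⟩ := (K967.DepthKit.two_le_iff_forall_exists (I := I) K).1 h2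
  rw [K967.DepthKit.one_le_iff_forall_eq_zero] at h1
  have key : ∀ (c : ι →₀ R) (j : ι), f j • Z c = F c • z j := by
    intro c j
    induction c using Finsupp.induction_linear with
    | zero => simp
    | add c d hc hd => rw [map_add, smul_add, hc, hd, map_add, add_smul]
    | single i r =>
      simp only [Z, F, Finsupp.linearCombination_single, smul_eq_mul]
      rw [smul_comm, hc i j, mul_smul]
  have hker : LinearMap.ker F ≤ LinearMap.ker Z := by
    intro c hc'
    rw [LinearMap.mem_ker] at hc' ⊢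
    apply h1
    rintro _ ⟨d, rfl⟩
    have h3 : ∀ d : ι →₀ R, F d • Z c = 0 := by
      intro d
      induction d using Finsupp.induction_linear with
      | zero => simp
      | add a b ha hb => rw [map_add, add_smul, ha, hb, add_zero]
      | single i r =>
        simp only [F, Finsupp.linearCombination_single, smul_eq_mul]
        rw [mul_smul, key c i, hc', zero_smul, smul_zero]
    exact h3 d
  let φ : I →ₗ[R] K := ((LinearMap.ker F).liftQ Z hker) ∘ₗ F.quotKerEquivRange.symm.toLinearMap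
  have hφ : ∀ c : ι →₀ R, φ ⟨F c, c, rfl⟩ = Z c := by
    intro c
    have h4 : F.quotKerEquivRange.symm ⟨F c, c, rfl⟩ = Submodule.Quotient.mk c := by
      rw [LinearEquiv.symm_apply_eq]
      rfl
    change ((LinearMap.ker F).liftQ Z hker) (F.quotKerEquivRange.symm ⟨F c, c, rfl⟩) = Z c
    rw [h4]
    rfl
  obtain ⟨s, hs⟩ := h2' φ
  refine ⟨s, fun i => ?_⟩
  have h5 := hφ (Finsupp.single i 1)
  rw [hs] at h5
  simpa [F, Z] using h5

/-- Gluing modulo submodules, inside a kernel. -/
theorem exists_glue_mod {J : Ideal R} {E0 E1 : Type u} [AddCommGroup E0] [Module R E0]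
    [Module.Finite R E0] [AddCommGroup E1] [Module R E1] [Module.Finite R E1] (u : E0 →ₗ[R] E1)
    {N0 : Submodule R E0} {N1 : Submodule R E1} (hN : ∀ x ∈ N0, u x ∈ N1)
    (h0 : 2 ≤ LocCoh.idealDepth J (E0 ⧸ N0)) (h1 : 1 ≤ LocCoh.idealDepth J (E1 ⧸ N1))
    {ι : Type u} (f : ι → R) (z : ι → E0) (hz : ∀ i, u (z i) ∈ N1)
    (hV : ∀ (p : Ideal R) [p.IsPrime], ¬ J ≤ p → ∃ i, f i ∉ p)
    (hc : ∀ i j, f j • z i - f i • z j ∈ N0) :
    ∃ s : E0, u s ∈ N1 ∧ ∀ i, f i • s - z i ∈ N0 := by
  obtain ⟨s, hs⟩ := exists_glue h0 f (fun i => (Submodule.Quotient.mk (z i) : E0 ⧸ N0)) hV (by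
    intro i j
    rw [← Submodule.Quotient.mk_smul, ← Submodule.Quotient.mk_smul, Submodule.Quotient.eq]
    exact hc i j)
  obtain ⟨s, rfl⟩ := Submodule.mkQ_surjective _ s
  have hs' : ∀ i, f i • s - z i ∈ N0 := by
    intro i
    have := hs i
    rwa [Submodule.mkQ_apply, ← Submodule.Quotient.mk_smul, Submodule.Quotient.eq] at this
  refine ⟨s, ?_, hs'⟩
  apply mem_of_sat h1
  intro p _ hp
  obtain ⟨i, hi⟩ := hV p hp
  refine ⟨f i, hi, ?_⟩
  have h2 := hN _ (hs' i)
  rw [map_sub, map_smul] at h2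
  have h3 := Submodule.add_mem _ h2 (hz i)
  simpa using h3

/-- An element of `R` which is a unit modulo `𝔫` off `V(J)` is a unit modulo `𝔫` if `depth_J (R / 𝔫) ≥ 2`. -/
theorem exists_inv_mod {J : Ideal R} {𝔫 : Ideal R} (h2 : 2 ≤ LocCoh.idealDepth J (R ⧸ 𝔫)) {c : R}
    (hc : ∀ (p : Ideal R) [p.IsPrime], ¬ J ≤ p → 𝔫 ≤ p → c ∉ p) : ∃ s : R, c * s - 1 ∈ 𝔫 := by
  -- family `f z = c z` or `z ∈ 𝔫`, values `z`
  obtain ⟨s, hs⟩ := exists_glue h2 (ι := R × 𝔫)
    (fun i => c * i.1 + i.2) (fun i => (Ideal.Quotient.mk 𝔫 i.1 : R ⧸ 𝔫)) (by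
      intro p hp hJ
      by_cases h : 𝔫 ≤ p
      · refine ⟨(1, 0), ?_⟩
        simpa using hc p hJ h
      · obtain ⟨a, ha, hap⟩ := SetLike.not_le_iff_exists.1 h
        exact ⟨(0, ⟨a, ha⟩), by simpa using hap⟩)
    (by
      rintro ⟨i, i'⟩ ⟨j, j'⟩
      have hi : Ideal.Quotient.mk 𝔫 (i' : R) = 0 := Ideal.Quotient.eq_zero_iff_mem.2 i'.2
      have hj : Ideal.Quotient.mk 𝔫 (j' : R) = 0 := Ideal.Quotient.eq_zero_iff_mem.2 j'.2
      simp only [Algebra.smul_def, Ideal.Quotient.algebraMap_eq, map_add, map_mul, hi, hj]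
      ring)
  obtain ⟨s, rfl⟩ := Ideal.Quotient.mk_surjective s
  refine ⟨s, ?_⟩
  have h3 := hs (1, 0)
  simp only [Algebra.smul_def, Ideal.Quotient.algebraMap_eq, Submodule.coe_zero,
    mul_one, add_zero, map_one] at h3
  rw [← Ideal.Quotient.eq_zero_iff_mem, map_sub, map_mul, h3, map_one, sub_self]

end Depth

section Split

variable {R : Type u} [CommRing R]

/-- A surjection onto a module which is projective at `p` splits at `p`. -/
theorem exists_section {X Y : Type u} [AddCommGroup X] [Module R X] [Module.FinitePresentation R X]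
    [AddCommGroup Y] [Module R Y] (π : Y →ₗ[R] X) (hπ : Function.Surjective π) (p : Ideal R)
    [p.IsPrime] (hp : Module.Projective (Localization.AtPrime p) (LocalizedModule p.primeCompl X)) :
    ∃ (s : X →ₗ[R] Y) (t : R), t ∉ p ∧ ∀ x, π (s x) = t • x := by
  let πp := LocalizedModule.map p.primeCompl π
  have hπp : Function.Surjective πp := by
    exact LocalizedModule.map_surjective p.primeCompl π hπ
  obtain ⟨τ, hτ⟩ := Module.projective_lifting_property πp LinearMap.id hπp
  let mkX := LocalizedModule.mkLinearMap p.primeCompl X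
  let mkY := LocalizedModule.mkLinearMap p.primeCompl Y
  let g : X →ₗ[R] LocalizedModule p.primeCompl Y := (τ.restrictScalars R) ∘ₗ mkX
  obtain ⟨h, s, hs⟩ := Module.FinitePresentation.exists_lift_of_isLocalizedModule p.primeCompl mkY g
  have hfin : Module.Finite R X := inferInstance
  have h1 : mkX ∘ₗ (π ∘ₗ h) = mkX ∘ₗ ((s : R) • LinearMap.id) := by
    ext x
    have h2 : mkY (h x) = s • g x := LinearMap.congr_fun hs x
    have h3 : mkX (π (h x)) = πp (mkY (h x)) := by
      change _ = LocalizedModule.map p.primeCompl π (LocalizedModule.mk _ 1)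
      rw [LocalizedModule.map_mk]
      rfl
    have h5 : πp (s • g x) = s • πp (g x) := by
      change πp ((s : R) • g x) = (s : R) • πp (g x)
      exact LinearMap.map_smul (πp.restrictScalars R) (s : R) (g x)
    have h4 : πp (g x) = mkX x := LinearMap.congr_fun hτ (mkX x)
    simp only [LinearMap.comp_apply, LinearMap.smul_apply, LinearMap.id_apply]
    rw [h3, h2, h5, h4, map_smul]
    rfl
  obtain ⟨s', hs'⟩ := Module.Finite.exists_smul_of_comp_eq_of_isLocalizedModule p.primeCompl mkX _ _ h1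
  refine ⟨(s' : R) • h, s' * s, ?_, fun x => ?_⟩
  · exact (s' * s).2
  · have := LinearMap.congr_fun hs' x
    simp only [LinearMap.smul_apply, LinearMap.comp_apply, LinearMap.id_apply] at this
    rw [LinearMap.smul_apply, map_smul, mul_smul]
    exact this

/-- At a prime at which `coker u` is free, `u` has a pseudo-inverse. -/
theorem exists_split [IsNoetherianRing R] {E0 E1 : Type u} [AddCommGroup E0] [Module R E0]
    [Module.Finite R E0] [AddCommGroup E1] [Module R E1] [Module.Finite R E1] [Module.Free R E1]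
    (u : E0 →ₗ[R] E1) (p : Ideal R) [p.IsPrime]
    (hp : Module.Free (Localization.AtPrime p) (LocalizedModule p.primeCompl (E1 ⧸ LinearMap.range u))) :
    ∃ (σ : E1 →ₗ[R] E0) (t : R), t ∉ p ∧ ∀ x, u (σ (u x)) = t • u x := by
  have : Module.FinitePresentation R (E1 ⧸ LinearMap.range u) :=
    Module.finitePresentation_of_finite R _
  obtain ⟨s, t₁, ht₁, hs⟩ := exists_section (LinearMap.range u).mkQ (Submodule.mkQ_surjective _) p
    inferInstance
  have hr : ∀ x, (t₁ • LinearMap.id - s ∘ₗ (LinearMap.range u).mkQ : E1 →ₗ[R] E1) x ∈ LinearMap.range u := by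
    intro x
    rw [← Submodule.Quotient.mk_eq_zero]
    change (LinearMap.range u).mkQ _ = 0
    simp only [LinearMap.sub_apply, LinearMap.smul_apply, LinearMap.id_apply, LinearMap.comp_apply]
    rw [map_sub, map_smul, hs, sub_self]
  let w : E1 →ₗ[R] LinearMap.range u := LinearMap.codRestrict _ _ hr
  have hw : ∀ x : LinearMap.range u, w x = t₁ • x := by
    intro x
    ext
    change (t₁ • LinearMap.id - s ∘ₗ (LinearMap.range u).mkQ : E1 →ₗ[R] E1) (x : E1) = t₁ • (x : E1)
    have : (LinearMap.range u).mkQ (x : E1) = 0 := (Submodule.Quotient.mk_eq_zero _).2 x.2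
    simp only [LinearMap.sub_apply, LinearMap.smul_apply, LinearMap.id_apply, LinearMap.comp_apply]
    rw [this, map_zero, sub_zero]
  -- `range u` is projective at `p`
  have hproj : Module.Projective (Localization.AtPrime p)
      (LocalizedModule p.primeCompl (LinearMap.range u)) := by
    let i := LocalizedModule.map p.primeCompl (LinearMap.range u).subtype
    let wp := LocalizedModule.map p.primeCompl w
    have hu : IsUnit (algebraMap R (Localization.AtPrime p) t₁) :=
      IsLocalization.map_units (Localization.AtPrime p) (⟨t₁, ht₁⟩ : p.primeCompl)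
    obtain ⟨v, hv⟩ := hu
    have hfree : Module.Projective (Localization.AtPrime p) (LocalizedModule p.primeCompl E1) :=
      Module.projective_of_isLocalizedModule p.primeCompl (LocalizedModule.mkLinearMap p.primeCompl E1)
    refine Module.Projective.of_split (M := LocalizedModule p.primeCompl E1) i
      ((↑v⁻¹ : Localization.AtPrime p) • wp) ?_
    ext x
    induction x using LocalizedModule.induction_on with
    | h x r =>
      simp only [LinearMap.comp_apply, LinearMap.smul_apply, LinearMap.id_apply, i, wp,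
        LocalizedModule.map_mk]
      rw [Submodule.subtype_apply, hw]
      have : LocalizedModule.mk (t₁ • x) r = algebraMap R (Localization.AtPrime p) t₁ •
          LocalizedModule.mk x r := by
        rw [algebraMap_smul, LocalizedModule.smul'_mk]
      rw [this, ← hv, smul_smul, Units.inv_mul, one_smul]
  have : Module.FinitePresentation R (LinearMap.range u) :=
    Module.finitePresentation_of_finite R _
  obtain ⟨s', t₂, ht₂, hs'⟩ := exists_section u.rangeRestrict (LinearMap.surjective_rangeRestrict u) p hproj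
  refine ⟨s' ∘ₗ w, t₂ * t₁, fun h => (Ideal.IsPrime.mem_or_mem ‹_› h).elim ht₂ ht₁, fun x => ?_⟩
  have h1 := hw (u.rangeRestrict x)
  have h2 := congrArg Subtype.val (hs' (w (u x)))
  change u (s' (w (u x))) = _
  have h3 : (u.rangeRestrict (s' (w (u x))) : E1) = u (s' (w (u x))) := rfl
  rw [← h3, h2]
  have h4 : w (u x) = t₁ • u.rangeRestrict x := h1
  rw [h4, smul_smul]
  rfl

end Split

end K968.Glue
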