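import Groth.Agent.QGor.K968.HomBC2
import Groth.Agent.QGor.K968.GoodLoc

/-!
# Base change of homomorphisms: the kernel of reduction

* `hext` : maps from the first syzygy into `W / m_A W` extend, if `ExtZero R0 Ω Ω'`;
* `mem_smul_hom` : `Hom(Λ, 𝔫 W) = 𝔫 Hom(Λ, W)`;
* `bijective_end` : `B → End(W)` is bijective if it is so on the closed fibre, and `Ext^1(Ω, Ω) = 0`.
-/

set_option autoImplicit false
universe u

open TensorProduct

namespace K968.HomBC3

open Function K968.LiftCrit K968.HomBC K968.GoodLoc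

variable {A B : Type u} [CommRing A] [CommRing B] [IsNoetherianRing A] [IsNoetherianRing B]
  [IsLocalRing A] [IsLocalRing B] [Algebra A B] [IsLocalHom (algebraMap A B)]
  {R0 : Type u} [CommRing R0] {ρ : B →+* R0} (hρ : Surjective ρ) (hker : RingHom.ker ρ = EGA4.mB A B)
  {Λ W Ω Ω' : Type u} [AddCommGroup Λ] [Module B Λ] [Module A Λ] [IsScalarTower A B Λ] [Module.Flat A Λ]
  [Module.Finite B Λ] [AddCommGroup W] [Module B W] [Module A W] [IsScalarTower A B W]
  [Module.Finite B W] [Module.Flat A W]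
  [AddCommGroup Ω] [Module R0 Ω] [AddCommGroup Ω'] [Module R0 Ω']
  (σ : Λ →ₛₗ[ρ] Ω) (hσ : Surjective σ)
  (hσk : ∀ l, σ l = 0 ↔ l ∈ (EGA4.mB A B • (⊤ : Submodule B Λ)))
  (τ : W →ₛₗ[ρ] Ω') (hτ : Surjective τ)
  (hτk : ∀ w, τ w = 0 ↔ w ∈ (EGA4.mB A B • (⊤ : Submodule B W)))

include hρ hker hσ hσk hτ hτk in
/-- Maps from the first syzygy extend. -/
theorem hext (hE : ExtZero R0 Ω Ω') {n : ℕ} (π : (Fin n → B) →ₗ[B] Λ) (hπ : Surjective π)
    (x : LinearMap.ker π →ₗ[B] (W ⧸ (EGA4.mB A B • (⊤ : Submodule B W)))) :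
    ∃ y : (Fin n → B) →ₗ[B] (W ⧸ (EGA4.mB A B • (⊤ : Submodule B W))),
      ∀ k : LinearMap.ker π, x k = y k := by
  -- `τ` modulo `((EGA4.mB A B) • (⊤ : Submodule B W))`
  have hτN : ∀ w, τ w = 0 ↔ w ∈ ((EGA4.mB A B) • (⊤ : Submodule B W)) := hτk
  obtain ⟨ε, hε⟩ := hτ.hasRightInverse
  have hτε : ∀ (w : W), (Submodule.Quotient.mk (ε (τ w)) : W ⧸ ((EGA4.mB A B) • (⊤ : Submodule B W))) = Submodule.Quotient.mk w := by
    intro w
    rw [Submodule.Quotient.eq, ← hτN, map_sub, hε, sub_self]
  -- the map on `W / ((EGA4.mB A B) • (⊤ : Submodule B W))`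
  let τb : (W ⧸ ((EGA4.mB A B) • (⊤ : Submodule B W))) → Ω' := Quotient.lift τ (by
    intro a b hab
    have : a - b ∈ ((EGA4.mB A B) • (⊤ : Submodule B W)) := (Submodule.quotientRel_def ((EGA4.mB A B) • (⊤ : Submodule B W))).1 hab
    rw [← hτN, map_sub, sub_eq_zero] at this
    exact this)
  have hτb : ∀ w, τb (Submodule.Quotient.mk w) = τ w := fun w => rfl
  have hτb_add : ∀ a b, τb (a + b) = τb a + τb b := by
    intro a b
    obtain ⟨a, rfl⟩ := Submodule.Quotient.mk_surjective _ a
    obtain ⟨b, rfl⟩ := Submodule.Quotient.mk_surjective _ b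
    rw [← Submodule.Quotient.mk_add, hτb, hτb, hτb, map_add]
  have hτb_smul : ∀ (r : B) a, τb (r • a) = ρ r • τb a := by
    intro r a
    obtain ⟨a, rfl⟩ := Submodule.Quotient.mk_surjective _ a
    rw [← Submodule.Quotient.mk_smul, hτb, hτb, map_smulₛₗ]
  have hτb_zero : τb 0 = 0 := by
    have := hτb 0
    rw [map_zero] at this
    exact this
  have hτb_inj : ∀ a b, τb a = τb b → a = b := by
    intro a b hab
    obtain ⟨a, rfl⟩ := Submodule.Quotient.mk_surjective _ a
    obtain ⟨b, rfl⟩ := Submodule.Quotient.mk_surjective _ b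
    rw [hτb, hτb] at hab
    rw [Submodule.Quotient.eq, ← hτN, map_sub, hab, sub_self]
  -- the inverse as a function
  let κ : Ω' → (W ⧸ ((EGA4.mB A B) • (⊤ : Submodule B W))) := fun o => Submodule.Quotient.mk (ε o)
  have hκ : ∀ o, τb (κ o) = o := fun o => hε o
  -- the presentation over `R0`
  let π0 : (Fin n → R0) →ₗ[R0] Ω := Fintype.linearCombination R0 (fun i => σ (π (Pi.single i 1)))
  have hπ0 : ∀ c : Fin n → B, π0 (fun i => ρ (c i)) = σ (π c) := by
    intro c
    have h1 : c = ∑ i, c i • (Pi.single i 1 : Fin n → B) := by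
      ext j
      simp [Finset.sum_apply, Pi.single_apply]
    conv_rhs => rw [h1]
    rw [map_sum, map_sum]
    simp only [π0, Fintype.linearCombination_apply]
    refine Finset.sum_congr rfl fun i _ => ?_
    rw [map_smul, map_smulₛₗ]
  have hπ0s : Surjective π0 := by
    intro o
    obtain ⟨l, rfl⟩ := hσ o
    obtain ⟨c, rfl⟩ := hπ l
    exact ⟨_, hπ0 c⟩
  have hmem : ∀ (r : B) (x : W ⧸ ((EGA4.mB A B) • (⊤ : Submodule B W))), r ∈ (EGA4.mB A B) → r • x = 0 := by
    intro r x hr
    apply hτb_inj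
    rw [hτb_smul, hτb_zero]
    have : ρ r = 0 := by
      rw [← RingHom.mem_ker, hker]
      exact hr
    rw [this, zero_smul]
  -- elements of `ker π0` lift to `ker π`
  have hlift : ∀ k0 : LinearMap.ker π0, ∃ c : LinearMap.ker π, ∀ i, ρ ((c : Fin n → B) i) = (k0 : Fin n → R0) i := by
    rintro ⟨k0, hk0⟩
    choose c hc using fun i => hρ (k0 i)
    have h1 : σ (π c) = 0 := by
      rw [← hπ0]
      have : (fun i => ρ (c i)) = k0 := funext hc
      rw [this]
      exact hk0
    rw [hσk] at h1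
    have h2 : ((EGA4.mB A B) • (⊤ : Submodule B (Fin n → B))).map π = (EGA4.mB A B) • (⊤ : Submodule B Λ) := by
      rw [Submodule.map_smul'', Submodule.map_top, LinearMap.range_eq_top.2 hπ]
    rw [← h2] at h1
    obtain ⟨c', hc', hcc⟩ := h1
    refine ⟨⟨c - c', by rw [LinearMap.mem_ker, map_sub, hcc, sub_self]⟩, fun i => ?_⟩
    have h3 : ρ (c' i) = 0 := by
      rw [← RingHom.mem_ker, hker]
      have h4 : (LinearMap.proj i : (Fin n → B) →ₗ[B] B) c' ∈
        ((EGA4.mB A B) • (⊤ : Submodule B (Fin n → B))).map (LinearMap.proj i) := Submodule.mem_map_of_mem hc'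
      rw [Submodule.map_smul''] at h4
      have h5 := (Submodule.smul_mono le_rfl le_top h4 : c' i ∈ (EGA4.mB A B) • (⊤ : Submodule B B))
      simpa using h5
    change ρ (c i - c' i) = k0 i
    rw [map_sub, h3, sub_zero, hc]
  -- `ker π ∩ (EGA4.mB A B) B^n = (EGA4.mB A B) ker π`
  have hzero : ∀ (x : LinearMap.ker π →ₗ[B] (W ⧸ ((EGA4.mB A B) • (⊤ : Submodule B W)))) (c : LinearMap.ker π),
      (∀ i, ρ ((c : Fin n → B) i) = 0) → x c = 0 := by
    intro x c hc
    have h1 : (c : Fin n → B) ∈ ((EGA4.mB A B) • (⊤ : Submodule B (Fin n → B))) := by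
      apply mem_smul_pi
      intro i
      have : (c : Fin n → B) i ∈ (EGA4.mB A B) := by
        have := hc i
        rwa [← RingHom.mem_ker, hker] at this
      simpa using this
    have h2 := mem_smul_ker (A := A) π hπ (IsLocalRing.maximalIdeal A) h1 c.2
    have h3 : ((EGA4.mB A B) • (⊤ : Submodule B (LinearMap.ker π))).map (LinearMap.ker π).subtype =
        (EGA4.mB A B) • LinearMap.ker π := by
      rw [Submodule.map_smul'', Submodule.map_top, Submodule.range_subtype]
    change (c : Fin n → B) ∈ (EGA4.mB A B) • LinearMap.ker π at h2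
    rw [← h3] at h2
    obtain ⟨c', hc', hcc⟩ := h2
    have hcc' : c' = c := Subtype.ext hcc
    rw [hcc'] at hc'
    refine Submodule.smul_induction_on hc' (fun r hr m _ => ?_) (fun a b ha hb => ?_)
    · rw [map_smul]
      exact hmem r _ hr
    · rw [map_add, ha, hb, add_zero]
  choose L hL using hlift
  have hx : ∀ c c' : LinearMap.ker π, (∀ i, ρ ((c : Fin n → B) i) = ρ ((c' : Fin n → B) i)) → x c = x c' := by
    intro c c' h
    rw [← sub_eq_zero, ← map_sub]
    apply hzero
    intro i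
    change ρ ((c : Fin n → B) i - (c' : Fin n → B) i) = 0
    rw [map_sub, h i, sub_self]
  let x0 : LinearMap.ker π0 →ₗ[R0] Ω' :=
    { toFun := fun k => τb (x (L k))
      map_add' := fun a b => by
        rw [← hτb_add, ← map_add]
        congr 1
        apply hx
        intro i
        rw [hL]
        change (a : Fin n → R0) i + (b : Fin n → R0) i = ρ ((L a : Fin n → B) i + (L b : Fin n → B) i)
        rw [map_add, hL, hL]
      map_smul' := fun r a => by
        obtain ⟨r, rfl⟩ := hρ r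
        rw [RingHom.id_apply, ← hτb_smul, ← map_smul]
        congr 1
        apply hx
        intro i
        rw [hL]
        change ρ r • (a : Fin n → R0) i = ρ (r • (L a : Fin n → B) i)
        rw [smul_eq_mul, smul_eq_mul, map_mul, hL] }
  obtain ⟨y0, hy0⟩ := hE n π0 hπ0s x0
  let y : (Fin n → B) →ₗ[B] (W ⧸ ((EGA4.mB A B) • (⊤ : Submodule B W))) :=
    { toFun := fun c => κ (y0 (fun i => ρ (c i)))
      map_add' := fun a b => by
        apply hτb_inj
        rw [hτb_add, hκ, hκ, hκ, ← map_add]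
        congr 1
        funext i
        simp
      map_smul' := fun r a => by
        apply hτb_inj
        rw [RingHom.id_apply, hτb_smul, hκ, hκ, ← map_smul]
        congr 1
        funext i
        simp }
  refine ⟨y, fun k => ?_⟩
  apply hτb_inj
  change _ = τb (κ (y0 (fun i => ρ ((k : Fin n → B) i))))
  have hkk : (fun i => ρ ((k : Fin n → B) i)) ∈ LinearMap.ker π0 := by
    rw [LinearMap.mem_ker, hπ0, LinearMap.mem_ker.1 k.2, map_zero]
  rw [hκ, ← hy0 ⟨_, hkk⟩]
  change τb (x k) = τb (x (L ⟨_, hkk⟩))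
  congr 1
  apply hx
  intro i
  rw [hL]

omit [IsNoetherianRing A] [IsNoetherianRing B] [IsLocalRing B] [IsLocalHom (algebraMap A B)]
  [Module A W] [IsScalarTower A B W] [Module.Flat A W] [Module.Finite B W] in
theorem mem_smul_fun {l : ℕ} {x : Fin l → W} (h : x ∈ (EGA4.mB A B • (⊤ : Submodule B (Fin l → W))))
    (j : Fin l) : x j ∈ (EGA4.mB A B • (⊤ : Submodule B W)) := by
  have h1 : (LinearMap.proj j : (Fin l → W) →ₗ[B] W) x ∈
    (EGA4.mB A B • (⊤ : Submodule B (Fin l → W))).map (LinearMap.proj j) := Submodule.mem_map_of_mem h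
  rw [Submodule.map_smul''] at h1
  exact Submodule.smul_mono le_rfl le_top h1

section Ker

variable {C0 C1 C2 : Type u} [AddCommGroup C0] [Module B C0] [Module A C0] [IsScalarTower A B C0]
  [AddCommGroup C1] [Module B C1] [Module A C1] [IsScalarTower A B C1] [Module.Finite B C1] [Module.Flat A C1]
  [AddCommGroup C2] [Module B C2] [Module A C2] [IsScalarTower A B C2] [Module.Finite B C2]
  [Module.Flat A C2] (d0 : C0 →ₗ[B] C1) (d1 : C1 →ₗ[B] C2)

/-- A complex exact in the middle modulo `m_A`: cocycles of degree `0` in `𝔫 C0` are in `𝔫 Z0`. -/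
theorem mem_smul_ker_complex (hd : ∀ z, d1 (d0 z) = 0)
    (h : ∀ x : C1, d1 x ∈ (EGA4.mB A B • (⊤ : Submodule B C2)) →
      ∃ z : C0, x - d0 z ∈ (EGA4.mB A B • (⊤ : Submodule B C1)))
    (z : C0) (hz : z ∈ (EGA4.mB A B • (⊤ : Submodule B C0))) (hz0 : d0 z = 0) :
    z ∈ (EGA4.mB A B • LinearMap.ker d0) := by
  let w : (C1 ⧸ LinearMap.range d0) →ₗ[B] C2 := (LinearMap.range d0).liftQ d1 (by
    rintro _ ⟨z, rfl⟩
    exact hd z)
  let v : C1 →ₗ[B] (C1 ⧸ LinearMap.range d0) := (LinearMap.range d0).mkQ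
  have hw : ∀ q : (C1 ⧸ LinearMap.range d0), w q ∈ (EGA4.mB A B • (⊤ : Submodule B C2)) →
      q ∈ (EGA4.mB A B • (⊤ : Submodule B (C1 ⧸ LinearMap.range d0))) := by
    intro q hq
    obtain ⟨x, rfl⟩ := Submodule.mkQ_surjective _ q
    obtain ⟨z, hz⟩ := h x hq
    have h1 : v (x - d0 z) ∈ (EGA4.mB A B • (⊤ : Submodule B C1)).map v := Submodule.mem_map_of_mem hz
    rw [Submodule.map_smul''] at h1
    have h2 : v (x - d0 z) = v x := by
      rw [map_sub, sub_eq_self]
      exact (Submodule.Quotient.mk_eq_zero _).2 ⟨z, rfl⟩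
    rw [h2] at h1
    exact Submodule.smul_mono le_rfl le_top h1
  have hinj := injective_of_fibre w hw
  have hR := flat_range w hw
  have : Module.Flat A (C1 ⧸ LinearMap.range d0) :=
    Module.Flat.of_linearEquiv ((LinearEquiv.ofInjective w hinj).restrictScalars A)
  have : Module.Flat A (LinearMap.range d0) :=
    LocKey.flat_of_exact ((LinearMap.range d0).subtype.restrictScalars A)
      ((LinearMap.range d0).mkQ.restrictScalars A) (Submodule.mkQ_surjective _)
      (Submodule.subtype_injective _) (LinearMap.exact_subtype_mkQ _)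
  have h1 := mem_smul_ker (A := A) d0.rangeRestrict d0.surjective_rangeRestrict
    (IsLocalRing.maximalIdeal A) (x := z) hz (by ext; exact hz0)
  rwa [LinearMap.ker_rangeRestrict] at h1

end Ker

omit [Module A Λ] [IsScalarTower A B Λ] [Module.Flat A Λ] [Module.Finite B Λ] in
/-- `Hom(Λ, 𝔫 W) = 𝔫 Hom(Λ, W)`. -/
theorem mem_smul_hom' {n : ℕ} (π : (Fin n → B) →ₗ[B] Λ) (hπ : Surjective π)
    (hext : ∀ x : LinearMap.ker π →ₗ[B] (W ⧸ (EGA4.mB A B • (⊤ : Submodule B W))),
      ∃ y : (Fin n → B) →ₗ[B] (W ⧸ (EGA4.mB A B • (⊤ : Submodule B W))), ∀ k : LinearMap.ker π, x k = y k)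
    (φ : Λ →ₗ[B] W) (hφ : ∀ l, φ l ∈ (EGA4.mB A B • (⊤ : Submodule B W))) :
    φ ∈ (EGA4.mB A B • (⊤ : Submodule B (Λ →ₗ[B] W))) := by
  set N : Submodule B W := EGA4.mB A B • (⊤ : Submodule B W) with hN
  -- resolution
  obtain ⟨m, d1, hd1⟩ : ∃ (m : ℕ) (d1 : (Fin m → B) →ₗ[B] (Fin n → B)), Exact d1 π := by
    obtain ⟨m, f, hf⟩ := Module.Finite.exists_fin' B (LinearMap.ker π)
    refine ⟨m, (LinearMap.ker π).subtype ∘ₗ f, fun y => ⟨fun hy => ?_, ?_⟩⟩
    · obtain ⟨x, hx⟩ := hf ⟨y, hy⟩
      exact ⟨x, congrArg Subtype.val hx⟩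
    · rintro ⟨x, rfl⟩
      exact (f x).2
  obtain ⟨l, d2, hd2⟩ : ∃ (l : ℕ) (d2 : (Fin l → B) →ₗ[B] (Fin m → B)), Exact d2 d1 := by
    obtain ⟨l, f, hf⟩ := Module.Finite.exists_fin' B (LinearMap.ker d1)
    refine ⟨l, (LinearMap.ker d1).subtype ∘ₗ f, fun y => ⟨fun hy => ?_, ?_⟩⟩
    · obtain ⟨x, hx⟩ := hf ⟨y, hy⟩
      exact ⟨x, congrArg Subtype.val hx⟩
    · rintro ⟨x, rfl⟩
      exact (f x).2
  -- lifts of linear maps on free modules
  have lift : ∀ (k : ℕ) (y : (Fin k → B) →ₗ[B] (W ⧸ N)), ∃ z : Fin k → W,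
      ∀ c, Submodule.Quotient.mk (Fintype.linearCombination B z c) = y c := by
    intro k y
    choose z hz using fun i => Submodule.Quotient.mk_surjective N (y (Pi.single i 1))
    refine ⟨z, fun c => ?_⟩
    have : N.mkQ ∘ₗ (Fintype.linearCombination B z) = y := by
      apply LinearMap.pi_ext'
      intro j
      ext
      simp [Fintype.linearCombination_apply_single, hz]
    exact LinearMap.congr_fun this c
  have hfl : Module.Flat A (Fin l → W) := flat_pi l
  have hfm : Module.Flat A (Fin m → W) := flat_pi m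
  -- the embedding of `Hom(Λ, W)`
  let ι : (Λ →ₗ[B] W) →ₗ[B] (Fin n → W) := LinearMap.pi fun i => LinearMap.applyₗ (π (Pi.single i 1))
  have hι : ∀ (ψ : Λ →ₗ[B] W) (c : Fin n → B), Fintype.linearCombination B (ι ψ) c = ψ (π c) := by
    intro ψ c
    have h : Fintype.linearCombination B (ι ψ) = ψ ∘ₗ π := by
      apply LinearMap.pi_ext'
      intro j
      ext
      simp [ι, Fintype.linearCombination_apply_single]
    exact LinearMap.congr_fun h c
  have hιinj : Injective ι := by
    intro a b hab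
    ext lam
    obtain ⟨c, rfl⟩ := hπ lam
    rw [← hι, ← hι, hab]
  have hιr : LinearMap.ker (pre W d1) = LinearMap.range ι := by
    ext z
    constructor
    · intro hz
      have hz1 : pre W d1 z = 0 := hz
      have hk : LinearMap.ker π ≤ LinearMap.ker (Fintype.linearCombination B z) := by
        intro c hc
        obtain ⟨c', rfl⟩ := (hd1 c).1 hc
        rw [LinearMap.mem_ker, ← linearCombination_pre, hz1, Fintype.linearCombination_apply]
        exact Finset.sum_eq_zero fun i _ => smul_zero _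
      let e : ((Fin n → B) ⧸ LinearMap.ker π) ≃ₗ[B] Λ := π.quotKerEquivOfSurjective hπ
      refine ⟨((LinearMap.ker π).liftQ _ hk) ∘ₗ e.symm.toLinearMap, ?_⟩
      funext i
      have h4 : e.symm (π (Pi.single i 1)) = Submodule.Quotient.mk (Pi.single i 1) := by
        rw [LinearEquiv.symm_apply_eq]
        rfl
      change (LinearMap.ker π).liftQ _ hk (e.symm (π (Pi.single i 1))) = z i
      rw [h4, Submodule.liftQ_apply, Fintype.linearCombination_apply_single, one_smul]
    · rintro ⟨ψ, rfl⟩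
      rw [LinearMap.mem_ker]
      funext j
      rw [pre_apply, hι, hd1.apply_apply_eq_zero, map_zero]
      rfl
  have key := mem_smul_ker_complex (A := A) (pre W d1) (pre W d2) (by
      intro z
      ext j
      rw [pre_apply, linearCombination_pre, hd2.apply_apply_eq_zero, map_zero]
      rfl) (by
      intro x hx
      have hx' : ∀ j, pre W d2 x j ∈ N := fun j => mem_smul_fun hx j
      -- `x` mod `𝔫` factors through the kernel of `π`
      let xb : (Fin m → B) →ₗ[B] (W ⧸ N) := N.mkQ ∘ₗ Fintype.linearCombination B x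
      have hxb : LinearMap.ker d1 ≤ LinearMap.ker xb := by
        intro c hc
        obtain ⟨c', rfl⟩ := (hd2 c).1 hc
        change N.mkQ (Fintype.linearCombination B x (d2 c')) = 0
        rw [← linearCombination_pre, Submodule.mkQ_apply, Submodule.Quotient.mk_eq_zero,
          Fintype.linearCombination_apply]
        exact Submodule.sum_mem _ fun j _ => Submodule.smul_mem _ _ (hx' j)
      let e : ((Fin m → B) ⧸ LinearMap.ker d1) ≃ₗ[B] LinearMap.ker π :=
        d1.quotKerEquivRange ≪≫ₗ LinearEquiv.ofEq _ _ hd1.linearMap_ker_eq.symm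
      obtain ⟨y, hy⟩ := hext (((LinearMap.ker d1).liftQ xb hxb) ∘ₗ e.symm.toLinearMap)
      obtain ⟨w, hw⟩ := lift n y
      refine ⟨w, mem_smul_pi fun j => ?_⟩
      rw [← hN, ← Submodule.Quotient.mk_eq_zero, Pi.sub_apply, Submodule.Quotient.mk_sub, sub_eq_zero,
        pre_apply, hw]
      have h2 := hy (e (Submodule.Quotient.mk (Pi.single j 1)))
      have h3 : ((e (Submodule.Quotient.mk (Pi.single j 1)) : LinearMap.ker π) : Fin n → B) =
        d1 (Pi.single j 1) := rfl
      rw [h3] at h2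
      rw [← h2]
      simp only [LinearMap.comp_apply, LinearEquiv.coe_coe, LinearEquiv.symm_apply_apply]
      change _ = xb (Pi.single j 1)
      simp [xb, Fintype.linearCombination_apply_single]) (ι φ)
      (mem_smul_pi fun j => hφ _) (by
        have h1 : ι φ ∈ LinearMap.range ι := ⟨φ, rfl⟩
        rw [← hιr] at h1
        exact h1)
  rw [hιr, LinearMap.range_eq_map, ← Submodule.map_smul''] at key
  obtain ⟨φ', hφ', he⟩ := key
  rwa [← hιinj he]

include hρ hker hσ hσk hτ hτk in
/-- `Hom(Λ, 𝔫 W) = 𝔫 Hom(Λ, W)`. -/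
theorem mem_smul_hom (hE : ExtZero R0 Ω Ω') (φ : Λ →ₗ[B] W)
    (hφ : ∀ l, φ l ∈ (EGA4.mB A B • (⊤ : Submodule B W))) :
    φ ∈ (EGA4.mB A B • (⊤ : Submodule B (Λ →ₗ[B] W))) := by
  obtain ⟨n, π, hπ⟩ := Module.Finite.exists_fin' B Λ
  exact mem_smul_hom' π hπ (hext (A := A) hρ hker σ hσ hσk τ hτ hτk hE π hπ) φ hφ

section End

include hρ hker hτ hτk in
/-- `B → End(W)` is bijective if it is so on the closed fibre. -/
theorem bijective_end (hG : Good R0 Ω') :
    Bijective (fun b : B => b • (LinearMap.id : W →ₗ[B] W)) := by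
  obtain ⟨n, w, hw⟩ := Module.Finite.exists_fin (R := B) (M := W)
  -- values of `b`
  have hval : ∀ b : B, (∀ x : W, b • x ∈ (EGA4.mB A B • (⊤ : Submodule B W))) → b ∈ EGA4.mB A B := by
    intro b hb
    rw [← hker, RingHom.mem_ker]
    apply hG.1.1
    simp only [zero_smul]
    ext o
    obtain ⟨x, rfl⟩ := hτ o
    rw [LinearMap.smul_apply, LinearMap.id_apply, ← map_smulₛₗ, LinearMap.zero_apply]
    exact (hτk _).2 (hb x)
  constructor
  · have hfl : Module.Flat A (Fin n → W) := flat_pi n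
    let v : B →ₗ[B] (Fin n → W) := LinearMap.toSpanSingleton B _ w
    have hv : Injective v := by
      apply injective_of_fibre (A := A) v
      intro b hb
      have h1 : ∀ x : W, b • x ∈ (EGA4.mB A B • (⊤ : Submodule B W)) := by
        intro x
        have hx : x ∈ Submodule.span B (Set.range w) := by rw [hw]; trivial
        induction hx using Submodule.span_induction with
        | mem x hx =>
          obtain ⟨i, rfl⟩ := hx
          exact mem_smul_fun (A := A) hb i
        | zero => rw [smul_zero]; exact Submodule.zero_mem _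
        | add x y _ _ hx hy => rw [smul_add]; exact Submodule.add_mem _ hx hy
        | smul r x _ hx => rw [smul_comm]; exact Submodule.smul_mem _ _ hx
      simpa using hval b h1
    intro a b hab
    apply hv
    funext i
    exact LinearMap.congr_fun hab (w i)
  · let u : B →ₗ[B] (W →ₗ[B] W) := LinearMap.toSpanSingleton B _ LinearMap.id
    have hu : Surjective u := by
      apply surjective_of_fibre (A := A)
      intro φ
      -- the induced map
      have hN : ∀ x : W, x ∈ (EGA4.mB A B • (⊤ : Submodule B W)) →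
          φ x ∈ (EGA4.mB A B • (⊤ : Submodule B W)) := by
        intro x hx
        have h1 := Submodule.mem_map_of_mem (f := φ) hx
        rw [Submodule.map_smul''] at h1
        exact Submodule.smul_mono le_rfl le_top h1
      obtain ⟨ε, hε⟩ := hτ.hasRightInverse
      have hφε : ∀ (o : Ω') (x : W), τ x = o → τ (φ (ε o)) = τ (φ x) := by
        intro o x hx
        rw [← sub_eq_zero, ← map_sub, ← map_sub]
        rw [hτk]
        apply hN
        rw [← hτk, map_sub, hx, hε, sub_self]
      let φ' : Ω' →ₗ[R0] Ω' :=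
        { toFun := fun o => τ (φ (ε o))
          map_add' := fun o o' => by
            rw [hφε (o + o') (ε o + ε o') (by rw [map_add, hε, hε]), map_add, map_add]
          map_smul' := fun r o => by
            obtain ⟨b, rfl⟩ := hρ r
            rw [hφε (ρ b • o) (b • ε o) (by rw [map_smulₛₗ, hε]), map_smul, map_smulₛₗ,
              RingHom.id_apply] }
      obtain ⟨r, hr⟩ := hG.1.2 φ'
      obtain ⟨b, rfl⟩ := hρ r
      refine ⟨b, ?_⟩
      apply mem_smul_hom (A := A) hρ hker τ hτ hτk τ hτ hτk hG.2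
      intro x
      rw [← hτk]
      change τ (φ x - b • x) = 0
      rw [map_sub, map_smulₛₗ, sub_eq_zero]
      have h1 := LinearMap.congr_fun hr (τ x)
      change ρ b • τ x = τ (φ (ε (τ x))) at h1
      rw [h1]
      exact (hφε (τ x) x rfl).symm
    exact hu

end End

end K968.HomBC3
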