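import Mathlib.LinearAlgebra.TensorProduct.Basic
import Mathlib.LinearAlgebra.Dual.Defs
import Mathlib.Algebra.Category.ModuleCat.Basic
import Mathlib.LinearAlgebra.TensorProduct.Basis
import Mathlib.RingTheory.Ideal.Prime

/-!
# Iterated tensor powers of a module and their double duals, functorially

`TP B X n` is the `n`-th iterated tensor power (same recursion as `CohB1.tensorPow`), `TPmap φ n` the induced map,
`DD` the double dual; `pw e₁ e₂ φ : B` is the scalar of `DD (TPmap φ r)` for trivialisations `e₁`, `e₂` of the double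
duals: it is homogeneous of degree `r` and `pw φ ∉ p` if `φ` is invertible at `p`.
-/

set_option autoImplicit false
universe u

open TensorProduct

namespace K968.TPow

variable (B : Type u) [CommRing B]

/-- The iterated tensor powers. -/
noncomputable def TP (X : Type u) [AddCommGroup X] [Module B X] : ℕ → ModuleCat.{u} B
  | 0 => ModuleCat.of B B
  | n + 1 => ModuleCat.of B (TP X n ⊗[B] X)

variable {B} {X X' X'' : Type u} [AddCommGroup X] [Module B X] [AddCommGroup X'] [Module B X']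
  [AddCommGroup X''] [Module B X'']

/-- The map on tensor powers. -/
noncomputable def TPmap (φ : X →ₗ[B] X') : ∀ n : ℕ, TP B X n →ₗ[B] TP B X' n
  | 0 => LinearMap.id
  | n + 1 => TensorProduct.map (TPmap φ n) φ

theorem TPmap_comp (ψ : X' →ₗ[B] X'') (φ : X →ₗ[B] X') : ∀ n : ℕ,
    TPmap (ψ ∘ₗ φ) n = TPmap ψ n ∘ₗ TPmap φ n
  | 0 => rfl
  | n + 1 => by
    change TensorProduct.map (TPmap (ψ ∘ₗ φ) n) (ψ ∘ₗ φ) =
      TensorProduct.map (TPmap ψ n) ψ ∘ₗ TensorProduct.map (TPmap φ n) φ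
    rw [TPmap_comp ψ φ n, TensorProduct.map_comp]

theorem TPmap_id : ∀ n : ℕ, TPmap (LinearMap.id : X →ₗ[B] X) n = LinearMap.id
  | 0 => rfl
  | n + 1 => by
    change TensorProduct.map (TPmap (LinearMap.id : X →ₗ[B] X) n) LinearMap.id = LinearMap.id
    rw [TPmap_id n, TensorProduct.map_id]

theorem TPmap_smul (b : B) (φ : X →ₗ[B] X') : ∀ n : ℕ, TPmap (b • φ) n = b ^ n • TPmap φ n
  | 0 => by rw [pow_zero, one_smul]; rfl
  | n + 1 => by
    change TensorProduct.map (TPmap (b • φ) n) (b • φ) = b ^ (n + 1) • TensorProduct.map (TPmap φ n) φ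
    rw [TPmap_smul b φ n, TensorProduct.map_smul_left, TensorProduct.map_smul_right, smul_smul, pow_succ]

/-- The double dual of a map. -/
noncomputable def DDmap (φ : X →ₗ[B] X') :
    Module.Dual B (Module.Dual B X) →ₗ[B] Module.Dual B (Module.Dual B X') := φ.dualMap.dualMap

theorem DDmap_comp (ψ : X' →ₗ[B] X'') (φ : X →ₗ[B] X') : DDmap (ψ ∘ₗ φ) = DDmap ψ ∘ₗ DDmap φ := by
  ext x y
  rfl

theorem DDmap_id : DDmap (LinearMap.id : X →ₗ[B] X) = LinearMap.id := by
  ext x y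
  rfl

theorem DDmap_smul (b : B) (φ : X →ₗ[B] X') : DDmap (b • φ) = b • DDmap φ := by
  ext x y
  have h : (b • φ).dualMap y = b • φ.dualMap y := by
    ext z
    simp
  change x ((b • φ).dualMap y) = b * x (φ.dualMap y)
  rw [h, map_smul, smul_eq_mul]

/-- The double dual of the `r`-th tensor power. -/
abbrev R (B : Type u) [CommRing B] (X : Type u) [AddCommGroup X] [Module B X] (r : ℕ) : Type u :=
  Module.Dual B (Module.Dual B (TP B X r))

variable (r : ℕ) (e₁ : R B X r ≃ₗ[B] B) (e₂ : R B X' r ≃ₗ[B] B)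

/-- The scalar by which `φ^{[r]}` acts. -/
noncomputable def pw (φ : X →ₗ[B] X') : B := e₂ (DDmap (TPmap φ r) (e₁.symm 1))

theorem pw_smul (b : B) (φ : X →ₗ[B] X') : pw r e₁ e₂ (b • φ) = b ^ r * pw r e₁ e₂ φ := by
  rw [pw, TPmap_smul, DDmap_smul, LinearMap.smul_apply, map_smul, smul_eq_mul, pw]

theorem DDmap_eq_pw (φ : X →ₗ[B] X') (x : R B X r) :
    e₂ (DDmap (TPmap φ r) x) = e₁ x * pw r e₁ e₂ φ := by
  have h : x = e₁ x • e₁.symm 1 := by
    rw [← map_smul, smul_eq_mul, mul_one, e₁.symm_apply_apply]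
  conv_lhs => rw [h]
  rw [map_smul, map_smul, smul_eq_mul, pw]

theorem pw_mul (φ : X →ₗ[B] X') (ψ : X' →ₗ[B] X) (t : B) (h : ψ ∘ₗ φ = t • LinearMap.id) :
    pw r e₁ e₂ φ * pw r e₂ e₁ ψ = t ^ r := by
  have h1 : DDmap (TPmap ψ r) (DDmap (TPmap φ r) (e₁.symm 1)) = t ^ r • e₁.symm 1 := by
    rw [← LinearMap.comp_apply, ← DDmap_comp, ← TPmap_comp, h, TPmap_smul, DDmap_smul, TPmap_id,
      DDmap_id, LinearMap.smul_apply, LinearMap.id_apply]
  have h2 := DDmap_eq_pw r e₂ e₁ ψ (DDmap (TPmap φ r) (e₁.symm 1))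
  rw [h1, map_smul, e₁.apply_symm_apply, smul_eq_mul, mul_one] at h2
  exact h2.symm

/-- `pw φ` is nonzero where `φ` is invertible. -/
theorem pw_notMem (p : Ideal B) [p.IsPrime] (φ : X →ₗ[B] X') (ψ : X' →ₗ[B] X) (t : B) (ht : t ∉ p)
    (h : ψ ∘ₗ φ = t • LinearMap.id) : pw r e₁ e₂ φ ∉ p := by
  intro hp
  have h1 := pw_mul r e₁ e₂ φ ψ t h
  exact ht ((‹p.IsPrime›).mem_of_pow_mem r (h1 ▸ Ideal.mul_mem_right _ p hp))

end K968.TPow
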