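import Groth.Agent.QGor.K968.LocKeyA
import Groth.Agent.QGor.K968.TPow
import Groth.Agent.QGor.K967.DepthKit
import Groth.Agent.QGor.K967.FibKit
import Groth.Agent.QGor.K66.FlatDepth

/-!
# The local key lemma for a pair of modules

`A → B` a flat local homomorphism of Noetherian local rings, `𝔫 = m_A B`, `J` an ideal, `Λ`, `W` finite
`B`-modules which are isomorphic off `V(J)` with `End = B` there, `τ : W → Λ / 𝔫 Λ` surjective at the primes
`p ⊉ J`, `p ⊇ 𝔫`, `B / 𝔫 = End(Λ / 𝔫 Λ)`, `depth_J Λ ≥ 2`, `depth_J W ≥ 2`.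

* `equiv_of_three` : if `depth_J (B / 𝔫) ≥ 3` then `Λ ≃ W`;
* `equiv_of_pow` : if `depth_J (B / 𝔫) ≥ 2` and the double duals of `Λ^{⊗ r}`, `W^{⊗ r}` are free of rank one with
  `r` invertible then `Λ ≃ W`.
-/

set_option autoImplicit false
universe u

open Function

namespace K968.HomKey

open K968.LocKey K967.DepthKit

section Off

variable {B : Type u} [CommRing B]

/-- `Λ` and `W` are isomorphic and `B = End(W)` at the primes off `V(J)`. -/
structure Off (J : Ideal B) (Λ W : Type u) [AddCommGroup Λ] [Module B Λ] [AddCommGroup W] [Module B W] : Prop where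
  inv : ∀ (p : Ideal B) [p.IsPrime], ¬ J ≤ p → ∃ (φ : Λ →ₗ[B] W) (ψ : W →ₗ[B] Λ) (t : B), t ∉ p ∧
    ψ ∘ₗ φ = t • LinearMap.id ∧ φ ∘ₗ ψ = t • LinearMap.id
  scal : ∀ (p : Ideal B) [p.IsPrime], ¬ J ≤ p → ∀ x : W →ₗ[B] W, ∃ (t b : B), t ∉ p ∧
    t • x = b • LinearMap.id
  faith : ∀ (p : Ideal B) [p.IsPrime], ¬ J ≤ p → ∀ b : B, (∀ w : W, b • w = 0) → ∃ t, t ∉ p ∧ t * b = 0

variable {J : Ideal B} {Λ W : Type u} [AddCommGroup Λ] [Module B Λ] [AddCommGroup W] [Module B W]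
  (O : Off J Λ W)

include O

theorem Off.cyc (p : Ideal B) [p.IsPrime] (hp : ¬ J ≤ p) (φ : Λ →ₗ[B] W) (ψ : W →ₗ[B] Λ) (t : B) (ht : t ∉ p)
    (h : ψ ∘ₗ φ = t • LinearMap.id) (x : Λ →ₗ[B] W) : ∃ s, s ∉ p ∧ ∃ b : B, s • x = b • φ := by
  have hpp : p.IsPrime := inferInstance
  obtain ⟨s, b, hs, hb⟩ := O.scal p hp (x ∘ₗ ψ)
  refine ⟨s * t, fun h => (hpp.mem_or_mem h).elim hs ht, b, ?_⟩
  have h1 := congrArg (fun y : W →ₗ[B] W => y ∘ₗ φ) hb
  simp only [LinearMap.smul_comp, LinearMap.comp_assoc, h, LinearMap.comp_smul, LinearMap.comp_id,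
    LinearMap.id_comp] at h1
  rw [mul_smul, h1]

theorem Off.free [IsNoetherianRing B] [Module.Finite B Λ] [Module.Finite B W] (q : PrimeSpectrum B)
    (hq : ¬ J ≤ q.asIdeal) :
    Module.Free (Localization.AtPrime q.asIdeal) (LocalizedModule q.asIdeal.primeCompl (Λ →ₗ[B] W)) := by
  obtain ⟨φ, ψ, t, ht, h1, h2⟩ := O.inv q.asIdeal hq
  let g : Localization.AtPrime q.asIdeal →ₗ[Localization.AtPrime q.asIdeal]
      LocalizedModule q.asIdeal.primeCompl (Λ →ₗ[B] W) :=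
    LinearMap.toSpanSingleton _ _ (LocalizedModule.mk φ 1)
  have hg : ∀ (b : B) (s : q.asIdeal.primeCompl), g (Localization.mk b s) = LocalizedModule.mk (b • φ) s := by
    intro b s
    rw [LinearMap.toSpanSingleton_apply, LocalizedModule.mk_smul_mk, mul_one]
  have hinj : Injective g := by
    rw [injective_iff_map_eq_zero]
    intro y
    induction y using Localization.induction_on with
    | H y =>
      obtain ⟨b, s⟩ := y
      intro hy
      rw [hg, ← LocalizedModule.zero_mk s, LocalizedModule.mk_eq] at hy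
      obtain ⟨u, hu⟩ := hy
      rw [smul_zero, smul_zero] at hu
      have h3 : ∀ w : W, ((u : B) * (s : B) * b * t) • w = 0 := by
        intro w
        have h4 := LinearMap.congr_fun hu (ψ w)
        have h5 : φ (ψ w) = t • w := LinearMap.congr_fun h2 w
        have h6 : (u : B) • (s : B) • b • φ (ψ w) = 0 := h4
        rw [h5] at h6
        simpa only [mul_smul] using h6
      obtain ⟨t', ht', h7⟩ := O.faith q.asIdeal hq _ h3
      rw [← Localization.mk_zero s, Localization.mk_eq_mk_iff, Localization.r_iff_exists]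
      refine ⟨⟨t' * (u * t), fun h => ?_⟩, ?_⟩
      · rcases q.2.mem_or_mem h with h | h
        · exact ht' h
        · rcases q.2.mem_or_mem h with h | h
          · exact u.2 h
          · exact ht h
      · change t' * (u * t) * (s * b) = t' * (u * t) * (s * 0)
        rw [mul_zero, mul_zero, ← h7]
        ring
  have hsur : Surjective g := by
    intro y
    induction y using LocalizedModule.induction_on with
    | h x s =>
      obtain ⟨s', hs', b, hb⟩ := O.cyc q.asIdeal hq φ ψ t ht h1 x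
      refine ⟨Localization.mk b (s * ⟨s', hs'⟩), ?_⟩
      rw [hg, LocalizedModule.mk_eq]
      refine ⟨1, ?_⟩
      rw [one_smul, one_smul, ← hb]
      change (s : B) • s' • x = ((s : B) * s') • x
      rw [mul_smul]
  exact Module.Free.of_equiv (LinearEquiv.ofBijective g ⟨hinj, hsur⟩)

/-- If `Hom(Λ, W)` is free of rank one, `Λ ≃ W`. -/
theorem Off.equiv_of_iso [IsNoetherianRing B] [Module.Finite B Λ] [Module.Finite B W]
    (hΛ : 2 ≤ LocCoh.idealDepth J Λ) (hW : 1 ≤ LocCoh.idealDepth J W)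
    (e : (Λ →ₗ[B] W) ≃ₗ[B] B) : Nonempty (Λ ≃ₗ[B] W) := by
  let μ : Λ →ₗ[B] W := e.symm 1
  have hμ : ∀ x : Λ →ₗ[B] W, x = e x • μ := by
    intro x
    apply e.injective
    rw [map_smul, e.apply_symm_apply, smul_eq_mul, mul_one]
  have key : ∀ (p : Ideal B) [p.IsPrime], ¬ J ≤ p → ∃ (ψ : W →ₗ[B] Λ) (t : B), t ∉ p ∧
      ψ ∘ₗ μ = t • LinearMap.id ∧ μ ∘ₗ ψ = t • LinearMap.id := by
    intro p _ hp
    obtain ⟨φ, ψ, t, ht, h1, h2⟩ := O.inv p hp
    refine ⟨e φ • ψ, t, ht, ?_, ?_⟩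
    · rw [LinearMap.smul_comp, ← LinearMap.comp_smul, ← hμ φ, h1]
    · rw [LinearMap.comp_smul, ← LinearMap.smul_comp, ← hμ φ, h2]
  have hb : Bijective μ := by
    refine bijective_of_off (I := J) μ hΛ hW ?_ ?_
    · apply support_subset_of_forall
      rintro p _ hp ⟨x, hx⟩
      obtain ⟨ψ, t, ht, h1, -⟩ := key p hp
      refine ⟨t, ht, ?_⟩
      ext
      have h3 := LinearMap.congr_fun h1 x
      change ψ (μ x) = t • x at h3
      change t • x = 0
      rw [← h3, LinearMap.mem_ker.1 hx, map_zero]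
    · apply support_subset_of_forall
      intro p _ hp x
      obtain ⟨ψ, t, ht, -, h2⟩ := key p hp
      obtain ⟨w, rfl⟩ := Submodule.mkQ_surjective _ x
      refine ⟨t, ht, ?_⟩
      rw [← map_smul, Submodule.mkQ_apply, Submodule.Quotient.mk_eq_zero]
      exact ⟨ψ w, LinearMap.congr_fun h2 w⟩
  exact ⟨LinearEquiv.ofBijective μ hb⟩

end Off

section Theta

variable {B : Type u} [CommRing B] {𝔫 J : Ideal B} {Λ W : Type u} [AddCommGroup Λ] [Module B Λ]
  [AddCommGroup W] [Module B W] (τ : W →ₗ[B] (Λ ⧸ (𝔫 • (⊤ : Submodule B Λ))))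
  (hend : ∀ x : (Λ ⧸ (𝔫 • (⊤ : Submodule B Λ))) →ₗ[B] (Λ ⧸ (𝔫 • (⊤ : Submodule B Λ))),
    ∃ b : B, x = b • LinearMap.id)
  (hann : ∀ b : B, (∀ o : Λ ⧸ (𝔫 • (⊤ : Submodule B Λ)), b • o = 0) → b ∈ 𝔫)

theorem smul_quot_eq_zero {b : B} (hb : b ∈ 𝔫) (o : Λ ⧸ (𝔫 • (⊤ : Submodule B Λ))) : b • o = 0 := by
  obtain ⟨l, rfl⟩ := Submodule.Quotient.mk_surjective _ o
  rw [← Submodule.Quotient.mk_smul, Submodule.Quotient.mk_eq_zero]
  exact Submodule.smul_mem_smul hb Submodule.mem_top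

include hend in
theorem exists_scalar (φ : Λ →ₗ[B] W) : ∃ b : B, ∀ l, τ (φ l) = b • (Submodule.Quotient.mk l) := by
  have h : 𝔫 • (⊤ : Submodule B Λ) ≤ LinearMap.ker (τ ∘ₗ φ) := by
    rw [Submodule.smul_le]
    intro r hr l _
    rw [LinearMap.mem_ker, map_smul]
    exact smul_quot_eq_zero hr _
  obtain ⟨b, hb⟩ := hend ((𝔫 • (⊤ : Submodule B Λ)).liftQ (τ ∘ₗ φ) h)
  refine ⟨b, fun l => ?_⟩
  exact LinearMap.congr_fun hb (Submodule.Quotient.mk l)

include hann in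
theorem scalar_unique {φ : Λ →ₗ[B] W} {b b' : B} (h : ∀ l, τ (φ l) = b • (Submodule.Quotient.mk l))
    (h' : ∀ l, τ (φ l) = b' • (Submodule.Quotient.mk l)) :
    Ideal.Quotient.mk 𝔫 b = Ideal.Quotient.mk 𝔫 b' := by
  rw [Ideal.Quotient.eq]
  apply hann
  intro o
  obtain ⟨l, rfl⟩ := Submodule.Quotient.mk_surjective _ o
  rw [sub_smul, ← h, ← h', sub_self]

include hend hann in
theorem exists_theta : ∃ θ : (Λ →ₗ[B] W) →ₗ[B] B ⧸ 𝔫, ∀ (φ : Λ →ₗ[B] W) (b : B),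
    (∀ l, τ (φ l) = b • (Submodule.Quotient.mk l)) → θ φ = Ideal.Quotient.mk 𝔫 b := by
  choose c hc using exists_scalar τ hend
  refine ⟨{ toFun := fun φ => Ideal.Quotient.mk 𝔫 (c φ), map_add' := ?_, map_smul' := ?_ }, ?_⟩
  · intro φ φ'
    rw [← map_add]
    refine scalar_unique τ hann (hc (φ + φ')) fun l => ?_
    rw [LinearMap.add_apply, map_add, hc, hc, add_smul]
  · intro r φ
    have h1 : r • (Ideal.Quotient.mk 𝔫 (c φ)) = Ideal.Quotient.mk 𝔫 (r * c φ) := rfl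
    rw [RingHom.id_apply, h1]
    refine scalar_unique τ hann (hc (r • φ)) fun l => ?_
    rw [LinearMap.smul_apply, map_smul, hc, mul_smul]
  · intro φ b hb
    exact scalar_unique τ hann (hc φ) hb

end Theta

section Unit

variable {B : Type u} [CommRing B] {𝔫 J : Ideal B} {Λ W : Type u} [AddCommGroup Λ] [Module B Λ]
  [Module.Finite B Λ] [AddCommGroup W] [Module B W] (τ : W →ₗ[B] (Λ ⧸ (𝔫 • (⊤ : Submodule B Λ))))
  (hann : ∀ b : B, (∀ o : Λ ⧸ (𝔫 • (⊤ : Submodule B Λ)), b • o = 0) → b ∈ 𝔫)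

include hann in
/-- The scalar of a map which is invertible at `p` is a unit at `p`. -/
theorem scalar_notMem (p : Ideal B) [p.IsPrime] (hnp : 𝔫 ≤ p)
    (hτ : ∀ o : Λ ⧸ (𝔫 • (⊤ : Submodule B Λ)), ∃ (t : B) (w : W), t ∉ p ∧ τ w = t • o)
    (φ : Λ →ₗ[B] W) (ψ : W →ₗ[B] Λ) (t : B) (ht : t ∉ p) (h2 : φ ∘ₗ ψ = t • LinearMap.id)
    (b : B) (hb : ∀ l, τ (φ l) = b • (Submodule.Quotient.mk l)) : b ∉ p := by
  have hpp : p.IsPrime := inferInstance
  intro hbp
  set Ω := Λ ⧸ (𝔫 • (⊤ : Submodule B Λ)) with hΩ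
  have h3 : ∀ o : Ω, ∃ s, s ∉ p ∧ s • o ∈ (p • (⊤ : Submodule B Ω)) := by
    intro o
    obtain ⟨s, w, hs, hw⟩ := hτ o
    refine ⟨t * s, fun h => (hpp.mem_or_mem h).elim ht hs, ?_⟩
    have h4 : φ (ψ w) = t • w := LinearMap.congr_fun h2 w
    rw [mul_smul, ← hw, ← map_smul, ← h4, hb]
    exact Submodule.smul_mem_smul hbp Submodule.mem_top
  -- a common denominator
  obtain ⟨n, o, ho⟩ := Module.Finite.exists_fin (R := B) (M := Ω)
  choose s hs hs' using fun i => h3 (o i)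
  let S : B := ∏ i, s i
  have hS : S ∉ p := by
    intro h
    obtain ⟨i, -, hi⟩ := (Ideal.IsPrime.prod_mem_iff).1 h
    exact hs i hi
  have h5 : LinearMap.range (S • (LinearMap.id : Ω →ₗ[B] Ω)) ≤ p • (⊤ : Submodule B Ω) := by
    rintro _ ⟨x, rfl⟩
    have hx : x ∈ Submodule.span B (Set.range o) := by rw [ho]; trivial
    induction hx using Submodule.span_induction with
    | mem x hx =>
      obtain ⟨i, rfl⟩ := hx
      have h6 : S = (∏ j ∈ Finset.univ.erase i, s j) * s i := by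
        rw [Finset.prod_erase_mul _ _ (Finset.mem_univ i)]
      change S • o i ∈ _
      rw [h6, mul_smul]
      exact Submodule.smul_mem _ _ (hs' i)
    | zero => rw [map_zero]; exact Submodule.zero_mem _
    | add x y _ _ hx hy => rw [map_add]; exact Submodule.add_mem _ hx hy
    | smul r x _ hx => rw [map_smul]; exact Submodule.smul_mem _ _ hx
  obtain ⟨P, hP, -, hPc, hPz⟩ :=
    LinearMap.exists_monic_and_natDegree_eq_and_coeff_mem_pow_and_aeval_eq_zero B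
      (S • LinearMap.id : Module.End B Ω) p h5
  -- the value `P(S)` kills `Ω`
  have h6 : P.eval S ∈ 𝔫 := by
    apply hann
    intro x
    have h7 : (S • LinearMap.id : Module.End B Ω) = algebraMap B (Module.End B Ω) S := rfl
    rw [h7, Polynomial.aeval_algebraMap_apply] at hPz
    have h8 := LinearMap.congr_fun hPz x
    rw [Polynomial.coe_aeval_eq_eval] at h8
    exact h8
  have h9 : P.map (Ideal.Quotient.mk p) = Polynomial.X ^ P.natDegree := by
    ext k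
    rw [Polynomial.coeff_map, Polynomial.coeff_X_pow]
    split_ifs with hk
    · rw [hk, hP.coeff_natDegree, map_one]
    · rcases lt_or_gt_of_ne hk with hk | hk
      · rw [Ideal.Quotient.eq_zero_iff_mem]
        exact Ideal.pow_le_self (by omega) (hPc k)
      · rw [Polynomial.coeff_eq_zero_of_natDegree_lt hk, map_zero]
  have h10 : Ideal.Quotient.mk p (P.eval S) = (Ideal.Quotient.mk p S) ^ P.natDegree := by
    rw [← Polynomial.eval_map_apply, h9, Polynomial.eval_pow, Polynomial.eval_X]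
  have h11 : Ideal.Quotient.mk p (P.eval S) = 0 := Ideal.Quotient.eq_zero_iff_mem.2 (hnp h6)
  rw [h11, ← map_pow] at h10
  exact hS (hpp.mem_of_pow_mem _ (Ideal.Quotient.eq_zero_iff_mem.1 h10.symm))

end Unit

section Main

variable {A B : Type u} [CommRing A] [CommRing B] [IsNoetherianRing A] [IsNoetherianRing B]
  [IsLocalRing A] [IsLocalRing B] [Algebra A B] [IsLocalHom (algebraMap A B)] [Module.Flat A B]
  {J : Ideal B} {Λ W : Type u} [AddCommGroup Λ] [Module B Λ] [Module.Finite B Λ] [AddCommGroup W] [Module B W]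
  [Module.Finite B W]

theorem one_le_of_quot {J : Ideal B} (h : 1 ≤ LocCoh.idealDepth J (B ⧸ EGA4.mB A B)) :
    1 ≤ LocCoh.idealDepth J B := by
  refine K66.FlatDepth.le_idealDepth_of_fib (A := A) J 1 B ?_
  rw [Groth.Agent.Localalg.Depth.idealDepth_congr_equiv J (quotEquiv (EGA4.mB A B))]
  exact h

variable (O : Off J Λ W) (hΛ : 2 ≤ LocCoh.idealDepth J Λ) (hW : 2 ≤ LocCoh.idealDepth J W)
  (τ : W →ₗ[B] (Λ ⧸ (EGA4.mB A B • (⊤ : Submodule B Λ))))
  (hτ : ∀ (p : Ideal B) [p.IsPrime], ¬ J ≤ p → EGA4.mB A B ≤ p →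
    ∀ o : Λ ⧸ (EGA4.mB A B • (⊤ : Submodule B Λ)), ∃ (t : B) (w : W), t ∉ p ∧ τ w = t • o)
  (hend : ∀ x : (Λ ⧸ (EGA4.mB A B • (⊤ : Submodule B Λ))) →ₗ[B] (Λ ⧸ (EGA4.mB A B • (⊤ : Submodule B Λ))),
    ∃ b : B, x = b • LinearMap.id)
  (hann : ∀ b : B, (∀ o : Λ ⧸ (EGA4.mB A B • (⊤ : Submodule B Λ)), b • o = 0) → b ∈ EGA4.mB A B)

include O τ hτ hend hann in
theorem exists_theta' : ∃ θ : (Λ →ₗ[B] W) →ₗ[B] B ⧸ EGA4.mB A B,
    ∀ (p : Ideal B) [p.IsPrime], ¬ J ≤ p → EGA4.mB A B ≤ p →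
      ∃ (y : Λ →ₗ[B] W) (b : B), θ y = Ideal.Quotient.mk _ b ∧ b ∉ p := by
  obtain ⟨θ, hθ⟩ := exists_theta τ hend hann
  refine ⟨θ, fun p _ hp hnp => ?_⟩
  obtain ⟨φ, ψ, t, ht, h1, h2⟩ := O.inv p hp
  obtain ⟨b, hb⟩ := exists_scalar τ hend φ
  exact ⟨φ, b, hθ φ b hb, scalar_notMem τ hann p hnp (hτ p hp hnp) φ ψ t ht h2 b hb⟩

include O hW in
theorem isReflexive (h : 1 ≤ LocCoh.idealDepth J B) : Module.IsReflexive B (Λ →ₗ[B] W) := by
  refine K967.FibKit.isReflexive_of_two_le (I := J) (fun p hp => ?_) h (two_le_idealDepth_hom hW)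
  have := O.free p hp
  infer_instance

include O hΛ hW τ hτ hend hann in
/-- **Case (a).** -/
theorem equiv_of_three (h3 : 3 ≤ LocCoh.idealDepth J (B ⧸ EGA4.mB A B)) : Nonempty (Λ ≃ₗ[B] W) := by
  have := isReflexive O hW (one_le_of_quot (A := A) (le_trans (by norm_num) h3))
  obtain ⟨θ, hθ⟩ := exists_theta' O τ hτ hend hann
  obtain ⟨e⟩ := iso_of_three_le h3 (Λ →ₗ[B] W) (fun q hq => O.free q hq) (fun p _ hp _ => by
    obtain ⟨φ, ψ, t, ht, h1, h2⟩ := O.inv p hp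
    exact ⟨φ, O.cyc p hp φ ψ t ht h1⟩) θ hθ
  exact O.equiv_of_iso hΛ (le_trans (by norm_num) hW) e

include O hΛ hW τ hτ hend hann in
/-- **Case (b).** -/
theorem equiv_of_pow (h2 : 2 ≤ LocCoh.idealDepth J (B ⧸ EGA4.mB A B)) (r : ℕ) (hr : IsUnit (r : B))
    (e₁ : TPow.R B Λ r ≃ₗ[B] B) (e₂ : TPow.R B W r ≃ₗ[B] B) : Nonempty (Λ ≃ₗ[B] W) := by
  have := isReflexive O hW (one_le_of_quot (A := A) (le_trans (by norm_num) h2))
  obtain ⟨θ, hθ⟩ := exists_theta' O τ hτ hend hann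
  obtain ⟨e⟩ := iso_of_pow h2 (Λ →ₗ[B] W) (fun q hq => O.free q hq) (fun p _ hp _ => by
    obtain ⟨φ, ψ, t, ht, h1, h2⟩ := O.inv p hp
    exact ⟨φ, O.cyc p hp φ ψ t ht h1⟩) θ hθ r hr (TPow.pw r e₁ e₂) (fun b x => TPow.pw_smul r e₁ e₂ b x)
    (fun p _ hp _ => by
      obtain ⟨φ, ψ, t, ht, h1, h2⟩ := O.inv p hp
      exact ⟨φ, TPow.pw_notMem r e₁ e₂ p φ ψ t ht h1⟩)
  exact O.equiv_of_iso hΛ (le_trans (by norm_num) hW) e

end Main

end K968.HomKey
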