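import Groth.Agent.QGor.K968.Glue
import Mathlib.Tactic.LinearCombination

/-!
# Lifting a trivialisation of the closed fibre over infinitesimal neighbourhoods

Situation: `u : E0 → E1` a map of finite modules over a Noetherian ring `B`, `M = ker u`, ideals `J`, `𝔫`,
`depth_J (E0 / 𝔫^k E0) ≥ 2`, `depth_J (E1 / 𝔫^k E1) ≥ 1`, `depth_J (B / 𝔫^k) ≥ 2`, `u` has pseudo-inverses off
`V(J)`, `M` is locally cyclic off `V(J)`, and there is `θ : M → B / 𝔫` which is surjective off `V(J)`.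
Given a "degree `r`" function `q : M → B`, `r` invertible, which is nonzero off `V(J)`, we construct compatible
elements `s_k : E0` with `u s_k ∈ 𝔫^k E1` lifting the generator of the closed fibre.
-/

set_option autoImplicit false
universe u

open CategoryTheory

namespace K968.LocKey

open K968.Glue

/-- The situation. -/
structure Setup (B : Type u) [CommRing B] (J 𝔫 : Ideal B) (E0 E1 : Type u) [AddCommGroup E0]
    [Module B E0] [AddCommGroup E1] [Module B E1] where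
  u : E0 →ₗ[B] E1
  split : ∀ (p : Ideal B) [p.IsPrime], ¬ J ≤ p →
    ∃ (σ : E1 →ₗ[B] E0) (t : B), t ∉ p ∧ ∀ x, u (σ (u x)) = t • u x
  d0 : ∀ k : ℕ, 2 ≤ LocCoh.idealDepth J (E0 ⧸ (𝔫 ^ k • (⊤ : Submodule B E0)))
  d1 : ∀ k : ℕ, 1 ≤ LocCoh.idealDepth J (E1 ⧸ (𝔫 ^ k • (⊤ : Submodule B E1)))
  dB : ∀ k : ℕ, 2 ≤ LocCoh.idealDepth J (B ⧸ 𝔫 ^ k)
  cyc : ∀ (p : Ideal B) [p.IsPrime], ¬ J ≤ p → 𝔫 ≤ p →
    ∃ y : LinearMap.ker u, ∀ x : LinearMap.ker u, x ∈ sat p (B ∙ y)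
  θ : LinearMap.ker u →ₗ[B] B ⧸ 𝔫
  hθ : ∀ (p : Ideal B) [p.IsPrime], ¬ J ≤ p → 𝔫 ≤ p →
    ∃ (y : LinearMap.ker u) (b : B), θ y = Ideal.Quotient.mk 𝔫 b ∧ b ∉ p

variable {B : Type u} [CommRing B] {J 𝔫 : Ideal B} {E0 E1 : Type u} [AddCommGroup E0]
    [Module B E0] [AddCommGroup E1] [Module B E1] (S : Setup B J 𝔫 E0 E1)

namespace Setup

/-- `M ∩ 𝔫^n E0 = 𝔫^n M` at the primes off `V(J)`. -/
theorem mem_sat_ker (p : Ideal B) [p.IsPrime] (hp : ¬ J ≤ p) (n : ℕ) (x : LinearMap.ker S.u)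
    (hx : (x : E0) ∈ (𝔫 ^ n • (⊤ : Submodule B E0))) :
    x ∈ sat p (𝔫 ^ n • (⊤ : Submodule B (LinearMap.ker S.u))) := by
  obtain ⟨σ, t, ht, hσ⟩ := S.split p hp
  let R : E0 →ₗ[B] LinearMap.ker S.u := LinearMap.codRestrict _ (t • LinearMap.id - σ ∘ₗ S.u) (by
    intro e
    simp [hσ])
  refine ⟨t, ht, ?_⟩
  have h1 : R x = t • x := by
    ext
    have : S.u x = 0 := x.2
    simp [R, this]
  rw [← h1]
  have h2 : R x ∈ (𝔫 ^ n • (⊤ : Submodule B E0)).map R := Submodule.mem_map_of_mem hx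
  rw [Submodule.map_smul''] at h2
  exact Submodule.smul_mono le_rfl le_top h2

/-- An element with `u e ∈ 𝔫^n E1` is congruent to an element of `M` at the primes off `V(J)`. -/
theorem exists_sub_mem (p : Ideal B) [p.IsPrime] (hp : ¬ J ≤ p) (n : ℕ) (e : E0)
    (he : S.u e ∈ (𝔫 ^ n • (⊤ : Submodule B E1))) :
    ∃ (y : LinearMap.ker S.u) (t : B), t ∉ p ∧ t • e - (y : E0) ∈ (𝔫 ^ n • (⊤ : Submodule B E0)) := by
  obtain ⟨σ, t, ht, hσ⟩ := S.split p hp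
  refine ⟨⟨t • e - σ (S.u e), ?_⟩, t, ht, ?_⟩
  · rw [LinearMap.mem_ker, map_sub, map_smul, hσ, sub_self]
  · have h2 : σ (S.u e) ∈ (𝔫 ^ n • (⊤ : Submodule B E1)).map σ := Submodule.mem_map_of_mem he
    rw [Submodule.map_smul''] at h2
    simpa using (Submodule.smul_mono le_rfl le_top h2 : σ (S.u e) ∈ (𝔫 ^ n • (⊤ : Submodule B E0)))

/-- An element `m` of `M` with `θ m` a unit at `p` generates `M` at `p`. -/
theorem exists_smul_eq (p : Ideal B) [p.IsPrime] (hp : ¬ J ≤ p) (hnp : 𝔫 ≤ p) {m : LinearMap.ker S.u}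
    {c : B} (hc : S.θ m = Ideal.Quotient.mk 𝔫 c) (hcp : c ∉ p) (n : ℕ) (y : LinearMap.ker S.u)
    (hy : (y : E0) ∈ (𝔫 ^ n • (⊤ : Submodule B E0))) :
    ∃ (t ε : B), t ∉ p ∧ ε ∈ 𝔫 ^ n ∧ t • y = ε • m := by
  obtain ⟨g, hg⟩ := S.cyc p hp hnp
  have hp' : p.IsPrime := inferInstance
  -- `m` generates
  have hgen : ∀ x : LinearMap.ker S.u, x ∈ sat p (B ∙ m) := by
    intro x
    obtain ⟨T, hT, hm⟩ := hg m
    obtain ⟨α, hα⟩ := Submodule.mem_span_singleton.1 hm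
    obtain ⟨T', hT', hx⟩ := hg x
    obtain ⟨β, hβ⟩ := Submodule.mem_span_singleton.1 hx
    obtain ⟨cg, hcg⟩ := Ideal.Quotient.mk_surjective (S.θ g)
    have hαp : α ∉ p := by
      intro h
      have h1 := congrArg S.θ hα
      rw [map_smul, map_smul, ← hcg, hc] at h1
      have h2 : α * cg - T * c ∈ 𝔫 := by
        rw [← Ideal.Quotient.eq_zero_iff_mem, map_sub, map_mul, map_mul, sub_eq_zero]
        simpa [Algebra.smul_def] using h1
      have h3 : T * c ∈ p := by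
        have := p.sub_mem (p.mul_mem_right cg h) (hnp h2)
        simpa using this
      exact (hp'.mem_or_mem h3).elim hT hcp
    refine ⟨α * T', fun h => (hp'.mem_or_mem h).elim hαp hT', ?_⟩
    rw [mul_smul, ← hβ, smul_comm α β, hα]
    exact Submodule.smul_mem _ _ (Submodule.smul_mem _ _ (Submodule.mem_span_singleton_self m))
  have h1 := S.mem_sat_ker p hp n y hy
  have h2 : (𝔫 ^ n • (⊤ : Submodule B (LinearMap.ker S.u))) ≤ sat p (𝔫 ^ n • (B ∙ m)) := by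
    rw [Submodule.smul_le]
    intro a ha x _
    obtain ⟨t, ht, hx⟩ := hgen x
    exact ⟨t, ht, by rw [smul_comm]; exact Submodule.smul_mem_smul ha hx⟩
  have h3 := sat_mono p h2 h1
  rw [sat_sat] at h3
  obtain ⟨t, ht, h4⟩ := h3
  obtain ⟨ε, hε, h5⟩ := Submodule.mem_smul_span_singleton.1 h4
  exact ⟨t, ε, ht, hε, h5.symm⟩

section Base

variable [IsNoetherianRing B] [Module.Finite B E0] [Module.Finite B E1]
include S

theorem d0' (k : ℕ) : 1 ≤ LocCoh.idealDepth J (E0 ⧸ (𝔫 ^ k • (⊤ : Submodule B E0))) :=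
  le_trans (by norm_num) (S.d0 k)

theorem dB' (k : ℕ) : 1 ≤ LocCoh.idealDepth J (B ⧸ 𝔫 ^ k) :=
  le_trans (by norm_num) (S.dB k)

/-- To check that `x ∈ 𝔫^k E0` it suffices to look at the primes off `V(J)` containing `𝔫`. -/
theorem mem_pow_of_sat (k : ℕ) {x : E0}
    (h : ∀ (p : Ideal B) [p.IsPrime], ¬ J ≤ p → 𝔫 ≤ p → x ∈ sat p (𝔫 ^ k • (⊤ : Submodule B E0))) :
    x ∈ (𝔫 ^ k • (⊤ : Submodule B E0)) := by
  apply mem_of_sat (S.d0' k)
  intro p _ hp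
  by_cases hn : 𝔫 ≤ p
  · exact h p hp hn
  · exact mem_sat_of_not_le hn k le_rfl x

theorem mem_pow_of_sat' (k : ℕ) {x : B}
    (h : ∀ (p : Ideal B) [p.IsPrime], ¬ J ≤ p → 𝔫 ≤ p → x ∈ sat p (𝔫 ^ k)) : x ∈ 𝔫 ^ k := by
  apply mem_of_sat (S.dB' k)
  intro p _ hp
  by_cases hn : 𝔫 ≤ p
  · exact h p hp hn
  · exact mem_sat_of_not_le hn k (by simp) x

theorem ker_theta (y : LinearMap.ker S.u) (hy : S.θ y = 0) : (y : E0) ∈ (𝔫 ^ 1 • (⊤ : Submodule B E0)) := by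
  apply S.mem_pow_of_sat
  intro p _ hp hn
  obtain ⟨m, c, hc, hcp⟩ := S.hθ p hp hn
  obtain ⟨t, ε, ht, -, h⟩ := S.exists_smul_eq p hp hn hc hcp 0 y (by simp)
  have h1 := congrArg S.θ h
  rw [map_smul, map_smul, hy, smul_zero, hc] at h1
  have h2 : ε * c ∈ 𝔫 := by
    rw [← Ideal.Quotient.eq_zero_iff_mem, map_mul]
    simpa [Algebra.smul_def] using h1.symm
  refine mem_sat_of_smul ht (mem_sat_of_smul hcp (le_sat _ _ ?_))
  have h3 : c • t • (y : E0) = (ε * c) • (m : E0) := by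
    have := congrArg Subtype.val h
    change t • (y : E0) = ε • (m : E0) at this
    rw [this, smul_smul, mul_comm]
  rw [h3, pow_one]
  exact Submodule.smul_mem_smul h2 Submodule.mem_top

/-- The generator of the closed fibre. -/
theorem exists_base : ∃ s : E0, S.u s ∈ (𝔫 ^ 1 • (⊤ : Submodule B E1)) ∧
    ∀ (y : LinearMap.ker S.u) (b : B), S.θ y = Ideal.Quotient.mk 𝔫 b →
      b • s - (y : E0) ∈ (𝔫 ^ 1 • (⊤ : Submodule B E0)) := by
  obtain ⟨s, hs, hs'⟩ := exists_glue_mod (J := J) S.u (N0 := 𝔫 ^ 1 • ⊤) (N1 := 𝔫 ^ 1 • ⊤) (by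
      intro x hx
      have : S.u x ∈ (𝔫 ^ 1 • (⊤ : Submodule B E0)).map S.u := Submodule.mem_map_of_mem hx
      rw [Submodule.map_smul''] at this
      exact Submodule.smul_mono le_rfl le_top this)
    (S.d0 1) (S.d1 1)
    (ι := {i : LinearMap.ker S.u × B // S.θ i.1 = Ideal.Quotient.mk 𝔫 i.2})
    (fun i => i.1.2) (fun i => (i.1.1 : E0)) (by
      rintro ⟨⟨y, b⟩, h⟩
      have : S.u (y : E0) = 0 := y.2
      simp [this])
    (by
      intro p _ hp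
      by_cases hn : 𝔫 ≤ p
      · obtain ⟨y, b, h, hb⟩ := S.hθ p hp hn
        exact ⟨⟨(y, b), h⟩, hb⟩
      · obtain ⟨a, ha, hap⟩ := SetLike.not_le_iff_exists.1 hn
        exact ⟨⟨(0, a), by simp [Ideal.Quotient.eq_zero_iff_mem.2 ha]⟩, hap⟩)
    (by
      rintro ⟨⟨y, b⟩, h⟩ ⟨⟨y', b'⟩, h'⟩
      simp only at h h' ⊢
      have h1 : S.θ (b' • y - b • y') = 0 := by
        rw [map_sub, map_smul, map_smul, h, h', Algebra.smul_def, Algebra.smul_def,
          Ideal.Quotient.algebraMap_eq, mul_comm, sub_self]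
      simpa using S.ker_theta _ h1)
  exact ⟨s, hs, fun y b h => hs' ⟨(y, b), h⟩⟩

/-- The generator of the closed fibre. -/
noncomputable def s1 : E0 := S.exists_base.choose

theorem u_s1 : S.u S.s1 ∈ (𝔫 ^ 1 • (⊤ : Submodule B E1)) := S.exists_base.choose_spec.1

theorem smul_s1 {y : LinearMap.ker S.u} {b : B} (h : S.θ y = Ideal.Quotient.mk 𝔫 b) :
    b • S.s1 - (y : E0) ∈ (𝔫 ^ 1 • (⊤ : Submodule B E0)) := S.exists_base.choose_spec.2 y b h

theorem ann_s1 {h : B} (hh : h • S.s1 ∈ (𝔫 ^ 1 • (⊤ : Submodule B E0))) : h ∈ 𝔫 := by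
  rw [← pow_one 𝔫]
  apply S.mem_pow_of_sat'
  intro p _ hp hn
  obtain ⟨m, c, hc, hcp⟩ := S.hθ p hp hn
  have h1 : ((h • m : LinearMap.ker S.u) : E0) ∈ (𝔫 ^ 1 • (⊤ : Submodule B E0)) := by
    have h2 := Submodule.smul_mem _ h (S.smul_s1 hc)
    have h3 := Submodule.smul_mem _ c hh
    have h4 : ((h • m : LinearMap.ker S.u) : E0) = c • h • S.s1 - h • (c • S.s1 - (m : E0)) := by
      change h • (m : E0) = _
      rw [smul_sub, smul_comm c h, sub_sub_cancel]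
    rw [h4]
    exact Submodule.sub_mem _ h3 h2
  obtain ⟨t, ε, ht, hε, h5⟩ := S.exists_smul_eq p hp hn hc hcp 1 _ h1
  have h6 := congrArg S.θ h5
  rw [map_smul, map_smul, map_smul, hc] at h6
  have h7 : t * (h * c) - ε * c ∈ 𝔫 := by
    rw [← Ideal.Quotient.eq_zero_iff_mem, map_sub, map_mul, map_mul, map_mul, sub_eq_zero]
    simpa [Algebra.smul_def] using h6
  rw [pow_one] at hε ⊢
  have h8 : (t * c) * h ∈ 𝔫 := by
    have := 𝔫.add_mem h7 (𝔫.mul_mem_right c hε)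
    rw [sub_add_cancel] at this
    rwa [show t * c * h = t * (h * c) by ring]
  exact ⟨t * c, fun h => (Ideal.IsPrime.mem_or_mem ‹_› h).elim ht hcp, h8⟩

/-- Local generators congruent to a given lift of the generator of the closed fibre. -/
theorem exists_local_gen {k : ℕ} (hk : 1 ≤ k) {s : E0} (hs : S.u s ∈ (𝔫 ^ k • (⊤ : Submodule B E1)))
    (hs1 : s - S.s1 ∈ (𝔫 ^ 1 • (⊤ : Submodule B E0))) (p : Ideal B) [p.IsPrime] (hp : ¬ J ≤ p)
    (hn : 𝔫 ≤ p) : ∃ (m : LinearMap.ker S.u) (t c : B), t ∉ p ∧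
      t • s - (m : E0) ∈ (𝔫 ^ k • (⊤ : Submodule B E0)) ∧ S.θ m = Ideal.Quotient.mk 𝔫 c ∧ c ∉ p := by
  obtain ⟨m, t, ht, hm⟩ := S.exists_sub_mem p hp k s hs
  obtain ⟨c, hc⟩ := Ideal.Quotient.mk_surjective (S.θ m)
  refine ⟨m, t, c, ht, hm, hc.symm, fun hcp => ht ?_⟩
  have h1 := S.smul_s1 hc.symm
  have h2 : (c - t) • S.s1 ∈ (𝔫 ^ 1 • (⊤ : Submodule B E0)) := by
    have h3 : (c - t) • S.s1 = (c • S.s1 - (m : E0)) - (t • s - (m : E0)) + t • (s - S.s1) := by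
      rw [sub_smul, smul_sub]
      abel
    rw [h3]
    refine Submodule.add_mem _ (Submodule.sub_mem _ h1 ?_) (Submodule.smul_mem _ _ hs1)
    exact Submodule.smul_mono (Ideal.pow_le_pow_right hk) le_rfl hm
  have h4 := hn (S.ann_s1 h2)
  have := p.sub_mem hcp h4
  rwa [sub_sub_cancel] at this

end Base

end Setup

end K968.LocKey
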