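import Groth.Agent.QGor.K968.LocKey1

/-!
# Lifting a trivialisation of the closed fibre: the inductive step

`q : M → B` with `q (b x) = b^r q x`, `r` invertible, `q` not vanishing at the primes off `V(J)` containing `𝔫`.
-/

set_option autoImplicit false
universe u

open CategoryTheory

namespace K968.LocKey

open K968.Glue

theorem add_pow_of_mul_self {R : Type*} [CommRing R] {g e : R} (he : e * e = 0) (n : ℕ) :
    (g + e) ^ (n + 1) = g ^ (n + 1) + (n + 1) * g ^ n * e := by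
  induction n with
  | zero => simp
  | succ n ih =>
    rw [pow_succ, ih]
    push_cast
    linear_combination ((n + 1) * g ^ n) * he

namespace Setup

variable {B : Type u} [CommRing B] {J 𝔫 : Ideal B} {E0 E1 : Type u} [AddCommGroup E0]
    [Module B E0] [AddCommGroup E1] [Module B E1] (S : Setup B J 𝔫 E0 E1)

variable [IsNoetherianRing B] [Module.Finite B E0] [Module.Finite B E1]

/-- `s` is good at level `k`. -/
structure Good (q : LinearMap.ker S.u → B) (r k : ℕ) (s : E0) : Prop where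
  us : S.u s ∈ (𝔫 ^ k • (⊤ : Submodule B E1))
  s1 : s - S.s1 ∈ (𝔫 ^ 1 • (⊤ : Submodule B E0))
  hP : ∀ (y : LinearMap.ker S.u) (h : B), (y : E0) - h • s ∈ (𝔫 ^ k • (⊤ : Submodule B E0)) →
    q y - h ^ r ∈ 𝔫 ^ k

/-- The first step: normalisation of `q`. -/
theorem exists_good_one (hloc : ∀ x ∈ 𝔫, IsUnit (1 + x)) (q : LinearMap.ker S.u → B) (r : ℕ)
    (hq : ∀ (b : B) (x : LinearMap.ker S.u), q (b • x) = b ^ r * q x)
    (hq' : ∀ (p : Ideal B) [p.IsPrime], ¬ J ≤ p → 𝔫 ≤ p → ∃ y : LinearMap.ker S.u, q y ∉ p) :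
    ∃ w : B, IsUnit w ∧ S.Good (fun y => w * q y) r 1 S.s1 := by
  obtain ⟨w, hw⟩ := exists_glue (J := J) (S.dB 1)
    (ι := {i : LinearMap.ker S.u × B // S.θ i.1 = Ideal.Quotient.mk 𝔫 i.2})
    (fun i => i.1.2 ^ r) (fun i => (Ideal.Quotient.mk (𝔫 ^ 1) (q i.1.1))) (by
      intro p _ hp
      by_cases hn : 𝔫 ≤ p
      · obtain ⟨y, b, h, hb⟩ := S.hθ p hp hn
        exact ⟨⟨(y, b), h⟩, fun h => hb (Ideal.IsPrime.mem_of_pow_mem ‹_› _ h)⟩
      · obtain ⟨a, ha, hap⟩ := SetLike.not_le_iff_exists.1 hn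
        exact ⟨⟨(0, a), by simp [Ideal.Quotient.eq_zero_iff_mem.2 ha]⟩,
          fun h => hap (Ideal.IsPrime.mem_of_pow_mem ‹_› _ h)⟩)
    (by
      rintro ⟨⟨y, b⟩, h⟩ ⟨⟨y', b'⟩, h'⟩
      simp only at h h' ⊢
      have key : b' ^ r * q y - b ^ r * q y' ∈ 𝔫 ^ 1 := by
        apply S.mem_pow_of_sat'
        intro p _ hp hn
        have hpp : p.IsPrime := inferInstance
        obtain ⟨m, c, hc, hcp⟩ := S.hθ p hp hn
        obtain ⟨t, α, ht, -, h1⟩ := S.exists_smul_eq p hp hn hc hcp 0 y (by simp)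
        obtain ⟨t', α', ht', -, h1'⟩ := S.exists_smul_eq p hp hn hc hcp 0 y' (by simp)
        have h2 := congrArg S.θ h1
        have h2' := congrArg S.θ h1'
        rw [map_smul, map_smul, h, hc] at h2
        rw [map_smul, map_smul, h', hc] at h2'
        simp only [Algebra.smul_def, Ideal.Quotient.algebraMap_eq] at h2 h2'
        have h3 := congrArg q h1
        have h3' := congrArg q h1'
        rw [hq, hq] at h3 h3'
        have h4 : (t * t') ^ r * (b' ^ r * q y - b ^ r * q y') ∈ 𝔫 := by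
          rw [← Ideal.Quotient.eq_zero_iff_mem]
          have h5 : (t * t') ^ r * (b' ^ r * q y - b ^ r * q y') =
              ((t' * b') ^ r * α ^ r - (t * b) ^ r * α' ^ r) * q m := by
            rw [mul_pow, mul_pow, mul_pow]
            linear_combination (t' ^ r * b' ^ r) * h3 - (t ^ r * b ^ r) * h3'
          rw [h5]
          simp only [map_mul, map_sub, map_pow]
          rw [h2, h2']
          ring
        refine ⟨(t * t') ^ r, fun hh => ?_, by rw [pow_one]; exact h4⟩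
        exact (hpp.mem_or_mem (hpp.mem_of_pow_mem _ hh)).elim ht ht'
      rw [← Ideal.Quotient.eq_zero_iff_mem] at key
      simp only [map_sub, map_mul, sub_eq_zero] at key
      simpa [Algebra.smul_def] using key)
  obtain ⟨w, rfl⟩ := Ideal.Quotient.mk_surjective w
  have hw' : ∀ (y : LinearMap.ker S.u) (b : B), S.θ y = Ideal.Quotient.mk 𝔫 b →
      b ^ r * w - q y ∈ 𝔫 := by
    intro y b h
    have := hw ⟨(y, b), h⟩
    rw [← pow_one 𝔫, ← Ideal.Quotient.eq_zero_iff_mem, map_sub, map_mul, sub_eq_zero, ← this]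
    simp [Algebra.smul_def]
  obtain ⟨v, hv⟩ := exists_inv_mod (J := J) (𝔫 := 𝔫) (le_of_le_of_eq (S.dB 1) (by rw [pow_one])) (c := w) (by
    intro p _ hp hn hwp
    obtain ⟨y, hy⟩ := hq' p hp hn
    obtain ⟨b, hb⟩ := Ideal.Quotient.mk_surjective (S.θ y)
    have h1 := hn (hw' y b hb.symm)
    apply hy
    have h2 := p.sub_mem (p.mul_mem_left (b ^ r) hwp) h1
    rwa [sub_sub_cancel] at h2)
  have hu : IsUnit w := by
    have h1 := hloc _ hv
    rw [add_sub_cancel] at h1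
    exact isUnit_of_mul_isUnit_left h1
  obtain ⟨w', hw1⟩ := hu.exists_left_inv
  refine ⟨w', IsUnit.of_mul_eq_one _ hw1, S.u_s1, by simp, fun y h hy => ?_⟩
  obtain ⟨b, hb⟩ := Ideal.Quotient.mk_surjective (S.θ y)
  have h1 := S.smul_s1 hb.symm
  have h2 : (b - h) • S.s1 ∈ (𝔫 ^ 1 • (⊤ : Submodule B E0)) := by
    have := Submodule.add_mem _ h1 hy
    rwa [sub_add_sub_cancel, ← sub_smul] at this
  have h3 := S.ann_s1 h2
  have h4 := hw' y b hb.symm
  rw [pow_one]
  rw [← Ideal.Quotient.eq_zero_iff_mem] at h3 h4 ⊢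
  simp only [map_sub, map_mul, map_pow, sub_eq_zero] at h3 h4 ⊢
  have h5 : Ideal.Quotient.mk 𝔫 w' * Ideal.Quotient.mk 𝔫 w = 1 := by
    rw [← map_mul, hw1, map_one]
  rw [← h4, h3, mul_comm (Ideal.Quotient.mk 𝔫 h ^ r), ← mul_assoc, h5, one_mul]

/-- The inductive step. -/
theorem exists_good_succ (q : LinearMap.ker S.u → B) (r : ℕ) (ρ : B) (hr : 0 < r) (hρ : ρ * r = 1)
    (hq : ∀ (b : B) (x : LinearMap.ker S.u), q (b • x) = b ^ r * q x)
    {k : ℕ} (hk : 1 ≤ k) {s : E0} (hs : S.Good q r k s) :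
    ∃ s' : E0, S.Good q r (k + 1) s' ∧ s' - s ∈ (𝔫 ^ k • (⊤ : Submodule B E0)) := by
  obtain ⟨r, rfl⟩ := Nat.exists_eq_succ_of_ne_zero hr.ne'
  rw [Nat.succ_eq_add_one] at *
  -- the local value
  have hρ' : ρ * ((r : B) + 1) = 1 := by
    have := hρ
    push_cast at this
    exact this
  let z : LinearMap.ker S.u → B → LinearMap.ker S.u := fun y f =>
    ((1 + ρ) * f ^ (r + 1) - ρ * q y) • y
  -- key local computation
  have key : ∀ (p : Ideal B) [p.IsPrime], ¬ J ≤ p → 𝔫 ≤ p → ∀ (m : LinearMap.ker S.u) (t c : B),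
      t ∉ p → t • s - (m : E0) ∈ (𝔫 ^ k • (⊤ : Submodule B E0)) → S.θ m = Ideal.Quotient.mk 𝔫 c →
      c ∉ p → ∀ (y : LinearMap.ker S.u) (f : B), (y : E0) - f • s ∈ (𝔫 ^ k • (⊤ : Submodule B E0)) →
      t ^ (r + 2) • (z y f : E0) - (f ^ (r + 2) * (t ^ (r + 1) - ρ * (q m - t ^ (r + 1)))) • (m : E0) ∈
        sat p (𝔫 ^ (k + 1) • (⊤ : Submodule B E0)) := by
    intro p _ hp hn m t c ht hm hc hcp y f hy
    have hpp : p.IsPrime := inferInstance
    have h1 : ((t • y - f • m : LinearMap.ker S.u) : E0) ∈ (𝔫 ^ k • (⊤ : Submodule B E0)) := by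
      have h2 : ((t • y - f • m : LinearMap.ker S.u) : E0) =
          t • ((y : E0) - f • s) + f • (t • s - (m : E0)) := by
        change t • (y : E0) - f • (m : E0) = _
        rw [smul_sub, smul_sub, smul_comm t f s]
        abel
      rw [h2]
      exact Submodule.add_mem _ (Submodule.smul_mem _ _ hy) (Submodule.smul_mem _ _ hm)
    obtain ⟨t₁, ε, ht₁, hε, h3⟩ := S.exists_smul_eq p hp hn hc hcp k _ h1
    have h4 : (t₁ * t) • y = (t₁ * f + ε) • m := by
      rw [add_smul, ← h3, smul_sub, smul_smul, smul_smul]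
      abel
    set δ : B := q m - t ^ (r + 1) with hδ
    have hδ' : δ ∈ 𝔫 ^ k := by
      apply hs.hP m t
      have := Submodule.neg_mem _ hm
      rwa [neg_sub] at this
    have h5 := congrArg q h4
    rw [hq, hq] at h5
    have hqm : q m = t ^ (r + 1) + δ := by rw [hδ]; ring
    -- the coefficient
    have h6 : ((1 + ρ) * f ^ (r + 1) * (t₁ * t) ^ (r + 1) - ρ * ((t₁ * t) ^ (r + 1) * q y)) * (t₁ * f + ε) -
        t₁ ^ (r + 2) * (f ^ (r + 2) * (t ^ (r + 1) - ρ * δ)) ∈ 𝔫 ^ (k + 1) := by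
      rw [h5, hqm, ← Ideal.Quotient.eq_zero_iff_mem]
      have e1 : Ideal.Quotient.mk (𝔫 ^ (k + 1)) ε * Ideal.Quotient.mk (𝔫 ^ (k + 1)) ε = 0 := by
        rw [← map_mul, Ideal.Quotient.eq_zero_iff_mem]
        exact Ideal.pow_le_pow_right (by omega : k + 1 ≤ k + k) (by
          rw [pow_add]; exact Ideal.mul_mem_mul hε hε)
      have e2 : Ideal.Quotient.mk (𝔫 ^ (k + 1)) ε * Ideal.Quotient.mk (𝔫 ^ (k + 1)) δ = 0 := by
        rw [← map_mul, Ideal.Quotient.eq_zero_iff_mem]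
        exact Ideal.pow_le_pow_right (by omega : k + 1 ≤ k + k) (by
          rw [pow_add]; exact Ideal.mul_mem_mul hε hδ')
      have e3 : Ideal.Quotient.mk (𝔫 ^ (k + 1)) ρ * ((r : B ⧸ 𝔫 ^ (k + 1)) + 1) = 1 := by
        have := congrArg (Ideal.Quotient.mk (𝔫 ^ (k + 1))) hρ'
        simpa using this
      simp only [map_mul, map_sub, map_pow, map_add, map_one]
      generalize Ideal.Quotient.mk (𝔫 ^ (k + 1)) ε = ε' at *
      generalize Ideal.Quotient.mk (𝔫 ^ (k + 1)) δ = δ' at *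
      generalize Ideal.Quotient.mk (𝔫 ^ (k + 1)) ρ = ρ' at *
      generalize Ideal.Quotient.mk (𝔫 ^ (k + 1)) t₁ = t₁' at *
      generalize Ideal.Quotient.mk (𝔫 ^ (k + 1)) t = t' at *
      generalize Ideal.Quotient.mk (𝔫 ^ (k + 1)) f = f' at *
      rw [add_pow_of_mul_self (g := t₁' * f') e1 r]
      rw [mul_pow t₁' t', mul_pow t₁' f', mul_pow t₁' f']
      linear_combination (-(ρ' * (r + 1) * t₁' ^ r * f' ^ r * (t' ^ (r + 1) + δ'))) * e1 +
        (-(ρ' * (r + 1) * t₁' ^ (r + 1) * f' ^ (r + 1)) - ρ' * t₁' ^ (r + 1) * f' ^ (r + 1)) * e2 -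
        (t₁' ^ (r + 1) * f' ^ (r + 1) * t' ^ (r + 1) * ε') * e3
    refine ⟨t₁ ^ (r + 2), fun hh => ht₁ (hpp.mem_of_pow_mem _ hh), ?_⟩
    have h7 : t₁ ^ (r + 2) • (t ^ (r + 2) • (z y f : E0) - (f ^ (r + 2) * (t ^ (r + 1) - ρ * δ)) • (m : E0)) =
        (((1 + ρ) * f ^ (r + 1) * (t₁ * t) ^ (r + 1) - ρ * ((t₁ * t) ^ (r + 1) * q y)) * (t₁ * f + ε) -
        t₁ ^ (r + 2) * (f ^ (r + 2) * (t ^ (r + 1) - ρ * δ))) • (m : E0) := by
      have h8 : (t₁ * t) • (y : E0) = (t₁ * f + ε) • (m : E0) := congrArg Subtype.val h4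
      rw [sub_smul, mul_smul _ (t₁ * f + ε) (m : E0), ← h8, smul_sub, smul_smul, smul_smul, smul_smul]
      change _ • (((1 + ρ) * f ^ (r + 1) - ρ * q y) • (y : E0)) - _ = _
      rw [smul_smul]
      congr 2
      ring
    rw [h7]
    exact Submodule.smul_mem_smul h6 Submodule.mem_top
  obtain ⟨s', hs', hs''⟩ := exists_glue_mod (J := J) S.u (N0 := 𝔫 ^ (k + 1) • ⊤) (N1 := 𝔫 ^ (k + 1) • ⊤) (by
      intro x hx
      have : S.u x ∈ (𝔫 ^ (k + 1) • (⊤ : Submodule B E0)).map S.u := Submodule.mem_map_of_mem hx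
      rw [Submodule.map_smul''] at this
      exact Submodule.smul_mono le_rfl le_top this)
    (S.d0 (k + 1)) (S.d1 (k + 1))
    (ι := {i : LinearMap.ker S.u × B // (i.1 : E0) - i.2 • s ∈ (𝔫 ^ k • (⊤ : Submodule B E0))})
    (fun i => i.1.2 ^ (r + 2)) (fun i => (z i.1.1 i.1.2 : E0)) (by
      rintro ⟨⟨y, f⟩, h⟩
      have : S.u (z y f : E0) = 0 := (z y f).2
      simp [this])
    (by
      intro p _ hp
      have hpp : p.IsPrime := inferInstance
      by_cases hn : 𝔫 ≤ p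
      · obtain ⟨m, t, c, ht, hm, hc, hcp⟩ := S.exists_local_gen hk hs.us hs.s1 p hp hn
        refine ⟨⟨(m, t), ?_⟩, fun hh => ht (hpp.mem_of_pow_mem _ hh)⟩
        have := Submodule.neg_mem _ hm
        rwa [neg_sub] at this
      · obtain ⟨a, ha, hap⟩ := SetLike.not_le_iff_exists.1 hn
        refine ⟨⟨(0, a ^ k), ?_⟩, fun hh => hap (hpp.mem_of_pow_mem _ (hpp.mem_of_pow_mem _ hh))⟩
        have : -(a ^ k • s) ∈ (𝔫 ^ k • (⊤ : Submodule B E0)) :=
          Submodule.neg_mem _ (Submodule.smul_mem_smul (Ideal.pow_mem_pow ha k) Submodule.mem_top)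
        simpa using this)
    (by
      rintro ⟨⟨y, f⟩, h⟩ ⟨⟨y', f'⟩, h'⟩
      simp only at h h' ⊢
      apply S.mem_pow_of_sat
      intro p _ hp hn
      have hpp : p.IsPrime := inferInstance
      obtain ⟨m, t, c, ht, hm, hc, hcp⟩ := S.exists_local_gen hk hs.us hs.s1 p hp hn
      have e1 := key p hp hn m t c ht hm hc hcp y f h
      have e2 := key p hp hn m t c ht hm hc hcp y' f' h'
      have htp : t ^ (r + 2) ∉ p := fun hh => ht (hpp.mem_of_pow_mem _ hh)
      refine mem_sat_of_smul htp ?_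
      have e3 := Submodule.sub_mem _ (Submodule.smul_mem _ (f' ^ (r + 2)) e1)
        (Submodule.smul_mem _ (f ^ (r + 2)) e2)
      have e4 : t ^ (r + 2) • (f' ^ (r + 2) • (z y f : E0) - f ^ (r + 2) • (z y' f' : E0)) =
        f' ^ (r + 2) • (t ^ (r + 2) • (z y f : E0) -
          (f ^ (r + 2) * (t ^ (r + 1) - ρ * (q m - t ^ (r + 1)))) • (m : E0)) -
        f ^ (r + 2) • (t ^ (r + 2) • (z y' f' : E0) -
          (f' ^ (r + 2) * (t ^ (r + 1) - ρ * (q m - t ^ (r + 1)))) • (m : E0)) := by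
        module
      rw [e4]
      exact e3)
  -- local formula for `s'`
  have hloc : ∀ (p : Ideal B) [p.IsPrime], ¬ J ≤ p → 𝔫 ≤ p → ∀ (m : LinearMap.ker S.u) (t : B),
      t • s - (m : E0) ∈ (𝔫 ^ k • (⊤ : Submodule B E0)) →
      t ^ (r + 2) • s' - (t ^ (r + 1) - ρ * (q m - t ^ (r + 1))) • (m : E0) ∈
        (𝔫 ^ (k + 1) • (⊤ : Submodule B E0)) := by
    intro p _ hp hn m t hm
    have e1 := hs'' ⟨(m, t), by
      have := Submodule.neg_mem _ hm
      rwa [neg_sub] at this⟩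
    have e2 : (z m t : E0) = (t ^ (r + 1) - ρ * (q m - t ^ (r + 1))) • (m : E0) := by
      change ((1 + ρ) * t ^ (r + 1) - ρ * q m) • (m : E0) = _
      congr 1
      ring
    simp only [e2] at e1
    exact e1
  have hss : s' - s ∈ (𝔫 ^ k • (⊤ : Submodule B E0)) := by
    apply S.mem_pow_of_sat
    intro p _ hp hn
    have hpp : p.IsPrime := inferInstance
    obtain ⟨m, t, c, ht, hm, hc, hcp⟩ := S.exists_local_gen hk hs.us hs.s1 p hp hn
    have e1 := hloc p hp hn m t hm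
    have hδ : q m - t ^ (r + 1) ∈ 𝔫 ^ k := by
      apply hs.hP m t
      have := Submodule.neg_mem _ hm
      rwa [neg_sub] at this
    refine mem_sat_of_smul (t := t ^ (r + 2)) (fun hh => ht (hpp.mem_of_pow_mem _ hh)) (le_sat _ _ ?_)
    have e2 : t ^ (r + 2) • (s' - s) = (t ^ (r + 2) • s' - (t ^ (r + 1) - ρ * (q m - t ^ (r + 1))) • (m : E0)) -
        t ^ (r + 1) • (t • s - (m : E0)) - (ρ * (q m - t ^ (r + 1))) • (m : E0) := by
      module
    rw [e2]
    refine Submodule.sub_mem _ (Submodule.sub_mem _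
      (Submodule.smul_mono (Ideal.pow_le_pow_right (Nat.le_succ k)) le_rfl e1)
      (Submodule.smul_mem _ _ hm)) ?_
    exact Submodule.smul_mem_smul (Ideal.mul_mem_left _ _ hδ) Submodule.mem_top
  refine ⟨s', ⟨hs', ?_, ?_⟩, hss⟩
  · have := Submodule.add_mem _ (Submodule.smul_mono (Ideal.pow_le_pow_right hk) le_rfl hss) hs.s1
    simpa using this
  · intro y h hy
    apply S.mem_pow_of_sat'
    intro p _ hp hn
    have hpp : p.IsPrime := inferInstance
    obtain ⟨m, t, c, ht, hm, hc, hcp⟩ := S.exists_local_gen hk hs.us hs.s1 p hp hn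
    have e1 := hloc p hp hn m t hm
    set δ : B := q m - t ^ (r + 1) with hδ
    have hδ' : δ ∈ 𝔫 ^ k := by
      apply hs.hP m t
      have := Submodule.neg_mem _ hm
      rwa [neg_sub] at this
    have hqm : q m = t ^ (r + 1) + δ := by rw [hδ]; ring
    have e2 : ((t ^ (r + 2) • y - (h * (t ^ (r + 1) - ρ * δ)) • m : LinearMap.ker S.u) : E0) ∈
        (𝔫 ^ (k + 1) • (⊤ : Submodule B E0)) := by
      have e3 : ((t ^ (r + 2) • y - (h * (t ^ (r + 1) - ρ * δ)) • m : LinearMap.ker S.u) : E0) =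
          t ^ (r + 2) • ((y : E0) - h • s') + h • (t ^ (r + 2) • s' - (t ^ (r + 1) - ρ * δ) • (m : E0)) := by
        change t ^ (r + 2) • (y : E0) - (h * (t ^ (r + 1) - ρ * δ)) • (m : E0) = _
        module
      rw [e3]
      exact Submodule.add_mem _ (Submodule.smul_mem _ _ hy) (Submodule.smul_mem _ _ e1)
    obtain ⟨t₁, ε, ht₁, hε, h3⟩ := S.exists_smul_eq p hp hn hc hcp (k + 1) _ e2
    have h4 : (t₁ * t ^ (r + 2)) • y = (t₁ * h * (t ^ (r + 1) - ρ * δ) + ε) • m := by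
      rw [add_smul, ← h3, smul_sub, smul_smul, smul_smul, ← mul_assoc]
      abel
    have h5 := congrArg q h4
    rw [hq, hq, hqm] at h5
    refine ⟨(t₁ * t ^ (r + 2)) ^ (r + 1), fun hh => ?_, ?_⟩
    · exact (hpp.mem_or_mem (hpp.mem_of_pow_mem _ hh)).elim ht₁ fun hh => ht (hpp.mem_of_pow_mem _ hh)
    · rw [smul_eq_mul, mul_sub, h5, ← Ideal.Quotient.eq_zero_iff_mem]
      have e1 : Ideal.Quotient.mk (𝔫 ^ (k + 1)) ε = 0 := by
        rwa [Ideal.Quotient.eq_zero_iff_mem]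
      have e2 : Ideal.Quotient.mk (𝔫 ^ (k + 1)) δ * Ideal.Quotient.mk (𝔫 ^ (k + 1)) δ = 0 := by
        rw [← map_mul, Ideal.Quotient.eq_zero_iff_mem]
        exact Ideal.pow_le_pow_right (by omega : k + 1 ≤ k + k) (by
          rw [pow_add]; exact Ideal.mul_mem_mul hδ' hδ')
      have e3 : Ideal.Quotient.mk (𝔫 ^ (k + 1)) ρ * ((r : B ⧸ 𝔫 ^ (k + 1)) + 1) = 1 := by
        have := congrArg (Ideal.Quotient.mk (𝔫 ^ (k + 1))) hρ'
        simpa using this
      simp only [map_mul, map_sub, map_pow, map_add, e1, add_zero]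
      generalize Ideal.Quotient.mk (𝔫 ^ (k + 1)) δ = δ' at *
      generalize Ideal.Quotient.mk (𝔫 ^ (k + 1)) ρ = ρ' at *
      generalize Ideal.Quotient.mk (𝔫 ^ (k + 1)) t₁ = t₁' at *
      generalize Ideal.Quotient.mk (𝔫 ^ (k + 1)) t = t' at *
      generalize Ideal.Quotient.mk (𝔫 ^ (k + 1)) h = h' at *
      have e4 : (-(ρ' * δ')) * (-(ρ' * δ')) = 0 := by
        linear_combination (ρ' ^ 2) * e2
      have e5 : (t' ^ (r + 1) - ρ' * δ') ^ (r + 1) =
          (t' ^ (r + 1)) ^ (r + 1) - (t' ^ (r + 1)) ^ r * δ' := by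
        rw [sub_eq_add_neg, add_pow_of_mul_self e4 r]
        linear_combination (-((t' ^ (r + 1)) ^ r * δ')) * e3
      rw [mul_pow (t₁' * h'), e5, mul_pow t₁' h', mul_pow t₁' (t' ^ (r + 2))]
      have e6 : (t' ^ (r + 2)) ^ (r + 1) = (t' ^ (r + 1)) ^ (r + 1) * t' ^ (r + 1) := by
        rw [← pow_mul, ← pow_mul, ← pow_add]
        congr 1
        ring
      rw [e6]
      linear_combination (-(t₁' ^ (r + 1) * h' ^ (r + 1) * (t' ^ (r + 1)) ^ r)) * e2

end Setup

end K968.LocKey
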