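import Groth.Agent.QGor.K968.LocKey3
import Groth.Agent.S18726

/-!
# The local key lemma, case (a)

`A → B` a flat local homomorphism of Noetherian local rings, `𝔫 = m_A B`, `depth_J (B / 𝔫) ≥ 3`, `M` a finite
reflexive `B`-module, free off `V(J)` and locally cyclic off `V(J)`, with a map `M → B / 𝔫` which is surjective
off `V(J)`.  Then `M ≃ B`.
-/

set_option autoImplicit false
universe u

open CategoryTheory TensorProduct Groth.Agent.Localalg Groth.Agent.Localalg.Depth
  Groth.Agent.Localalg.Depth2 Groth.Agent.Localalg.Depth3 Groth.Agent.Localalg.DepthLC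

namespace K968.LocKey

open K968.Glue

section LC

variable {R : Type u} [CommRing R] (J : Ideal R) {M' M M'' : Type u} [AddCommGroup M']
  [Module R M'] [AddCommGroup M] [Module R M] [AddCommGroup M''] [Module R M'']

/-- `H^i(M') = 0` and `H^i(M'') = 0` give `H^i(M) = 0`. -/
theorem subsingleton_mid (f : M' →ₗ[R] M) (g : M →ₗ[R] M'') (hf : Function.Injective f)
    (hg : Function.Surjective g) (h : Function.Exact f g) (i : ℕ) (h1 : Subsingleton (LocCoh.H J i M'))
    (h2 : Subsingleton (LocCoh.H J i M'')) : Subsingleton (LocCoh.H J i M) := by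
  obtain ⟨δ, h3, -, -⟩ := LCIface.les J M' M M'' f g hf hg h i
  have key : ∀ x : LocCoh.H J i M, x = 0 := by
    intro x
    obtain ⟨y, rfl⟩ := (h3 x).mp (h2.elim _ _)
    rw [h1.elim y 0, map_zero]
  exact ⟨fun x y => by rw [key x, key y]⟩

/-- `H^{i+1}(M) = 0` and `H^i(M'') = 0` give `H^{i+1}(M') = 0`. -/
theorem subsingleton_left (f : M' →ₗ[R] M) (g : M →ₗ[R] M'') (hf : Function.Injective f)
    (hg : Function.Surjective g) (h : Function.Exact f g) (i : ℕ)
    (h1 : Subsingleton (LocCoh.H J (i + 1) M)) (h2 : Subsingleton (LocCoh.H J i M'')) :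
    Subsingleton (LocCoh.H J (i + 1) M') := by
  obtain ⟨δ, -, -, h3⟩ := LCIface.les J M' M M'' f g hf hg h i
  have key : ∀ x : LocCoh.H J (i + 1) M', x = 0 := by
    intro x
    obtain ⟨y, rfl⟩ := (h3 x).mp (h1.elim _ _)
    rw [h2.elim y 0, map_zero]
  exact ⟨fun x y => by rw [key x, key y]⟩

/-- `H^i`, `i ≥ 2`, does not see modules supported on `V(J)`. -/
theorem subsingleton_of_off [IsNoetherianRing R] [Module.Finite R M'] [Module.Finite R M]
    (f : M' →ₗ[R] M)
    (hk : Module.support R (LinearMap.ker f) ⊆ PrimeSpectrum.zeroLocus (J : Set R))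
    (hc : Module.support R (M ⧸ LinearMap.range f) ⊆ PrimeSpectrum.zeroLocus (J : Set R)) (i : ℕ)
    (h : Subsingleton (LocCoh.H J (i + 2) M)) : Subsingleton (LocCoh.H J (i + 2) M') := by
  have h1 : Subsingleton (LocCoh.H J (i + 2) (LinearMap.range f)) :=
    subsingleton_left J (LinearMap.range f).subtype (LinearMap.range f).mkQ
      (Submodule.subtype_injective _) (Submodule.mkQ_surjective _) (LinearMap.exact_subtype_mkQ _) (i + 1) h
      (LCIface.subsingleton_H_of_torsion J _ (K967.LCSeq.isPowerTorsion_of_support J _ hc) (i + 1)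
        (Nat.succ_pos i))
  refine subsingleton_mid J (LinearMap.ker f).subtype f.rangeRestrict (Submodule.subtype_injective _)
    f.surjective_rangeRestrict ?_ (i + 2)
    (LCIface.subsingleton_H_of_torsion J _ (K967.LCSeq.isPowerTorsion_of_support J _ hk) (i + 2)
      (Nat.succ_pos _)) h1
  intro x
  constructor
  · intro hx
    exact ⟨⟨x, by simpa using congrArg Subtype.val hx⟩, rfl⟩
  · rintro ⟨x, rfl⟩
    ext
    exact x.2

end LC

/-- A submodule criterion for the support to lie in `V(J)`. -/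
theorem support_subset_of_forall {R : Type u} [CommRing R] {J : Ideal R} {K : Type u} [AddCommGroup K]
    [Module R K] (h : ∀ (p : Ideal R) [p.IsPrime], ¬ J ≤ p → ∀ x : K, ∃ t, t ∉ p ∧ t • x = 0) :
    Module.support R K ⊆ PrimeSpectrum.zeroLocus (J : Set R) := by
  intro p hp
  rw [PrimeSpectrum.mem_zeroLocus]
  by_contra hJ
  rw [Module.mem_support_iff'] at hp
  obtain ⟨m, hm⟩ := hp
  obtain ⟨t, ht, htm⟩ := h p.asIdeal hJ m
  exact hm t ht htm

section Main

variable {A B : Type u} [CommRing A] [CommRing B] [IsNoetherianRing A] [IsNoetherianRing B]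
  [IsLocalRing A] [IsLocalRing B] [Algebra A B] [IsLocalHom (algebraMap A B)] [Module.Flat A B]

/-- **The local key lemma, case (a).** -/
theorem iso_of_three_le {J : Ideal B} (h3 : 3 ≤ LocCoh.idealDepth J (B ⧸ EGA4.mB A B))
    (M : Type u) [AddCommGroup M] [Module B M] [Module.Finite B M] [Module.IsReflexive B M]
    (hfree : ∀ q : PrimeSpectrum B, ¬ J ≤ q.asIdeal →
      Module.Free (Localization.AtPrime q.asIdeal) (LocalizedModule q.asIdeal.primeCompl M))
    (hcyc : ∀ (p : Ideal B) [p.IsPrime], ¬ J ≤ p → EGA4.mB A B ≤ p →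
      ∃ y : M, ∀ x : M, ∃ t, t ∉ p ∧ ∃ b : B, t • x = b • y)
    (θ : M →ₗ[B] B ⧸ EGA4.mB A B)
    (hθ : ∀ (p : Ideal B) [p.IsPrime], ¬ J ≤ p → EGA4.mB A B ≤ p →
      ∃ (y : M) (b : B), θ y = Ideal.Quotient.mk _ b ∧ b ∉ p) :
    Nonempty (M ≃ₗ[B] B) := by
  have h2 : 2 ≤ LocCoh.idealDepth J (B ⧸ EGA4.mB A B) := le_trans (by norm_num) h3
  letI : Module A M := Module.compHom M (algebraMap A B)
  haveI : IsScalarTower A B M := ⟨fun a b m => by
    change (a • b) • m = algebraMap A B a • b • m
    rw [Algebra.smul_def, mul_smul]⟩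
  -- the closed fibre
  let θ0 : (M ⧸ ((EGA4.mB A B) • (⊤ : Submodule B M))) →ₗ[B] B ⧸ (EGA4.mB A B) := ((EGA4.mB A B) • (⊤ : Submodule B M)).liftQ θ (by
    rw [Submodule.smul_le]
    intro a ha m _
    rw [LinearMap.mem_ker, map_smul]
    obtain ⟨b, hb⟩ := Ideal.Quotient.mk_surjective (θ m)
    rw [← hb, Algebra.smul_def, Ideal.Quotient.algebraMap_eq, ← map_mul,
      Ideal.Quotient.eq_zero_iff_mem]
    exact (EGA4.mB A B).mul_mem_right _ ha)
  have hk : Module.support B (LinearMap.ker θ0) ⊆ PrimeSpectrum.zeroLocus (J : Set B) := by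
    apply support_subset_of_forall
    rintro p _ hp ⟨x, hx⟩
    have hpp : p.IsPrime := inferInstance
    obtain ⟨x, rfl⟩ := Submodule.mkQ_surjective _ x
    by_cases hn : (EGA4.mB A B) ≤ p
    · obtain ⟨m, hm⟩ := hcyc p hp hn
      obtain ⟨y, c, hy, hc⟩ := hθ p hp hn
      obtain ⟨t, ht, b, hb⟩ := hm x
      obtain ⟨t', ht', b', hb'⟩ := hm y
      obtain ⟨cm, hcm⟩ := Ideal.Quotient.mk_surjective (θ m)
      -- `cm` is a unit at `p`
      have e1 : b' * cm - t' * c ∈ (EGA4.mB A B) := by
        have := congrArg θ hb'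
        rw [map_smul, map_smul, ← hcm, hy] at this
        rw [← Ideal.Quotient.eq_zero_iff_mem, map_sub, map_mul, map_mul, sub_eq_zero]
        simpa [Algebra.smul_def] using this.symm
      have hcmp : cm ∉ p := by
        intro h
        have h4 : t' * c ∈ p := by
          have := p.sub_mem (p.mul_mem_left b' h) (hn e1)
          rwa [sub_sub_cancel] at this
        exact (hpp.mem_or_mem h4).elim ht' hc
      have e2 : b * cm ∈ (EGA4.mB A B) := by
        have h5 : θ x = 0 := hx
        have := congrArg θ hb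
        rw [map_smul, map_smul, ← hcm, h5, smul_zero] at this
        rw [← Ideal.Quotient.eq_zero_iff_mem, map_mul]
        simpa [Algebra.smul_def] using this.symm
      refine ⟨cm * t, fun h => (hpp.mem_or_mem h).elim hcmp ht, ?_⟩
      ext
      change (cm * t) • ((EGA4.mB A B) • (⊤ : Submodule B M)).mkQ x = 0
      rw [← map_smul, Submodule.mkQ_apply, Submodule.Quotient.mk_eq_zero, mul_smul, hb, smul_smul,
        mul_comm cm b]
      exact Submodule.smul_mem_smul e2 Submodule.mem_top
    · obtain ⟨a, ha, hap⟩ := SetLike.not_le_iff_exists.1 hn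
      refine ⟨a, hap, ?_⟩
      ext
      change a • ((EGA4.mB A B) • (⊤ : Submodule B M)).mkQ x = 0
      rw [← map_smul, Submodule.mkQ_apply, Submodule.Quotient.mk_eq_zero]
      exact Submodule.smul_mem_smul ha Submodule.mem_top
  have hc : Module.support B ((B ⧸ (EGA4.mB A B)) ⧸ LinearMap.range θ0) ⊆ PrimeSpectrum.zeroLocus (J : Set B) := by
    apply support_subset_of_forall
    intro p _ hp x
    have hpp : p.IsPrime := inferInstance
    obtain ⟨x, rfl⟩ := Submodule.mkQ_surjective _ x
    obtain ⟨b, rfl⟩ := Ideal.Quotient.mk_surjective x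
    by_cases hn : (EGA4.mB A B) ≤ p
    · obtain ⟨y, c, hy, hc⟩ := hθ p hp hn
      refine ⟨c, hc, ?_⟩
      rw [← map_smul, Submodule.mkQ_apply, Submodule.Quotient.mk_eq_zero]
      refine ⟨b • Submodule.Quotient.mk y, ?_⟩
      rw [map_smul]
      change b • θ y = _
      rw [hy, Algebra.smul_def, Algebra.smul_def, mul_comm]
      rfl
    · obtain ⟨a, ha, hap⟩ := SetLike.not_le_iff_exists.1 hn
      refine ⟨a, hap, ?_⟩
      have : a • (Ideal.Quotient.mk (EGA4.mB A B) b) = 0 := by
        rw [Algebra.smul_def, Ideal.Quotient.algebraMap_eq, ← map_mul, Ideal.Quotient.eq_zero_iff_mem]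
        exact (EGA4.mB A B).mul_mem_right _ ha
      rw [← map_smul, this, map_zero]
  have hH : Subsingleton (LocCoh.H J 2 (M ⧸ ((EGA4.mB A B) • (⊤ : Submodule B M)))) :=
    subsingleton_of_off J θ0 hk hc 0
      (subsingleton_H_of_lt_idealDepth J (B ⧸ (EGA4.mB A B)) 2 (lt_of_lt_of_le (by norm_num) h3))
  obtain ⟨n, m, g, h, hg, hgh, hh⟩ := Groth.Agent.S18709.result B J M hfree
  have hf0 : Module.Flat A (Fin n → B) := Module.Flat.trans A B _
  have hf1 : Module.Flat A (Fin m → B) := Module.Flat.trans A B _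
  have hpi : ∀ k : ℕ, 2 ≤ LocCoh.idealDepth J (EGA4.FibMod A B (Fin k → B)) := fun k =>
    le_idealDepth_quot_pi _ _ _ h2
  obtain ⟨-, hG, -⟩ := Groth.Agent.S18726.result A B J M (Fin n → B) (Fin m → B)
    ((Fin m → B) ⧸ LinearMap.range h) g h (LinearMap.range h).mkQ hg hgh
    (LinearMap.exact_map_mkQ_range h) (Submodule.mkQ_surjective _) (by
      intro q hq
      have h5 := hh q hq
      have h6 : Module.Flat A (Localization.AtPrime q.asIdeal) := Module.Flat.trans A B _
      exact Module.Flat.trans A (Localization.AtPrime q.asIdeal) _)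
    (hpi n) (le_trans (by norm_num) (hpi m)) hH
  let e : M ≃ₗ[B] LinearMap.ker h :=
    (LinearEquiv.ofInjective g hg) ≪≫ₗ LinearEquiv.ofEq _ _ (hgh.linearMap_ker_eq.symm)
  let S : Setup B J (EGA4.mB A B) (Fin n → B) (Fin m → B) :=
    { u := h
      split := fun p _ hp => exists_split h p (hh ⟨p, inferInstance⟩ hp)
      d0 := fun k => le_idealDepth_quot_pi _ _ _ (two_le_quot_pow h2 k)
      d1 := fun k => le_idealDepth_quot_pi _ _ _ (le_trans (by norm_num) (two_le_quot_pow h2 k))
      dB := two_le_quot_pow h2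
      cyc := fun p _ hp hn => by
        obtain ⟨y, hy⟩ := hcyc p hp hn
        refine ⟨e y, fun x => ?_⟩
        obtain ⟨t, ht, b, hb⟩ := hy (e.symm x)
        refine ⟨t, ht, Submodule.mem_span_singleton.2 ⟨b, ?_⟩⟩
        have := congrArg e hb
        rw [map_smul, map_smul, LinearEquiv.apply_symm_apply] at this
        exact this.symm
      θ := θ ∘ₗ e.symm.toLinearMap
      hθ := fun p _ hp hn => by
        obtain ⟨y, b, hy, hb⟩ := hθ p hp hn
        exact ⟨e y, b, by simpa using hy, hb⟩ }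
  obtain ⟨y, hy, hy'⟩ := LiftCrit.exists_sub_mem_ker S.u (LinearMap.range S.u).mkQ
    (Submodule.mkQ_surjective _) (LinearMap.exact_map_mkQ_range S.u) (IsLocalRing.maximalIdeal A)
    (e := S.s1) (by simpa using S.u_s1)
  obtain ⟨e'⟩ := S.iso_of_lift (A := A) fun k => by
    refine ⟨y, ?_, ?_⟩
    · rw [LinearMap.mem_ker.1 hy]
      exact Submodule.zero_mem _
    · have := Submodule.neg_mem _ hy'
      rwa [neg_sub, ← pow_one (Ideal.map (algebraMap A B) (IsLocalRing.maximalIdeal A))] at this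
  exact ⟨e ≪≫ₗ e'⟩

end Main

end K968.LocKey
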